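import Cfsg.Agent.S0813
import Cfsg.Agent.S0254
import Cfsg.Agent.S2119
import Cfsg.Agent.Lib.PSL2.Basic
import Cfsg.Agent.Lib.SchurSmall18.AltSixSeven

/-!
Orders of the socles met in dimension three and of their automorphism groups.
-/

set_option autoImplicit false

namespace CfsgLib.DimThreeMax

open Matrix

abbrev L32 : Type := Matrix.ProjectiveSpecialLinearGroup (Fin 3) (ZMod 2)

theorem card_sl32 : Nat.card (Matrix.SpecialLinearGroup (Fin 3) (ZMod 2)) = 168 := by
  have h := Cfsg.Agent.Classical.card_sl_mul (F := ZMod 2) 3 (by norm_num)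
  rw [Fin.prod_univ_three, ZMod.card] at h
  simp only [Fin.val_zero, Fin.val_one, Fin.val_two] at h
  omega

theorem card_mulAut_l32 : Nat.card (MulAut L32) = 336 := by
  haveI : Fact (Nat.Prime 2) := ⟨Nat.prime_two⟩
  rw [Cfsg.Agent.S0813.result (F := ZMod 2) 2 1 le_rfl (by simp) 3 (by norm_num) (by norm_num),
    Cfsg.Agent.Classical.card_pgl_eq_card_sl, card_sl32]
  rfl

theorem card_l32 : Nat.card L32 = 168 := by
  haveI : Fact (Nat.Prime 2) := ⟨Nat.prime_two⟩
  show Nat.card (Matrix.SpecialLinearGroup (Fin 3) (ZMod 2) ⧸ _) = 168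
  have h := (Subgroup.center (Matrix.SpecialLinearGroup (Fin 3) (ZMod 2))).card_eq_card_quotient_mul_card_subgroup
  have hc : Nat.card (Subgroup.center (Matrix.SpecialLinearGroup (Fin 3) (ZMod 2))) = 1 := by
    rw [Nat.card_congr (Matrix.SpecialLinearGroup.center_equiv_rootsOfUnity (n := Fin 3) (R := ZMod 2)).toEquiv]
    have : Subsingleton (ZMod 2)ˣ := ⟨fun a b => Units.ext (by
      have key : ∀ x y : ZMod 2, x ≠ 0 → y ≠ 0 → x = y := by decide +revert
      exact key _ _ a.ne_zero b.ne_zero)⟩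
    exact Nat.card_of_subsingleton (1 : rootsOfUnity (max (Fintype.card (Fin 3)) 1) (ZMod 2))
  rw [hc, mul_one, card_sl32] at h
  exact h.symm

theorem card_mulAut_alt_six : Nat.card (MulAut (alternatingGroup (Fin 6))) = 1440 := by
  haveI : Fact (Nat.Prime 3) := ⟨by norm_num⟩
  haveI : Fintype (GaloisField 3 2) := Fintype.ofFinite _
  have hF : Fintype.card (GaloisField 3 2) = 3 ^ 2 := by
    rw [← Nat.card_eq_fintype_card, GaloisField.card 3 2 (by norm_num)]
  obtain ⟨e⟩ := Cfsg.Agent.S0254.result (F := GaloisField 3 2) (by rw [hF]; norm_num)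
  rw [← Nat.card_congr (MulAut.congr e).toEquiv,
    Cfsg.Agent.S0813.result (F := GaloisField 3 2) 3 2 (by norm_num) hF 2 le_rfl (by norm_num),
    CfsgLib.PSL2.card_pgl, hF]
  rfl

theorem card_mulAut_alt_seven : Nat.card (MulAut (alternatingGroup (Fin 7))) = 5040 := by
  rw [← Nat.card_eq_of_bijective _ (Cfsg.Agent.S2119.result 7 (by norm_num) (by norm_num)), Nat.card_perm,
    Nat.card_fin]
  rfl

theorem card_alt_six : Nat.card (alternatingGroup (Fin 6)) = 360 := CfsgLib.SchurSmall18.card_six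

theorem card_alt_seven : Nat.card (alternatingGroup (Fin 7)) = 2520 := CfsgLib.SchurSmall18.card_seven

end CfsgLib.DimThreeMax
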