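import Mathlib

/-!
Facts about the alternating groups of degree six and seven used for maximality in dimension three:
element orders, and the absence of automorphisms of a special shape preserving the classes of elements
of order five.
-/

set_option autoImplicit false

namespace CfsgLib.DimThreeMax.AltSix

open Equiv Equiv.Perm

theorem six_dichotomy : ∀ σ : Perm (Fin 6), sign σ = 1 → σ ^ 6 = 1 → σ ^ 2 = 1 ∨ σ ^ 3 = 1 := by
  decide +kernel

/-- No element of order six in `A₆`. -/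
theorem no_six (x : alternatingGroup (Fin 6)) : orderOf x ≠ 6 := by
  intro h
  have h6 : ((x : Perm (Fin 6))) ^ 6 = 1 := by
    rw [← SubmonoidClass.coe_pow, show x ^ 6 = 1 from orderOf_dvd_iff_pow_eq_one.1 (by rw [h])]; rfl
  rw [← Subgroup.orderOf_coe] at h
  rcases six_dichotomy _ (mem_alternatingGroup.1 x.2) h6 with h' | h'
  · have := orderOf_dvd_of_pow_eq_one h'; rw [h] at this; norm_num at this
  · have := orderOf_dvd_of_pow_eq_one h'; rw [h] at this; norm_num at this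

/-- No element of order ten in `Aₙ`, `n ≤ 7`. -/
theorem no_ten {n : ℕ} (hn : n ≤ 7) (x : alternatingGroup (Fin n)) : orderOf x ≠ 10 := by
  intro h
  set σ : Perm (Fin n) := (x : Perm (Fin n)) with hσ
  have ho : orderOf σ = 10 := by rw [hσ, Subgroup.orderOf_coe, h]
  set s := σ.cycleType with hs
  have hsum : s.sum ≤ 7 := by
    rw [hs, sum_cycleType]
    exact le_trans (by simpa using Finset.card_le_univ σ.support) hn
  have hparts : ∀ i ∈ s, i = 2 ∨ i = 5 := by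
    intro i hi
    have hd : i ∣ 10 := ho ▸ dvd_of_mem_cycleType hi
    have hle : i ≤ 7 := le_trans (Multiset.le_sum_of_mem hi) hsum
    have h2 : 2 ≤ i := two_le_of_mem_cycleType hi
    interval_cases i <;> simp_all
  have hne : ∀ d, ¬ 10 ∣ d → ∃ i ∈ s, ¬ i ∣ d := by
    intro d hd
    by_contra hc
    push Not at hc
    apply hd
    rw [← ho, ← lcm_cycleType]
    exact Multiset.lcm_dvd.2 hc
  obtain ⟨i, hi, hi2⟩ := hne 2 (by norm_num)
  obtain ⟨j, hj, hj2⟩ := hne 5 (by norm_num)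
  have hi5 : i = 5 := (hparts i hi).resolve_left fun e => hi2 (e ▸ dvd_rfl)
  have hj5 : j = 2 := (hparts j hj).resolve_right fun e => hj2 (e ▸ dvd_rfl)
  subst hi5 hj5
  obtain ⟨t, ht⟩ := Multiset.exists_cons_of_mem hi
  have hj' : 2 ∈ t := by
    rw [ht, Multiset.mem_cons] at hj
    exact hj.resolve_left (by norm_num)
  obtain ⟨r, hr⟩ := Multiset.exists_cons_of_mem hj'
  have hr0 : r = 0 := by
    refine Multiset.eq_zero_of_forall_notMem fun k hk => ?_
    have hk2 : 2 ≤ k := two_le_of_mem_cycleType (σ := σ) (by rw [← hs, ht, hr]; simp [hk])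
    have := Multiset.le_sum_of_mem hk
    rw [ht, hr, Multiset.sum_cons, Multiset.sum_cons] at hsum
    omega
  have hsg : sign σ = 1 := mem_alternatingGroup.1 x.2
  rw [sign_of_cycleType, ← hs, ht, hr, hr0] at hsg
  exact absurd hsg (by decide)

theorem card_cases {σ : Perm (Fin 6)} {p : ℕ} [Fact p.Prime] (h : σ ^ p = 1) (h1 : σ ≠ 1) :
    ∃ k : ℕ, σ.cycleType = Multiset.replicate (k + 1) p ∧ (k + 1) * p ≤ 6 := by
  obtain ⟨k, hk⟩ := cycleType_prime_order (σ := σ)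
    (by rw [orderOf_eq_prime h h1]; exact Fact.out)
  rw [orderOf_eq_prime h h1] at hk
  refine ⟨k, hk, ?_⟩
  have := sum_cycleType σ
  rw [hk, Multiset.sum_replicate, smul_eq_mul] at this
  rw [this]
  simpa using Finset.card_le_univ σ.support

/-- The standard five-cycle. -/
def five : Perm (Fin 6) := c[0, 1, 2, 3, 4]

theorem five_pow : five ^ 5 = 1 := by decide +kernel

theorem five_ne : five ≠ 1 := by decide +kernel

theorem five_even : sign five = 1 := by decide +kernel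

/-- The five-cycle as an element of `A₆`. -/
def fiveA : alternatingGroup (Fin 6) := ⟨five, mem_alternatingGroup.2 five_even⟩

theorem fiveA_pow : fiveA ^ 5 = 1 := Subtype.ext (by simpa [fiveA] using five_pow)

/-- The two classes of elements of order five. -/
theorem isConj_five {w : alternatingGroup (Fin 6)} (h : w ^ 5 = 1) (h1 : w ≠ 1) :
    IsConj fiveA w ∨ IsConj (fiveA ^ 2) w := by
  haveI : Fact (Nat.Prime 5) := ⟨by norm_num⟩
  have hw : ((w : Perm (Fin 6))) ^ 5 = 1 := by rw [← SubmonoidClass.coe_pow, h]; rfl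
  have hw1 : (w : Perm (Fin 6)) ≠ 1 := fun e => h1 (Subtype.ext e)
  obtain ⟨k, hk, hk'⟩ := card_cases hw hw1
  obtain ⟨l, hl, hl'⟩ := card_cases five_pow five_ne
  obtain rfl : k = 0 := by omega
  obtain rfl : l = 0 := by omega
  obtain ⟨σ, hσ⟩ := isConj_iff.1 (isConj_iff_cycleType_eq.2 (hl.trans hk.symm))
  rcases Int.units_eq_one_or (sign σ) with hs | hs
  · exact Or.inl (isConj_iff.2 ⟨⟨σ, mem_alternatingGroup.2 hs⟩, Subtype.ext (by simpa [fiveA] using hσ)⟩)
  · let τ : Perm (Fin 6) := c[1, 2, 4, 3]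
    have hτ : τ * five ^ 2 * τ⁻¹ = five ∨ τ⁻¹ * five ^ 2 * τ = five := by decide +kernel
    have hts : sign τ = -1 := by decide +kernel
    rcases hτ with hτ | hτ
    · refine Or.inr (isConj_iff.2 ⟨⟨σ * τ, mem_alternatingGroup.2 (by simp [hs, hts])⟩, Subtype.ext ?_⟩)
      simp only [fiveA, Subgroup.coe_mul, SubmonoidClass.coe_pow, Subgroup.coe_inv]
      rw [show σ * τ * five ^ 2 * (σ * τ)⁻¹ = σ * (τ * five ^ 2 * τ⁻¹) * σ⁻¹ by group, hτ, hσ]
    · refine Or.inr (isConj_iff.2 ⟨⟨σ * τ⁻¹, mem_alternatingGroup.2 (by simp [hs, hts])⟩, Subtype.ext ?_⟩)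
      simp only [fiveA, Subgroup.coe_mul, SubmonoidClass.coe_pow, Subgroup.coe_inv]
      rw [show σ * τ⁻¹ * five ^ 2 * (σ * τ⁻¹)⁻¹ = σ * (τ⁻¹ * five ^ 2 * τ) * σ⁻¹ by group, hτ, hσ]

/-- Among the pairs moved by the two prescribed maps, one mixes the two classes of elements of order three. -/
def Mixed (a b : Perm (Fin 6)) : Prop :=
  let fx : Perm (Fin 6) → Prop := fun z => ∃ i, z i = i
  ¬ (fx a ↔ fx b⁻¹) ∨ ¬ (fx b ↔ fx a) ∨ ¬ (fx (a * b) ↔ fx (a * b⁻¹)) ∨
  ¬ (fx a ↔ fx (a⁻¹ * b⁻¹)) ∨ ¬ (fx b ↔ fx (a⁻¹ * b)) ∨ ¬ (fx (a * b) ↔ fx a)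

instance (a b : Perm (Fin 6)) : Decidable (Mixed a b) := by unfold Mixed; infer_instance

theorem mixed_std_one : ∀ b : Perm (Fin 6), b ^ 3 = 1 → b * c[0, 1, 2] = c[0, 1, 2] * b → b ≠ 1 →
    b ≠ c[0, 1, 2] → b ≠ c[0, 1, 2]⁻¹ → Mixed c[0, 1, 2] b := by decide +kernel

theorem mixed_std_two : ∀ b : Perm (Fin 6), b ^ 3 = 1 → b * (c[0, 1, 2] * c[3, 4, 5]) = c[0, 1, 2] * c[3, 4, 5] * b →
    b ≠ 1 → b ≠ c[0, 1, 2] * c[3, 4, 5] → b ≠ (c[0, 1, 2] * c[3, 4, 5])⁻¹ →
    Mixed (c[0, 1, 2] * c[3, 4, 5]) b := by decide +kernel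

theorem fix_conj (σ z : Perm (Fin 6)) : (∃ i, (σ * z * σ⁻¹) i = i) ↔ ∃ i, z i = i := by
  constructor
  · rintro ⟨i, hi⟩
    refine ⟨σ⁻¹ i, σ.injective ?_⟩
    simpa using hi
  · rintro ⟨i, hi⟩
    exact ⟨σ i, by simp [hi]⟩

theorem mixed {a b : Perm (Fin 6)} (ha : a ^ 3 = 1) (hb : b ^ 3 = 1) (hab : a * b = b * a) (ha1 : a ≠ 1)
    (hb1 : b ≠ 1) (hba : b ≠ a) (hba' : b ≠ a⁻¹) : Mixed a b := by
  haveI : Fact (Nat.Prime 3) := ⟨by norm_num⟩
  obtain ⟨k, hk, hk'⟩ := card_cases ha ha1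
  have key : ∀ a₀, a.cycleType = a₀.cycleType →
      (∀ b : Perm (Fin 6), b ^ 3 = 1 → b * a₀ = a₀ * b → b ≠ 1 → b ≠ a₀ → b ≠ a₀⁻¹ → Mixed a₀ b) →
      Mixed a b := by
    intro a₀ h0 hstd
    obtain ⟨σ, hσ⟩ := isConj_iff.1 (isConj_iff_cycleType_eq.2 h0)
    set m : MulAut (Perm (Fin 6)) := MulAut.conj σ with hm
    have hma : m a = a₀ := by simpa [hm] using hσ
    have h := hstd (m b) (by rw [← map_pow, hb, map_one])
      (by rw [← hma, ← map_mul, ← map_mul, hab]) (by simpa using hb1)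
      (by rw [← hma]; exact fun e => hba (m.injective e))
      (by rw [← hma, ← map_inv]; exact fun e => hba' (m.injective e))
    unfold Mixed at h ⊢
    simp only [← hma, ← map_inv, ← map_mul] at h
    simpa only [hm, MulAut.conj_apply, fix_conj] using h
  obtain rfl | rfl : k = 0 ∨ k = 1 := by omega
  · exact key c[0, 1, 2] (by rw [hk]; decide +kernel) mixed_std_one
  · exact key (c[0, 1, 2] * c[3, 4, 5]) (by rw [hk]; decide +kernel) mixed_std_two

theorem commuting_std : ∀ u : Perm (Fin 6), u ^ 3 = 1 → u * c[0, 1, 2] = c[0, 1, 2] * u → ¬ (∃ i, u i = i) →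
    u = c[0, 1, 2] * c[3, 4, 5] ∨ u = c[0, 1, 2] * c[3, 5, 4] ∨ u = c[0, 2, 1] * c[3, 4, 5] ∨
      u = c[0, 2, 1] * c[3, 5, 4] := by decide +kernel

/-- The three word orders which exclude the image of the five-cycle. -/
def Good (u w : Perm (Fin 6)) : Prop :=
  ∀ k ∈ [2, 3, 4, 5], (u * five) ^ k = 1 →
    ¬ ((u * w) ^ 5 = 1 ∧ ((c[0, 1, 2] : Perm (Fin 6))⁻¹ * w) ^ k = 1 ∧ (u * w ^ 2) ^ 2 = 1)

instance (u w : Perm (Fin 6)) : Decidable (Good u w) := by unfold Good; infer_instance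

theorem good_one : ∀ σ : Perm (Fin 6), sign σ = 1 → Good (c[0, 1, 2] * c[3, 4, 5]) (σ * five * σ⁻¹) := by
  decide +kernel

theorem good_two : ∀ σ : Perm (Fin 6), sign σ = 1 → Good (c[0, 1, 2] * c[3, 5, 4]) (σ * five * σ⁻¹) := by
  decide +kernel

theorem good_three : ∀ σ : Perm (Fin 6), sign σ = 1 → Good (c[0, 2, 1] * c[3, 4, 5]) (σ * five * σ⁻¹) := by
  decide +kernel

theorem good_four : ∀ σ : Perm (Fin 6), sign σ = 1 → Good (c[0, 2, 1] * c[3, 5, 4]) (σ * five * σ⁻¹) := by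
  decide +kernel

theorem word_facts : (c[0, 1, 2] * five) ^ 5 = 1 ∧ (c[0, 1, 2] * five ^ 2) ^ 2 = 1 := by
  decide +kernel

theorem word_exp : ∀ u ∈ [c[0, 1, 2] * c[3, 4, 5], c[0, 1, 2] * c[3, 5, 4], c[0, 2, 1] * c[3, 4, 5],
    c[0, 2, 1] * c[3, 5, 4]], ∃ k ∈ [2, 3, 4, 5], (u * five) ^ k = 1 := by
  decide +kernel

/-- An automorphism preserving the classes of elements of order five does not rotate a commuting pair of
a three-cycle and a product of two three-cycles. -/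
theorem no_rotation (θ : MulAut (alternatingGroup (Fin 6)))
    (hcl : ∀ x : alternatingGroup (Fin 6), x ^ 5 = 1 → IsConj x (θ x))
    (t u : alternatingGroup (Fin 6)) (ht3 : t ^ 3 = 1) (hu3 : u ^ 3 = 1) (htu : t * u = u * t) (ht1 : t ≠ 1)
    (ht : ∃ i, (t : Perm (Fin 6)) i = i) (hu : ¬ ∃ i, (u : Perm (Fin 6)) i = i)
    (h1 : θ t = u) (h2 : θ u = t⁻¹) : False := by
  haveI : Fact (Nat.Prime 3) := ⟨by norm_num⟩
  have ht' : ((t : Perm (Fin 6))) ^ 3 = 1 := by rw [← SubmonoidClass.coe_pow, ht3]; rfl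
  obtain ⟨k, hk, hk'⟩ := card_cases ht' (fun e => ht1 (Subtype.ext e))
  obtain rfl : k = 0 := by
    rcases (show k = 0 ∨ k = 1 by omega) with h | h
    · exact h
    exfalso
    subst h
    obtain ⟨i, hi⟩ := ht
    have hs := sum_cycleType (t : Perm (Fin 6))
    rw [hk] at hs
    have hlt : (t : Perm (Fin 6)).support.card < 6 := by
      have := Finset.card_lt_univ_of_notMem (s := (t : Perm (Fin 6)).support) (x := i) (by simpa using hi)
      simpa using this
    simp at hs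
    omega
  obtain ⟨σ, hσ⟩ := isConj_iff.1 (isConj_iff_cycleType_eq.2
    (show (t : Perm (Fin 6)).cycleType = (c[0, 1, 2] : Perm (Fin 6)).cycleType by rw [hk]; decide +kernel))
  set m : MulAut (alternatingGroup (Fin 6)) := MulAut.conjNormal σ with hm
  set T : alternatingGroup (Fin 6) := m t with hT
  set U : alternatingGroup (Fin 6) := m u with hU
  set φ : MulAut (alternatingGroup (Fin 6)) := m * θ * m⁻¹ with hφ
  have hmi : ∀ x, m⁻¹ (m x) = x := fun x => m.symm_apply_apply x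
  have hφT : φ T = U := by
    simp only [hφ, MulAut.mul_apply, hT, hmi, h1, hU]
  have hφU : φ U = T⁻¹ := by
    simp only [hφ, MulAut.mul_apply, hU, hmi, h2, map_inv, hT]
  have hTc : (T : Perm (Fin 6)) = c[0, 1, 2] := by
    rw [hT, hm, MulAut.conjNormal_apply, hσ]
  have hUu : (U : Perm (Fin 6)) = σ * (u : Perm (Fin 6)) * σ⁻¹ := by
    rw [hU, hm, MulAut.conjNormal_apply]
  have hUm := commuting_std (U : Perm (Fin 6))
    (by rw [← SubmonoidClass.coe_pow, hU, ← map_pow, hu3, map_one]; rfl)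
    (by rw [← hTc, ← Subgroup.coe_mul, ← Subgroup.coe_mul, hT, hU, ← map_mul, ← map_mul, htu])
    (by rw [hUu, fix_conj]; exact hu)
  have hsig : m (m⁻¹ fiveA) = fiveA := m.apply_symm_apply fiveA
  have hc : IsConj fiveA (φ fiveA) := by
    have := MonoidHom.map_isConj m.toMonoidHom (hcl (m⁻¹ fiveA) (by rw [← map_pow, fiveA_pow, map_one]))
    simpa [hφ, hsig] using this
  obtain ⟨⟨ρ, hρ⟩, hρc⟩ := isConj_iff.1 hc
  have hw : ((φ fiveA : alternatingGroup (Fin 6)) : Perm (Fin 6)) = ρ * five * ρ⁻¹ := by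
    rw [← hρc]; rfl
  have hgood : Good (U : Perm (Fin 6)) (ρ * five * ρ⁻¹) := by
    have hρ' := mem_alternatingGroup.1 hρ
    rcases hUm with e | e | e | e <;> rw [e]
    · exact good_one ρ hρ'
    · exact good_two ρ hρ'
    · exact good_three ρ hρ'
    · exact good_four ρ hρ'
  obtain ⟨l, hl, hlw⟩ : ∃ l ∈ [2, 3, 4, 5], ((U : Perm (Fin 6)) * five) ^ l = 1 :=
    word_exp _ (by rcases hUm with e | e | e | e <;> simp [e])
  have move : ∀ (x : alternatingGroup (Fin 6)) (n : ℕ), ((x : Perm (Fin 6))) ^ n = 1 →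
      ((φ x : alternatingGroup (Fin 6)) : Perm (Fin 6)) ^ n = 1 := by
    intro x n hx
    have : x ^ n = 1 := Subtype.ext (by simpa using hx)
    rw [← SubmonoidClass.coe_pow, ← map_pow, this, map_one]; rfl
  refine hgood l hl hlw ⟨?_, ?_, ?_⟩
  · have := move (T * fiveA) 5 (by simpa [hTc, fiveA] using word_facts.1)
    simpa [hφT, hw] using this
  · have := move (U * fiveA) l (by simpa [fiveA] using hlw)
    simpa [hφU, hw, hTc] using this
  · have := move (T * fiveA ^ 2) 2 (by simpa [hTc, fiveA] using word_facts.2)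
    simpa [hφT, hw] using this

/-- No two automorphisms preserving the classes of elements of order five induce the two given maps
on an elementary abelian group of order nine. -/
theorem no_pair (θ₁ θ₂ : MulAut (alternatingGroup (Fin 6)))
    (hcl₁ : ∀ x : alternatingGroup (Fin 6), x ^ 5 = 1 → IsConj x (θ₁ x))
    (hcl₂ : ∀ x : alternatingGroup (Fin 6), x ^ 5 = 1 → IsConj x (θ₂ x))
    {a b : alternatingGroup (Fin 6)} (ha : a ^ 3 = 1) (hb : b ^ 3 = 1) (hab : a * b = b * a) (ha1 : a ≠ 1)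
    (hb1 : b ≠ 1) (hba : b ≠ a) (hba' : b ≠ a⁻¹)
    (h1a : θ₁ a = b⁻¹) (h1b : θ₁ b = a) (h2a : θ₂ a = a⁻¹ * b⁻¹) (h2b : θ₂ b = a⁻¹ * b) : False := by
  have c3 : ∀ {x : alternatingGroup (Fin 6)}, x ^ 3 = 1 → ((x : Perm (Fin 6))) ^ 3 = 1 := fun hx => by
    rw [← SubmonoidClass.coe_pow, hx]; rfl
  have hm := mixed (c3 ha) (c3 hb) (by rw [← Subgroup.coe_mul, hab]; rfl) (fun e => ha1 (Subtype.ext e))
    (fun e => hb1 (Subtype.ext e)) (fun e => hba (Subtype.ext e))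
    (fun e => hba' (Subtype.ext (by simpa using e)))
  have hinv : ∀ z : alternatingGroup (Fin 6),
      (∃ i, ((z⁻¹ : alternatingGroup (Fin 6)) : Perm (Fin 6)) i = i) ↔ ∃ i, (z : Perm (Fin 6)) i = i := by
    intro z
    simp only [Subgroup.coe_inv, Perm.inv_eq_iff_eq]
    exact exists_congr fun i => eq_comm
  have kill : ∀ (θ : MulAut (alternatingGroup (Fin 6))),
      (∀ x : alternatingGroup (Fin 6), x ^ 5 = 1 → IsConj x (θ x)) →
      ∀ z w : alternatingGroup (Fin 6), z ^ 3 = 1 → z * w = w * z → z ≠ 1 → θ z = w → θ w = z⁻¹ →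
      ((∃ i, (z : Perm (Fin 6)) i = i) ↔ ∃ i, (w : Perm (Fin 6)) i = i) := by
    intro θ hcl z w hz3 hzw hz1 e1 e2
    have hw3 : w ^ 3 = 1 := by rw [← e1, ← map_pow, hz3, map_one]
    have hw1 : w ≠ 1 := by rw [← e1]; simpa using hz1
    by_contra hne
    by_cases hfz : ∃ i, (z : Perm (Fin 6)) i = i
    · exact no_rotation θ hcl z w hz3 hw3 hzw hz1 hfz (fun h => hne (iff_of_true hfz h)) e1 e2
    · have hfw : ∃ i, (w : Perm (Fin 6)) i = i := by
        by_contra h; exact hne (iff_of_false hfz h)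
      refine no_rotation θ hcl w z⁻¹ hw3 (by rw [inv_pow, hz3, inv_one]) ?_ hw1 hfw ?_ e2
        (by rw [map_inv, e1])
      · exact ((Commute.inv_right (show Commute w z from hzw.symm))).eq
      · rwa [hinv]
  have hcomm : Commute a b := hab
  have p3 : ∀ {x y : alternatingGroup (Fin 6)}, Commute x y → x ^ 3 = 1 → y ^ 3 = 1 → (x * y) ^ 3 = 1 :=
    fun h hx hy => by rw [h.mul_pow, hx, hy, one_mul]
  have e1ab : θ₁ (a * b) = a * b⁻¹ := by
    rw [map_mul, h1a, h1b]; exact (hcomm.inv_right).eq.symm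
  have e1ab' : θ₁ (a * b⁻¹) = (a * b)⁻¹ := by
    rw [map_mul, map_inv, h1a, h1b, mul_inv_rev]
  have e2ab : θ₂ (a * b) = a := by
    have e : b⁻¹ * a⁻¹ = a⁻¹ * b⁻¹ := (hcomm.inv_left.inv_right).eq.symm
    have e2 : a⁻¹ * a⁻¹ = a := by
      rw [← mul_inv_rev, inv_eq_iff_mul_eq_one, ← pow_two, ← pow_succ, ha]
    calc θ₂ (a * b) = a⁻¹ * b⁻¹ * (a⁻¹ * b) := by rw [map_mul, h2a, h2b]
      _ = a⁻¹ * (b⁻¹ * a⁻¹) * b := by group
      _ = a⁻¹ * a⁻¹ := by rw [e]; group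
      _ = a := e2
  have hab1 : a * b ≠ 1 := fun e => hba' (eq_inv_of_mul_eq_one_right e)
  have hA : a * b⁻¹ ≠ 1 := fun e => hba (mul_inv_eq_one.1 e).symm
  have k1 := kill θ₁ hcl₁ a b⁻¹ ha hcomm.inv_right.eq ha1 h1a (by rw [map_inv, h1b])
  have k2 := kill θ₁ hcl₁ b a hb hab.symm hb1 h1b h1a
  have k3 := kill θ₁ hcl₁ (a * b) (a * b⁻¹) (p3 hcomm ha hb)
    (((Commute.refl a).mul_left hcomm.symm).mul_right ((hcomm.inv_right).mul_left (Commute.refl b).inv_right)).eq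
    hab1 e1ab e1ab'
  have k4 := kill θ₂ hcl₂ a (a⁻¹ * b⁻¹) ha ((Commute.refl a).inv_right.mul_right hcomm.inv_right).eq ha1 h2a (by
    rw [← mul_inv_rev, map_inv, ← hab, e2ab])
  have k5 := kill θ₂ hcl₂ b (a⁻¹ * b) hb (hcomm.symm.inv_right.mul_right (Commute.refl b)).eq hb1 h2b (by
    rw [map_mul, map_inv, h2a, h2b, mul_inv_rev, inv_inv, inv_inv, mul_assoc, ← mul_assoc a a⁻¹,
      mul_inv_cancel, one_mul, ← pow_two, eq_inv_iff_mul_eq_one, ← pow_succ, hb])
  have k6 := kill θ₂ hcl₂ (a * b) a (p3 hcomm ha hb) ((Commute.refl a).mul_left hcomm.symm).eq hab1 e2ab (by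
    rw [h2a, ← mul_inv_rev, ← hab])
  simp only [Subgroup.coe_mul, Subgroup.coe_inv] at k1 k2 k3 k4 k5 k6
  rcases hm with h | h | h | h | h | h
  · exact h k1
  · exact h k2
  · exact h k3
  · exact h k4
  · exact h k5
  · exact h k6

end CfsgLib.DimThreeMax.AltSix
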