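import Cfsg.Agent.Lib.DimThreeMax.Basic
import Cfsg.Prelude.Def_GeometricClasses

/-!
Arithmetical facts used for the maximality in dimension three.
-/

set_option autoImplicit false

namespace CfsgLib.DimThreeMax

open scoped MatrixGroups

variable {F : Type*} [Field F] [Fintype F]

theorem dvd_of_sq_dvd_1008 {n : ℕ} (h : n ^ 2 ∣ 1008) : n ∣ 12 := by
  have hn : n < 32 := by
    by_contra hc
    push Not at hc
    have := Nat.le_of_dvd (by norm_num) h
    nlinarith
  exact (by decide +kernel : ∀ m < 32, m ^ 2 ∣ 1008 → m ∣ 12) n hn h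

theorem dvd_of_sq_dvd_4320 {n : ℕ} (h : n ^ 2 ∣ 4320) : n ∣ 12 := by
  have hn : n < 66 := by
    by_contra hc
    push Not at hc
    have := Nat.le_of_dvd (by norm_num) h
    nlinarith
  exact (by decide +kernel : ∀ m < 66, m ^ 2 ∣ 4320 → m ∣ 12) n hn h

theorem two_ne_zero_of_odd (h : Odd (Fintype.card F)) : (2 : F) ≠ 0 := by
  refine Ring.two_ne_zero (R := F) fun h' => ?_
  have := FiniteField.even_card_of_char_two h'
  have := Nat.odd_iff.1 h
  omega

/-- Facts about a subfield of prime index. -/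
theorem subfield_facts {F₀ : Subfield F} {r : ℕ} (hr : r.Prime) (hcard : Fintype.card F = Nat.card F₀ ^ r) :
    2 ≤ Nat.card F₀ ∧ Nat.card F₀ ^ 2 ≤ Fintype.card F ∧ F₀ ≠ ⊤ ∧ ¬ (Fintype.card F).Prime := by
  haveI : Finite F₀ := Subtype.finite
  have h1 : 2 ≤ Nat.card F₀ := Finite.one_lt_card
  refine ⟨h1, hcard ▸ Nat.pow_le_pow_right (by omega) hr.two_le, fun htop => ?_, fun hp => ?_⟩
  · have e : Nat.card F₀ = Fintype.card F := by
      rw [htop, ← Nat.card_eq_fintype_card]
      exact Nat.card_congr Subfield.topEquiv.toEquiv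
    rw [e] at hcard
    have := Nat.pow_right_injective (show 2 ≤ Fintype.card F from Fintype.one_lt_card)
      (show Fintype.card F ^ 1 = Fintype.card F ^ r by rw [pow_one]; exact hcard)
    exact hr.one_lt.ne this
  · rw [hcard] at hp
    exact Nat.Prime.not_prime_pow hr.two_le hp

/-- The order of a non-trivial `p`-group divides no number prime to `p`. -/
theorem pgroup_not_dvd {p N : ℕ} (hp : p.Prime) {T : Subgroup (GL (Fin 3) F)} (hT : IsPGroup p T)
    (h2 : 2 ≤ Nat.card T) (hN : ¬ p ∣ N) : ¬ Nat.card T ∣ N := by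
  haveI : Fact p.Prime := ⟨hp⟩
  obtain ⟨k, hk⟩ := IsPGroup.iff_card.1 hT
  rintro h
  rw [hk] at h h2
  rcases Nat.eq_zero_or_pos k with rfl | hk0
  · simp at h2
  · exact hN ((dvd_pow_self p hk0.ne').trans h)

theorem exists_sq_of_sq_eq_cube {q s : ℕ} (h : s * s = q ^ 3) : ∃ t, q = t ^ 2 ∧ s = t ^ 3 := by
  obtain ⟨t, ht⟩ : IsSquare q := by
    rcases eq_or_ne q 0 with rfl | hq
    · exact ⟨0, rfl⟩
    have hdvd : q ∣ s := (Nat.pow_dvd_pow_iff two_ne_zero).1 (by rw [pow_two s, h]; exact pow_dvd_pow q (by norm_num))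
    obtain ⟨k, rfl⟩ := hdvd
    refine ⟨k, ?_⟩
    have : q ^ 2 * (k * k) = q ^ 2 * q := by rw [← pow_succ, ← h]; ring
    exact (Nat.eq_of_mul_eq_mul_left (by positivity) this).symm
  refine ⟨t, by rw [ht, pow_two], ?_⟩
  have h2 : s ^ 2 = (t ^ 3) ^ 2 := by rw [pow_two s, h, ht]; ring
  exact Nat.pow_left_injective two_ne_zero h2

end CfsgLib.DimThreeMax
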