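import Cfsg.Agent.Lib.Geo.AschProper
import Cfsg.Agent.Lib.GeomClasses.Transport

/-!
Maximality in three-dimensional classical groups: general tools.
-/

set_option autoImplicit false

namespace CfsgLib.DimThreeMax

open Matrix
open scoped MatrixGroups

section Group

variable {G : Type*} [Group G] [Finite G]

/-- A proper subgroup of `K` lies in a maximal one. -/
theorem exists_maximalIn_ge {K M : Subgroup G} (h : M < K) :
    ∃ H, Cfsg.Geo.IsMaximalIn K H ∧ M ≤ H := by
  obtain ⟨H, ⟨h1, h2⟩, hmax⟩ := (Set.toFinite {H : Subgroup G | M ≤ H ∧ H < K}).exists_maximal ⟨M, le_rfl, h⟩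
  refine ⟨H, ⟨h2, fun X hX hXK => ?_⟩, h1⟩
  rcases eq_or_lt_of_le hXK with h' | h'
  · exact Or.inr h'
  · exact Or.inl (le_antisymm (hmax ⟨h1.trans hX, h'⟩ hX) hX)

/-- Maximality from: the only maximal subgroup containing `N` is `N`. -/
theorem isMaximalIn_of_forall {K N : Subgroup G} (h : N < K)
    (h' : ∀ H, Cfsg.Geo.IsMaximalIn K H → N ≤ H → H = N) : Cfsg.Geo.IsMaximalIn K N := by
  obtain ⟨H, hH, hle⟩ := exists_maximalIn_ge h
  exact h' H hH hle ▸ hH

/-- Comparable subgroups of the same order are equal. -/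
theorem eq_of_le_of_card {N H : Subgroup G} (h : N ≤ H) (hc : Nat.card H = Nat.card N) : H = N :=
  (SetLike.coe_injective (Set.eq_of_subset_of_ncard_le h (le_of_eq hc) (Set.toFinite _))).symm

end Group

variable {F : Type*} [Field F]

theorem det_eq_one_of_mem {g : GL (Fin 3) F} (h : g ∈ Cfsg.Geo.specialLinear (Fin 3) F) :
    (g : Matrix (Fin 3) (Fin 3) F).det = 1 := GeomClasses.mem_specialLinear.1 h

/-- The diagonal element. -/
def dg (u : Fin 3 → Fˣ) : GL (Fin 3) F :=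
  Units.map (Matrix.diagonalRingHom (Fin 3) F).toMonoidHom
    ⟨fun i => u i, fun i => ↑(u i)⁻¹, funext fun i => by simp, funext fun i => by simp⟩

theorem dg_val (u : Fin 3 → Fˣ) :
    (dg u : Matrix (Fin 3) (Fin 3) F) = Matrix.diagonal fun i => (u i : F) := rfl

theorem dg_mulVec (u : Fin 3 → Fˣ) (v : Fin 3 → F) :
    (dg u : Matrix (Fin 3) (Fin 3) F) *ᵥ v = fun i => (u i : F) * v i := by
  funext i
  rw [dg_val, Matrix.mulVec_diagonal]

theorem dg_mul (u v : Fin 3 → Fˣ) : dg u * dg v = dg (u * v) :=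
  Units.ext (by simp [dg_val, Matrix.diagonal_mul_diagonal])

theorem dg_one : dg (1 : Fin 3 → Fˣ) = 1 := Units.ext (by simp [dg_val])

theorem dg_pow (u : Fin 3 → Fˣ) (k : ℕ) : dg u ^ k = dg (u ^ k) := by
  induction k with
  | zero => rw [pow_zero, pow_zero, dg_one]
  | succ k ih => rw [pow_succ, pow_succ, ih, dg_mul]

theorem dg_det (u : Fin 3 → Fˣ) : (dg u : Matrix (Fin 3) (Fin 3) F).det = u 0 * u 1 * u 2 := by
  rw [dg_val, Matrix.det_diagonal, Fin.prod_univ_three]

theorem dg_mem_scalars {u : Fin 3 → Fˣ} (h : dg u ∈ Cfsg.Geo.scalars (Fin 3) F) :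
    u 0 = u 1 ∧ u 1 = u 2 := by
  obtain ⟨c, hc⟩ := (Cfsg.Geo.mem_scalars_iff _).1 h
  have : ∀ i, (u i : F) = c := fun i => by
    have := congrFun (congrFun hc i) i
    simpa [dg_val] using this
  exact ⟨Units.ext ((this 0).trans (this 1).symm), Units.ext ((this 1).trans (this 2).symm)⟩

/-- The cyclic permutation matrix. -/
def shiftMat (F : Type*) [Field F] : Matrix (Fin 3) (Fin 3) F := !![0, 0, 1; 1, 0, 0; 0, 1, 0]

theorem shiftMat_det : (shiftMat F).det = 1 := by
  simp [shiftMat, Matrix.det_fin_three]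

/-- The cyclic permutation. -/
def shift (F : Type*) [Field F] : GL (Fin 3) F :=
  Matrix.GeneralLinearGroup.mkOfDetNeZero (shiftMat F) (by rw [shiftMat_det]; exact one_ne_zero)

theorem shift_val : (shift F : Matrix (Fin 3) (Fin 3) F) = shiftMat F := rfl

theorem shift_mulVec (v : Fin 3 → F) :
    (shift F : Matrix (Fin 3) (Fin 3) F) *ᵥ v = ![v 2, v 0, v 1] := by
  funext i
  fin_cases i <;> simp [shift_val, shiftMat, Matrix.mulVec, dotProduct, Fin.sum_univ_three]

theorem shift_mul_dg (u : Fin 3 → Fˣ) : shift F * dg u = dg ![u 2, u 0, u 1] * shift F := by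
  apply GeomClasses.gl_ext
  intro x
  rw [GeomClasses.gl_mul_mulVec, GeomClasses.gl_mul_mulVec, dg_mulVec, dg_mulVec, shift_mulVec,
    shift_mulVec]
  funext i
  fin_cases i <;> simp

theorem shift_conj_dg {H : Subgroup (GL (Fin 3) F)} (hs : shift F ∈ H) {u : Fin 3 → Fˣ} (h : dg u ∈ H) :
    dg ![u 2, u 0, u 1] ∈ H := by
  rw [show dg ![u 2, u 0, u 1] = shift F * dg u * (shift F)⁻¹ by rw [shift_mul_dg, mul_inv_cancel_right]]
  exact H.mul_mem (H.mul_mem hs h) (H.inv_mem hs)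

/-- Members of a subfield subgroup. -/
theorem mem_subfieldSubgroup {ι : Type} [Fintype ι] [DecidableEq ι] {F₀ : Subfield F} {P g : GL ι F}
    (h : g ∈ Cfsg.Geo.subfieldSubgroup F₀ P) :
    ∃ (X : GL ι F₀) (c : Fˣ),
      ((P⁻¹ * g * P : GL ι F) : Matrix ι ι F) = (c : F) • (X : Matrix ι ι F₀).map (fun a : F₀ => (a : F)) := by
  obtain ⟨y, hy, rfl⟩ := h
  haveI := Cfsg.Geo.scalars_normal (ι := ι) (F := F)
  obtain ⟨z, ⟨X, rfl⟩, s, hs, rfl⟩ := Subgroup.mem_sup_of_normal_right.1 hy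
  obtain ⟨c, hc⟩ := (Cfsg.Geo.mem_scalars_iff s).1 hs
  refine ⟨X, c, ?_⟩
  rw [show P⁻¹ * (MulAut.conj P).toMonoidHom (Matrix.GeneralLinearGroup.map
      (F₀.subtype : F₀ →+* F) X * s) * P = Matrix.GeneralLinearGroup.map (F₀.subtype : F₀ →+* F) X * s by
    simp only [MulEquiv.coe_toMonoidHom, MulAut.conj_apply]; group]
  rw [Units.val_mul, hc, Matrix.mul_smul, mul_one]
  rfl

end CfsgLib.DimThreeMax
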