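import Cfsg.Agent.Lib.DimThreeMax.Basic

/-!
The normaliser of an absolutely irreducible group of order 27 contains no non-scalar element of prime
order at least five, and no non-scalar four-group.
-/

set_option autoImplicit false

namespace CfsgLib.DimThreeMax

open Matrix
open scoped MatrixGroups

variable {F : Type*} [Field F]

local notation "Z₃" => Cfsg.Geo.scalars (Fin 3) F

/-- An absolutely irreducible group of order 27 with centre of order three. -/
structure Extra27 (R : Subgroup (GL (Fin 3) F)) : Prop where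
  card : Nat.card R = 27
  center : Nat.card (Subgroup.center R) = 3
  irred : Cfsg.Geo.ActsAbsolutelyIrreducibly (Cfsg.Geo.matrixSet R)

namespace Extra27

variable {R : Subgroup (GL (Fin 3) F)} (h : Extra27 R)
include h

theorem finite : Finite R := Nat.finite_of_card_ne_zero (by rw [h.card]; norm_num)

theorem scalar_of_comm {g : GL (Fin 3) F} (hg : ∀ x ∈ R, g * x = x * g) : g ∈ Z₃ := by
  obtain ⟨c, hc⟩ := h.irred.2 g.val (by
    rintro s ⟨x, hx, rfl⟩
    exact congrArg Units.val (hg x hx))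
  have hc0 : c ≠ 0 := by
    rintro rfl
    rw [zero_smul] at hc
    exact g.ne_zero hc
  exact (Cfsg.Geo.mem_scalars_iff g).2 ⟨Units.mk0 c hc0, hc⟩

theorem center_scalar {x : R} (hx : x ∈ Subgroup.center R) : (x : GL (Fin 3) F) ∈ Z₃ :=
  h.scalar_of_comm fun y hy => (congrArg Subtype.val (Subgroup.mem_center_iff.1 hx ⟨y, hy⟩)).symm

theorem scalar_center {x : R} (hx : (x : GL (Fin 3) F) ∈ Z₃) : x ∈ Subgroup.center R :=
  Subgroup.mem_center_iff.2 fun y => Subtype.ext (by
    obtain ⟨c, hc⟩ := (Cfsg.Geo.mem_scalars_iff _).1 hx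
    apply Units.ext
    simp [hc])

theorem comm_center (x y : R) : x * y * x⁻¹ * y⁻¹ ∈ Subgroup.center R := by
  haveI := h.finite
  haveI : Fact (Nat.Prime 3) := ⟨Nat.prime_three⟩
  have hq : Nat.card (R ⧸ Subgroup.center R) = 3 ^ 2 := by
    have := (Subgroup.center R).card_eq_card_quotient_mul_card_subgroup
    rw [h.card, h.center] at this
    omega
  haveI := IsPGroup.isMulCommutative_of_card_eq_prime_sq hq
  rw [← QuotientGroup.eq_one_iff]
  simp only [QuotientGroup.mk_mul, QuotientGroup.mk_inv]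
  rw [IsMulCommutative.is_comm.comm (x : R ⧸ Subgroup.center R) (y : R ⧸ Subgroup.center R)]
  group

theorem pow_27 (x : R) : x ^ 27 = 1 := by
  rw [← h.card]; exact pow_card_eq_one'

theorem eq_one_of_sq {x : R} (hx : x ^ 2 = 1) : x = 1 := by
  have := pow_gcd_eq_one.2 ⟨hx, h.pow_27 x⟩
  simpa using this

theorem center_of_sq {x : R} (hx : x ^ 2 ∈ Subgroup.center R) : x ∈ Subgroup.center R := by
  have e : x = (x ^ 2) ^ 14 * (x ^ 27)⁻¹ := by
    rw [← pow_mul, show 2 * 14 = 1 + 27 from rfl, pow_add, pow_one, mul_inv_cancel_right]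
  rw [e, h.pow_27 x, inv_one, mul_one]
  exact pow_mem hx 14

/-- Conjugation by a normalising element. -/
theorem exists_conj {g : GL (Fin 3) F} (hg : g ∈ Cfsg.Geo.subgroupNormalizer R) :
    ∃ φ : MulAut R, ∀ x : R, (φ x : GL (Fin 3) F) = g * x * g⁻¹ := by
  have hg' : ∀ x, x ∈ R ↔ g * x * g⁻¹ ∈ R := fun x => Subgroup.mem_normalizer_iff.1 hg x
  refine ⟨{ toFun := fun x => ⟨_, (hg' x).1 x.2⟩
            invFun := fun x => ⟨g⁻¹ * x * g, (hg' _).2 (by simp [mul_assoc])⟩
            left_inv := fun x => Subtype.ext (by simp [mul_assoc])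
            right_inv := fun x => Subtype.ext (by simp [mul_assoc])
            map_mul' := fun x y => Subtype.ext (by simp [mul_assoc]) }, fun x => rfl⟩

/-- A non-scalar element of prime order at least five does not normalise it. -/
theorem prime_scalar {g : GL (Fin 3) F} (hg : g ∈ Cfsg.Geo.subgroupNormalizer R) {ℓ : ℕ} (hℓ : ℓ.Prime)
    (h5 : 5 ≤ ℓ) (hgℓ : g ^ ℓ = 1) : g ∈ Z₃ := by
  classical
  haveI := h.finite
  haveI : Fintype R := Fintype.ofFinite _
  haveI : Fact ℓ.Prime := ⟨hℓ⟩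
  obtain ⟨φ, hφ⟩ := h.exists_conj hg
  have hpow : ∀ (k : ℕ) (x : R), (((φ : Equiv.Perm R) ^ k) x : GL (Fin 3) F) = g ^ k * x * (g ^ k)⁻¹ := by
    intro k
    induction k with
    | zero => intro x; simp
    | succ k ih =>
      intro x
      rw [pow_succ', Equiv.Perm.mul_apply]
      show (φ (((φ : Equiv.Perm R) ^ k) x) : GL (Fin 3) F) = _
      rw [hφ, ih]; group
  set σ : Equiv.Perm R := (φ : Equiv.Perm R) with hσ
  by_cases h1 : σ = 1
  · refine h.scalar_of_comm fun x hx => ?_
    have e := congrArg (fun τ : Equiv.Perm R => (τ ⟨x, hx⟩ : GL (Fin 3) F)) h1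
    simp only [Equiv.Perm.one_apply] at e
    rw [show (σ ⟨x, hx⟩ : GL (Fin 3) F) = _ from hφ ⟨x, hx⟩] at e
    exact mul_inv_eq_iff_eq_mul.1 e
  exfalso
  have hσℓ : σ ^ ℓ = 1 := by
    refine Equiv.ext fun x => Subtype.ext ?_
    rw [hpow, hgℓ]; simp
  obtain ⟨k, hk⟩ := Equiv.Perm.cycleType_prime_order (σ := σ) (by rw [orderOf_eq_prime hσℓ h1]; exact hℓ)
  rw [orderOf_eq_prime hσℓ h1] at hk
  have hsupp : σ.support.card = (k + 1) * ℓ := by
    rw [← Equiv.Perm.sum_cycleType, hk, Multiset.sum_replicate, smul_eq_mul]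
  let C : Subgroup R := φ.toMonoidHom.eqLocus (MonoidHom.id R)
  have hC : Nat.card C + σ.support.card = 27 := by
    rw [← h.card, Nat.card_eq_fintype_card (α := R), Nat.card_eq_fintype_card,
      ← Finset.card_compl_add_card σ.support]
    congr 1
    rw [Fintype.card_subtype]
    congr 1
    ext x
    simp only [C, σ, Finset.mem_compl, Equiv.Perm.mem_support, not_not, Finset.mem_filter, Finset.mem_univ, true_and]
    exact Iff.rfl
  have hcen : Subgroup.center R ≤ C := fun x hx => Subtype.ext (by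
    show (φ x : GL (Fin 3) F) = x
    obtain ⟨c, hc⟩ := (Cfsg.Geo.mem_scalars_iff _).1 (h.center_scalar hx)
    rw [hφ, mul_inv_eq_iff_eq_mul]
    apply Units.ext
    simp [hc])
  have h3 : 3 ≤ Nat.card C := (le_of_eq h.center.symm).trans (Subgroup.card_le_of_le hcen)
  have hd : Nat.card C ∣ 27 := h.card ▸ Subgroup.card_subgroup_dvd_card C
  rw [hsupp] at hC
  have hdiv : ℓ ∣ 27 - Nat.card C := ⟨k + 1, by rw [mul_comm ℓ]; omega⟩
  rcases (Nat.dvd_prime_pow Nat.prime_three (i := Nat.card C) (m := 3)).1 (by simpa using hd) with ⟨j, hj, hj'⟩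
  rw [hj'] at hdiv h3 hC
  interval_cases j
  · omega
  · exact absurd ((hℓ.dvd_mul).1 (show ℓ ∣ 8 * 3 by simpa using hdiv)) (by
      rintro (h8 | h8) <;> have := Nat.le_of_dvd (by norm_num) h8 <;> interval_cases ℓ <;> simp_all (config := { decide := true }))
  · exact absurd ((hℓ.dvd_mul).1 (show ℓ ∣ 2 * 9 by simpa using hdiv)) (by
      rintro (h8 | h8) <;> have := Nat.le_of_dvd (by norm_num) h8 <;> interval_cases ℓ <;> simp_all (config := { decide := true }))
  · have : 1 * ℓ ≤ (k + 1) * ℓ := Nat.mul_le_mul_right _ (by omega)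
    omega

/-- A non-scalar involution inverts it modulo the centre. -/
theorem involution_inverts {z : GL (Fin 3) F} (hz : z ∈ Cfsg.Geo.subgroupNormalizer R) (hz2 : z ^ 2 = 1)
    (hzs : z ∉ Z₃) (φ : MulAut R) (hφ : ∀ x : R, (φ x : GL (Fin 3) F) = z * x * z⁻¹) (s : R) :
    s * φ s ∈ Subgroup.center R := by
  classical
  haveI := h.finite
  have hφ2 : ∀ x, φ (φ x) = x := fun x => Subtype.ext (by
    rw [pow_two] at hz2
    rw [hφ, hφ, ← mul_assoc, ← mul_assoc, hz2, one_mul, mul_assoc, ← _root_.mul_inv_rev, hz2, inv_one, mul_one])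
  have hcen : ∀ c ∈ Subgroup.center R, φ c = c := fun c hc => Subtype.ext (by
    obtain ⟨a, ha⟩ := (Cfsg.Geo.mem_scalars_iff _).1 (h.center_scalar hc)
    rw [hφ, mul_inv_eq_iff_eq_mul]
    apply Units.ext
    simp [ha])
  set t : R := s * φ s with ht
  by_contra htc
  have hw := h.comm_center (φ s) s
  have e1 : φ t = φ s * s * (φ s)⁻¹ * s⁻¹ * t := by
    rw [ht, map_mul, hφ2]; group
  have hfix : φ t = t := by
    set w := φ s * s * (φ s)⁻¹ * s⁻¹
    have e2 : t = w * (w * t) := by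
      conv_lhs => rw [← hφ2 t, e1, map_mul, hcen w hw, e1]
    have hw2 : w ^ 2 = 1 := by
      rw [← mul_assoc] at e2
      rw [pow_two]
      exact (mul_eq_right (b := t)).1 e2.symm
    rw [e1, show w = 1 from h.eq_one_of_sq hw2, one_mul]
  -- the centraliser of `t` is fixed
  let C : Subgroup R := φ.toMonoidHom.eqLocus (MonoidHom.id R)
  let K : Subgroup R := Subgroup.zpowers t ⊔ Subgroup.center R
  have hKC : K ≤ C := sup_le (Subgroup.zpowers_le.2 hfix) fun c hc => hcen c hc
  let T : Subgroup R := Subgroup.centralizer {t}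
  have hKT : K ≤ T := sup_le (Subgroup.zpowers_le.2 (Subgroup.mem_centralizer_singleton_iff.2 rfl))
    fun c hc => Subgroup.mem_centralizer_singleton_iff.2 (Subgroup.mem_center_iff.1 hc t).symm
  have hT : T ≠ ⊤ := fun e => htc (Subgroup.mem_center_iff.2 fun y => by
    have hy := Subgroup.mem_top y
    rw [← e] at hy
    exact Subgroup.mem_centralizer_singleton_iff.1 hy)
  have hTK : T = K := by
    refine (eq_of_le_of_card hKT ?_)
    have k1 : Nat.card K ∣ 27 := h.card ▸ Subgroup.card_subgroup_dvd_card K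
    have k2 : Nat.card T ∣ 27 := h.card ▸ Subgroup.card_subgroup_dvd_card T
    have k3 : 3 < Nat.card K := by
      rcases lt_or_eq_of_le (h.center ▸ Subgroup.card_le_of_le (show Subgroup.center R ≤ K from le_sup_right)) with h' | h'
      · exact h'
      exact absurd (eq_of_le_of_card (show Subgroup.center R ≤ K from le_sup_right) (h'.symm.trans h.center.symm))
        (fun e => htc (e ▸ Subgroup.mem_sup_left (Subgroup.mem_zpowers t)))
    have k4 : Nat.card T < 27 := lt_of_le_of_ne (Nat.le_of_dvd (by norm_num) k2) fun e =>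
      hT ((Subgroup.card_eq_iff_eq_top T).1 (e.trans h.card.symm))
    have k5 := Subgroup.card_le_of_le hKT
    obtain ⟨i, hi, hi'⟩ := (Nat.dvd_prime_pow Nat.prime_three (m := 3)).1 (by simpa using k1)
    obtain ⟨j, hj, hj'⟩ := (Nat.dvd_prime_pow Nat.prime_three (m := 3)).1 (by simpa using k2)
    rw [hi'] at k3 k5 ⊢; rw [hj'] at k4 k5 ⊢
    interval_cases i <;> interval_cases j <;> simp_all
  apply hzs
  refine h.scalar_of_comm fun x hx => ?_
  set x' : R := ⟨x, hx⟩ with hx'
  have hd : x'⁻¹ * φ x' ∈ T := by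
    refine Subgroup.mem_centralizer_singleton_iff.2 ?_
    have hc := h.comm_center t x'
    have e := hcen _ hc
    rw [map_mul, map_mul, map_mul, map_inv, map_inv, hfix] at e
    set y := φ x'
    have ey : t * y * t⁻¹ = t * x' * t⁻¹ * x'⁻¹ * y := by
      rw [← e]; group
    have : t * (x'⁻¹ * y) * t⁻¹ = x'⁻¹ * y := by
      calc t * (x'⁻¹ * y) * t⁻¹ = (t * x' * t⁻¹)⁻¹ * (t * y * t⁻¹) := by group
        _ = (t * x' * t⁻¹)⁻¹ * ((t * x' * t⁻¹ * x'⁻¹) * y) := by rw [ey]
        _ = x'⁻¹ * y := by group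
    exact ((mul_inv_eq_iff_eq_mul.1 this)).symm
  rw [hTK] at hd
  have hd' : φ (x'⁻¹ * φ x') = x'⁻¹ * φ x' := hKC hd
  rw [map_mul, map_inv, hφ2] at hd'
  have hsq : (x'⁻¹ * φ x') ^ 2 = 1 := by
    rw [pow_two]
    conv_lhs => arg 1; rw [← hd']
    group
  have := h.eq_one_of_sq hsq
  rw [inv_mul_eq_one] at this
  have := congrArg Subtype.val this.symm
  rw [hφ] at this
  exact mul_inv_eq_iff_eq_mul.1 this

/-- No non-scalar four-group normalises it. -/
theorem no_four_group {g k : GL (Fin 3) F} (hg : g ∈ Cfsg.Geo.subgroupNormalizer R)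
    (hk : k ∈ Cfsg.Geo.subgroupNormalizer R) (hg2 : g ^ 2 = 1) (hk2 : k ^ 2 = 1) (hgk : g * k = k * g)
    (hgs : g ∉ Z₃) (hks : k ∉ Z₃) (hgks : g * k ∉ Z₃) : False := by
  haveI := h.finite
  obtain ⟨φ, hφ⟩ := h.exists_conj hg
  obtain ⟨ψ, hψ⟩ := h.exists_conj hk
  have hgk' : g * k ∈ Cfsg.Geo.subgroupNormalizer R := mul_mem hg hk
  have hgk2 : (g * k) ^ 2 = 1 := by rw [(show Commute g k from hgk).mul_pow, hg2, hk2, one_mul]
  have hcom : ∀ x : R, ((φ * ψ) x : GL (Fin 3) F) = g * k * x * (g * k)⁻¹ := fun x => by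
    rw [MulAut.mul_apply, hφ, hψ]; group
  have hall : ∀ x : R, x ∈ Subgroup.center R := by
    intro x
    apply h.center_of_sq
    have a := h.involution_inverts hg hg2 hgs φ hφ (ψ x)
    have b := h.involution_inverts hk hk2 hks ψ hψ x
    have c := h.involution_inverts hgk' hgk2 hgks (φ * ψ) hcom x
    rw [MulAut.mul_apply] at c
    -- `x * ψ x`, `ψ x * φ (ψ x)` and `x * φ (ψ x)` are central
    set w := φ (ψ x)
    rw [← QuotientGroup.eq_one_iff, QuotientGroup.mk_mul] at a b c
    rw [← QuotientGroup.eq_one_iff, QuotientGroup.mk_pow, pow_two]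
    have e1 : ((ψ x : R) : R ⧸ Subgroup.center R) = ((w : R) : R ⧸ Subgroup.center R)⁻¹ :=
      eq_inv_of_mul_eq_one_left a
    have e2 : ((x : R) : R ⧸ Subgroup.center R) = ((w : R) : R ⧸ Subgroup.center R)⁻¹ :=
      eq_inv_of_mul_eq_one_left c
    rw [e1, ← e2] at b
    exact b
  have := h.center
  rw [show Subgroup.center R = ⊤ from eq_top_iff.2 fun x _ => hall x, Subgroup.card_top, h.card] at this
  norm_num at this

end Extra27

end CfsgLib.DimThreeMax
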