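import Cfsg.Agent.Lib.DimThreeMax.Basic
import Cfsg.Agent.Lib.GeomClasses.OrthTools
import Cfsg.Agent.Lib.GeomClasses.Unit
import Cfsg.Agent.Lib.GeomClasses.UnitPow
import Cfsg.Agent.Lib.Geo.AschForms

/-!
Normal forms of three-dimensional decompositions and forms, and transport of the structure groups.
-/

set_option autoImplicit false

namespace CfsgLib.DimThreeMax

open Matrix GeomClasses
open scoped MatrixGroups

variable {F : Type*} [Field F]

/-- The matrix with the given independent columns. -/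
theorem exists_columns {v : Fin 3 → (Fin 3 → F)} (hv : LinearIndependent F v) :
    ∃ P : GL (Fin 3) F, ∀ x : Fin 3 → F, P.val *ᵥ x = ∑ i, x i • v i := by
  let M : Matrix (Fin 3) (Fin 3) F := Matrix.of fun i j => v j i
  have hM : ∀ x : Fin 3 → F, M *ᵥ x = ∑ i, x i • v i := fun x => by
    funext k
    simp [M, Matrix.mulVec, dotProduct, mul_comm]
  have hu : IsUnit M := Matrix.mulVec_injective_iff_isUnit.1 fun x y h => by
    rw [hM, hM] at h
    have h' : ∑ i, (x i - y i) • v i = 0 := by simp [sub_smul, Finset.sum_sub_distrib, h]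
    funext i
    exact sub_eq_zero.1 (Fintype.linearIndependent_iff.1 hv _ h' i)
  exact ⟨hu.unit, fun x => hM x⟩

/-- Transport by a change of coordinates. -/
def conjMap (P : GL (Fin 3) F) : GL (Fin 3) F →* GL (Fin 3) F := (MulAut.conj P).toMonoidHom

theorem conjMap_apply (P g : GL (Fin 3) F) : conjMap P g = P * g * P⁻¹ := rfl

theorem mem_map_conjMap {P g : GL (Fin 3) F} {H : Subgroup (GL (Fin 3) F)} :
    g ∈ H.map (conjMap P) ↔ P⁻¹ * g * P ∈ H := by
  constructor
  · rintro ⟨h, hh, rfl⟩; rw [conjMap_apply]; simpa [mul_assoc] using hh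
  · intro h; exact ⟨_, h, by rw [conjMap_apply]; group⟩

theorem card_map_conjMap (P : GL (Fin 3) F) (H : Subgroup (GL (Fin 3) F)) :
    Nat.card (H.map (conjMap P)) = Nat.card H :=
  Nat.card_congr (H.equivMapOfInjective (conjMap P) (MulAut.conj P).injective).toEquiv.symm

theorem specialLinear_map (P : GL (Fin 3) F) :
    (Cfsg.Geo.specialLinear (Fin 3) F).map (conjMap P) = Cfsg.Geo.specialLinear (Fin 3) F :=
  map_conj_specialLinear P

theorem map_inf_specialLinear (P : GL (Fin 3) F) (H : Subgroup (GL (Fin 3) F)) :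
    H.map (conjMap P) ⊓ Cfsg.Geo.specialLinear (Fin 3) F = (H ⊓ Cfsg.Geo.specialLinear (Fin 3) F).map (conjMap P) := by
  rw [Subgroup.map_inf _ _ _ (MulAut.conj P).injective, specialLinear_map]

/-- The coordinate lines. -/
def axes (F : Type*) [Field F] : Fin 3 → Submodule F (Fin 3 → F) := fun i => Submodule.span F {Pi.single i 1}

theorem axes_decomposition : Cfsg.Geo.IsMDecomposition 1 (axes F) where
  two_le := by norm_num
  pos := one_pos
  finrank_eq i := finrank_span_singleton (by simp)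
  indep := by
    have h : LinearIndependent F fun i : Fin 3 => (Pi.single i (1 : F) : Fin 3 → F) := by
      rw [Fintype.linearIndependent_iff]
      intro g hg i
      have := congrFun hg i
      simpa [Finset.sum_apply, Pi.single_apply] using this
    exact h.iSupIndep_span_singleton
  iSup_eq_top := by
    refine eq_top_iff.2 fun x _ => ?_
    rw [pi_eq_sum_univ' x]
    exact Submodule.sum_mem _ fun i _ => Submodule.smul_mem _ _
      ((le_iSup (axes F) i) (Submodule.mem_span_singleton_self _))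

/-- Vectors spanning the members of a decomposition into lines. -/
theorem decomposition_vectors {D : Fin 3 → Submodule F (Fin 3 → F)} (hD : Cfsg.Geo.IsMDecomposition 1 D) :
    ∃ v : Fin 3 → (Fin 3 → F), LinearIndependent F v ∧ ∀ i, D i = Submodule.span F {v i} := by
  have hv : ∀ i, ∃ v, v ≠ 0 ∧ D i = Submodule.span F {v} := by
    intro i
    obtain ⟨v, hv, hv0⟩ := Submodule.exists_mem_ne_zero_of_ne_bot (p := D i) fun h => by
      have := hD.finrank_eq i
      rw [h, finrank_bot] at this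
      omega
    refine ⟨v, hv0, (Submodule.eq_of_le_of_finrank_eq ((Submodule.span_singleton_le_iff_mem _ _).2 hv) ?_).symm⟩
    rw [finrank_span_singleton hv0, hD.finrank_eq]
  choose v hv0 hv using hv
  exact ⟨v, hD.indep.linearIndependent D (fun i => by rw [hv i]; exact Submodule.mem_span_singleton_self _) hv0, hv⟩

theorem stabilizer_eq_map {P : GL (Fin 3) F} {D : Fin 3 → Submodule F (Fin 3 → F)}
    (hD : ∀ i, D i = (axes F i).map (Matrix.toLin' P.val)) :
    Cfsg.Geo.decompositionStabilizer D = (Cfsg.Geo.decompositionStabilizer (axes F)).map (conjMap P) := by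
  ext g
  rw [mem_map_conjMap, mem_decompositionStabilizer, mem_decompositionStabilizer]
  have hinj : Function.Injective (Submodule.map (Matrix.toLin' P.val)) :=
    Submodule.map_injective_of_injective fun x y h => gl_mulVec_injective P (by simpa using h)
  refine exists_congr fun σ => forall_congr' fun i => ?_
  have e : g.val * P.val = P.val * (P⁻¹ * g * P : GL (Fin 3) F).val := by
    rw [← Units.val_mul, ← Units.val_mul]; congr 1; group
  have key : ((axes F i).map (Matrix.toLin' P.val)).map (Matrix.toLin' g.val) =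
      ((axes F i).map (Matrix.toLin' (P⁻¹ * g * P : GL (Fin 3) F).val)).map (Matrix.toLin' P.val) := by
    rw [← Submodule.map_comp, ← Submodule.map_comp, ← Matrix.toLin'_mul, ← Matrix.toLin'_mul, e]
  rw [hD, hD, key, hinj.eq_iff]

/-- Every decomposition into lines is an image of the coordinate one. -/
theorem exists_axes_map {D : Fin 3 → Submodule F (Fin 3 → F)} (hD : Cfsg.Geo.IsMDecomposition 1 D) :
    ∃ P : GL (Fin 3) F,
      Cfsg.Geo.decompositionStabilizer D = (Cfsg.Geo.decompositionStabilizer (axes F)).map (conjMap P) := by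
  obtain ⟨v, hv, hDv⟩ := decomposition_vectors hD
  obtain ⟨P, hP⟩ := exists_columns hv
  refine ⟨P, stabilizer_eq_map fun i => ?_⟩
  rw [hDv, axes, Submodule.map_span, Set.image_singleton, Matrix.toLin'_apply, hP]
  congr 2
  simp [Pi.single_apply]

/-- The standard ternary quadratic form. -/
def stdQuad (F : Type*) [Field F] (x : Fin 3 → F) : F := x 0 * x 2 + x 1 ^ 2

theorem polar_stdQuad (x y : Fin 3 → F) :
    QuadraticMap.polar (stdQuad F) x y = x 0 * y 2 + y 0 * x 2 + 2 * (x 1 * y 1) := by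
  simp [QuadraticMap.polar, stdQuad]; ring

theorem stdQuad_nondegenerate (h2 : (2 : F) ≠ 0) : Cfsg.Geo.IsNondegenerateQuadraticForm (stdQuad F) where
  smul c v := by simp [stdQuad]; ring
  polar_bilinear := by
    constructor <;> intros <;> simp only [polar_stdQuad, Pi.add_apply, Pi.smul_apply, smul_eq_mul] <;> ring
  nondegenerate v hv := by
    have h : ∃ x, QuadraticMap.polar (stdQuad F) v x ≠ 0 := by
      by_contra hc
      push Not at hc
      apply hv
      funext i
      have h0 := hc (Pi.single 0 1)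
      have h1 := hc (Pi.single 1 1)
      have h2' := hc (Pi.single 2 1)
      simp [polar_stdQuad] at h0 h1 h2'
      fin_cases i
      · simpa using h2'
      · simpa using h1.resolve_left h2
      · simpa using h0
    obtain ⟨x, hx⟩ := h
    exact ⟨⟨x, by rwa [QuadraticMap.polar_comm]⟩, ⟨x, hx⟩⟩

/-- Every non-degenerate ternary quadratic form is similar to the standard one. -/
theorem exists_stdQuad [Fintype F] (h2 : (2 : F) ≠ 0) {Q : (Fin 3 → F) → F}
    (hQ : Cfsg.Geo.IsNondegenerateQuadraticForm Q) :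
    ∃ (P : GL (Fin 3) F) (d : F), d ≠ 0 ∧ ∀ x, Q (P.val *ᵥ x) = d * stdQuad F x := by
  let q : QuadraticForm F (Fin 3 → F) := QuadraticMap.ofPolar Q
    (fun a x => by rw [hQ.smul, smul_eq_mul]; ring) hQ.polar_bilinear.add_left hQ.polar_bilinear.smul_left
  have hq : q.polarBilin.Nondegenerate := by
    refine ⟨fun x hx => ?_, fun x hx => ?_⟩ <;> by_contra h0
    · obtain ⟨y, hy⟩ := (hQ.nondegenerate x h0).2; exact hy (hx y)
    · obtain ⟨y, hy⟩ := (hQ.nondegenerate x h0).1; exact hy (hx y)
  obtain ⟨e, -, he0, he⟩ := OrthTools.exists_singular hq ⊤ (by simp)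
  have hB := CfsgLib.Geo.Asch.polar_isSesq hQ
  set B := QuadraticMap.polar Q with hBdef
  have he' : Q e = 0 := he
  have hadd : ∀ x y, Q (x + y) = Q x + Q y + B x y := fun x y => by simp only [hBdef, QuadraticMap.polar]; ring
  have hself : ∀ x, B x x = 2 * Q x := fun x => by
    have h := hadd x x
    rw [← two_smul F x, hQ.smul] at h
    linear_combination -h
  obtain ⟨f₀, hf₀⟩ := (hQ.nondegenerate e he0).2
  obtain ⟨f₁, hef₁⟩ : ∃ f₁, B e f₁ = 1 := ⟨(B e f₀)⁻¹ • f₀, by
    rw [hB.smul_right, RingHom.id_apply]; exact inv_mul_cancel₀ hf₀⟩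
  set f := f₁ + (-Q f₁) • e with hfdef
  have hee : B e e = 0 := by rw [hself, he', mul_zero]
  have hcomm : ∀ x y, B x y = B y x := fun x y => QuadraticMap.polar_comm Q x y
  have hef : B e f = 1 := by rw [hfdef, hB.add_right, hB.smul_right, hee, mul_zero, add_zero, hef₁]
  have hff : Q f = 0 := by
    rw [hfdef, hadd, hQ.smul, hB.smul_right, hcomm f₁ e, hef₁, he', RingHom.id_apply]; ring
  have hBff : B f f = 0 := by rw [hself, hff, mul_zero]
  obtain ⟨x, hx⟩ : ∃ x, x ∉ Submodule.span F (Set.range ![e, f]) := by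
    by_contra hc
    push Not at hc
    have h1 := finrank_range_le_card (R := F) ![e, f]
    rw [Set.finrank, show Submodule.span F (Set.range ![e, f]) = ⊤ from eq_top_iff.2 fun x _ => hc x, finrank_top] at h1
    simp at h1
  set w := x + (-B x f) • e + (-B x e) • f with hwdef
  have hwe : B w e = 0 := by
    rw [hwdef, hB.add_left, hB.add_left, hB.smul_left, hB.smul_left, hee, hcomm f e, hef]; ring
  have hwf : B w f = 0 := by
    rw [hwdef, hB.add_left, hB.add_left, hB.smul_left, hB.smul_left, hef, hBff]; ring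
  have hw0 : w ≠ 0 := by
    intro h0
    refine hx ((Submodule.mem_span_range_iff_exists_fun F).2 ⟨![B x f, B x e], ?_⟩)
    rw [Fin.sum_univ_two]
    have hx' : x = w - ((-B x f) • e + (-B x e) • f) := by rw [hwdef]; abel
    rw [h0, zero_sub] at hx'
    rw [show (![B x f, B x e] 0) • (![e, f] 0) + (![B x f, B x e] 1) • (![e, f] 1) = B x f • e + B x e • f from rfl]
    conv_rhs => rw [hx']
    module
  set d := Q w with hd
  have hind0 : LinearIndependent F ![e, w, f] := by
    rw [Fintype.linearIndependent_iff]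
    intro g hg
    simp only [Fin.sum_univ_three, Matrix.cons_val_zero, Matrix.cons_val_one, Matrix.cons_val] at hg
    have k1 := congrArg (fun z => B z f) hg
    have k2 := congrArg (fun z => B z e) hg
    simp only [hB.add_left, hB.smul_left, hef, hwf, hBff, hB.zero_left, hee, hwe, hcomm f e] at k1 k2
    have g0 : g 0 = 0 := by linear_combination k1
    have g2 : g 2 = 0 := by linear_combination k2
    rw [g0, g2, zero_smul, zero_smul, zero_add, add_zero] at hg
    intro i
    fin_cases i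
    · exact g0
    · exact (smul_eq_zero.1 hg).resolve_right hw0
    · exact g2
  have hd0 : d ≠ 0 := by
    intro hd0
    obtain ⟨y, hy⟩ := (hQ.nondegenerate w hw0).2
    apply hy
    obtain ⟨P, hP⟩ := exists_columns hind0
    rw [← gl_mulVec_inv_mulVec P y, hP, Fin.sum_univ_three]
    simp only [Matrix.cons_val_zero, Matrix.cons_val_one, Matrix.cons_val, hB.add_right, hB.smul_right,
      ← hBdef, hwe, hwf]
    rw [hself w, ← hd, hd0]
    ring
  have hind : LinearIndependent F ![d • e, w, f] := by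
    rw [Fintype.linearIndependent_iff]
    intro g hg
    have := Fintype.linearIndependent_iff.1 hind0 ![g 0 * d, g 1, g 2] (by
      simpa [Fin.sum_univ_three, mul_smul] using hg)
    intro i
    fin_cases i
    · exact (mul_eq_zero.1 (this 0)).resolve_right hd0
    · exact this 1
    · exact this 2
  obtain ⟨P, hP⟩ := exists_columns hind
  refine ⟨P, d, hd0, fun x => ?_⟩
  rw [hP, Fin.sum_univ_three]
  simp only [Matrix.cons_val_zero, Matrix.cons_val_one, Matrix.cons_val, smul_smul, hadd, hQ.smul, hB.add_left,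
    hB.smul_left, hB.smul_right, RingHom.id_apply, he', hff, hcomm e w, hwe, hef, hwf, ← hd, stdQuad]
  ring

theorem quadSimilarity_eq_map {P : GL (Fin 3) F} {d : F} (hd : d ≠ 0) {Q Q₀ : (Fin 3 → F) → F}
    (h : ∀ x, Q (P.val *ᵥ x) = d * Q₀ x) :
    Cfsg.Geo.quadSimilarityGroup Q = (Cfsg.Geo.quadSimilarityGroup Q₀).map (conjMap P) := by
  ext g
  rw [mem_map_conjMap]
  refine ⟨fun ⟨c, hc⟩ => ⟨c, fun x => mul_left_cancel₀ hd ?_⟩, fun ⟨c, hc⟩ => ⟨c, fun y => ?_⟩⟩
  · rw [← h, gl_mul_mulVec, gl_mul_mulVec, gl_mulVec_inv_mulVec, hc, h]; ring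
  · obtain ⟨x, rfl⟩ : ∃ x, y = P.val *ᵥ x := ⟨_, (gl_mulVec_inv_mulVec P y).symm⟩
    have := hc x
    rw [gl_mul_mulVec, gl_mul_mulVec] at this
    rw [← gl_mulVec_inv_mulVec P (g.val *ᵥ (P.val *ᵥ x)), h, this, h]; ring

/-- The standard hermitian form. -/
def stdHerm (σ : F ≃+* F) (u v : Fin 3 → F) : F := ∑ i, u i * σ (v i)

theorem stdHerm_isUnitary {σ : F ≃+* F} (h1 : σ ≠ RingEquiv.refl F) (h2 : ∀ a, σ (σ a) = a) :
    Cfsg.Geo.IsUnitaryForm σ (stdHerm σ) where
  ne_refl := h1
  involutive := h2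
  add_left x y v := by simp [stdHerm, add_mul, Finset.sum_add_distrib]
  smul_left c x v := by simp [stdHerm, Finset.mul_sum, mul_assoc]
  herm v w := by simp [stdHerm, map_sum, h2, mul_comm]
  nondegenerate v hv := by
    obtain ⟨i, hi⟩ := Function.ne_iff.1 hv
    refine ⟨⟨Pi.single i 1, ?_⟩, ⟨Pi.single i 1, ?_⟩⟩ <;> simpa [stdHerm, Pi.single_apply] using hi

variable {σ : F ≃+* F} {f : (Fin 3 → F) → (Fin 3 → F) → F}

theorem exists_normalized [Fintype F] (hf : Cfsg.Geo.IsUnitaryForm σ f) {x : Fin 3 → F} (hx : f x x ≠ 0) :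
    ∃ c : F, c ≠ 0 ∧ f (c • x) (c • x) = 1 := by
  obtain ⟨c, hc⟩ := Unit.exists_norm hf.ne_refl hf.involutive (b := (f x x)⁻¹)
    (by rw [map_inv₀, Unit.self_fixed hf])
  refine ⟨c, fun h => ?_, ?_⟩
  · subst h; rw [zero_mul] at hc; exact inv_ne_zero hx hc.symm
  · rw [Unit.smul_left hf, Unit.smul_right hf, ← mul_assoc, hc, inv_mul_cancel₀ hx]

theorem orthonormal_independent (hf : Cfsg.Geo.IsUnitaryForm σ f) {k : ℕ} {u : Fin k → (Fin 3 → F)}
    (h : ∀ i j, f (u i) (u j) = if i = j then 1 else 0) : LinearIndependent F u := by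
  rw [Fintype.linearIndependent_iff]
  intro g hg i
  have := congrArg (fun z => f z (u i)) hg
  simp only [(Unit.sesq hf).sum_left, Unit.smul_left hf, h, Unit.zero_left hf] at this
  simpa using this

theorem exists_next [Fintype F] (hf : Cfsg.Geo.IsUnitaryForm σ f) {k : ℕ} (hk : k < 3) {u : Fin k → (Fin 3 → F)}
    (h : ∀ i j, f (u i) (u j) = if i = j then 1 else 0) : ∃ v, f v v = 1 ∧ ∀ i, f v (u i) = 0 := by
  let W : Submodule F (Fin 3 → F) :=
    { carrier := {x | ∀ i, f x (u i) = 0}
      add_mem' := fun hx hy i => by rw [Unit.add_left hf, hx i, hy i, add_zero]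
      zero_mem' := fun i => Unit.zero_left hf _
      smul_mem' := fun c x hx i => by rw [Unit.smul_left hf, hx i, mul_zero] }
  let p : (Fin 3 → F) → (Fin 3 → F) := fun x => x - ∑ i, f x (u i) • u i
  have hp : ∀ x, p x ∈ W := fun x j => by
    simp only [p, Unit.sub_left hf, (Unit.sesq hf).sum_left, Unit.smul_left hf, h]
    simp
  have hW : Cfsg.Geo.IsNondegenerateOn f W := by
    intro w hw hw0
    obtain ⟨x, hx⟩ := (hf.nondegenerate w hw0).1
    have key : f (p x) w = f x w := by
      simp only [p, Unit.sub_left hf, (Unit.sesq hf).sum_left, Unit.smul_left hf]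
      rw [Finset.sum_eq_zero fun i _ => by rw [hf.herm (u i) w, hw i, map_zero, mul_zero], sub_zero]
    exact ⟨⟨p x, hp x, by rwa [key]⟩, ⟨p x, hp x, Unit.ne_zero_comm hf (by rwa [key])⟩⟩
  obtain ⟨x, hx⟩ : ∃ x, x ∉ Submodule.span F (Set.range u) := by
    by_contra hc
    push Not at hc
    have h1 := finrank_range_le_card (R := F) u
    rw [Set.finrank, show Submodule.span F (Set.range u) = ⊤ from eq_top_iff.2 fun x _ => hc x, finrank_top] at h1
    simp at h1
    omega
  have hp0 : p x ≠ 0 := fun h0 => hx (by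
    rw [sub_eq_zero.1 h0]
    exact Submodule.sum_mem _ fun i _ => Submodule.smul_mem _ _ (Submodule.subset_span ⟨i, rfl⟩))
  obtain ⟨v, hv, hvv⟩ := UnitPow.exists_nonisotropic hf hW (hp x) hp0
  obtain ⟨c, -, hc⟩ := exists_normalized hf hvv
  exact ⟨c • v, hc, W.smul_mem c hv⟩

theorem exists_orthonormal [Fintype F] (hf : Cfsg.Geo.IsUnitaryForm σ f) :
    ∃ P : GL (Fin 3) F, ∀ x y, f (P.val *ᵥ x) (P.val *ᵥ y) = stdHerm σ x y := by
  obtain ⟨a, ha, -⟩ := exists_next hf (k := 0) (by norm_num) (u := ![]) (fun i => i.elim0)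
  obtain ⟨b, hb, hb'⟩ := exists_next hf (k := 1) (by norm_num) (u := ![a])
    (fun i j => by fin_cases i; fin_cases j; simpa using ha)
  have hba : f b a = 0 := hb' 0
  have hab : f a b = 0 := Unit.eq_zero_comm hf hba
  obtain ⟨c, hc, hc'⟩ := exists_next hf (k := 2) (by norm_num) (u := ![a, b])
    (fun i j => by fin_cases i <;> fin_cases j <;> simp [ha, hb, hba, hab])
  have hca : f c a = 0 := hc' 0
  have hcb : f c b = 0 := hc' 1
  have horth : ∀ i j, f (![a, b, c] i) (![a, b, c] j) = if i = j then 1 else 0 := by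
    intro i j
    fin_cases i <;> fin_cases j <;>
      simp [ha, hb, hc, hba, hab, hca, hcb, Unit.eq_zero_comm hf hca, Unit.eq_zero_comm hf hcb]
  obtain ⟨P, hP⟩ := exists_columns (orthonormal_independent hf horth)
  refine ⟨P, fun x y => ?_⟩
  rw [hP, hP]
  simp only [(Unit.sesq hf).sum_left, (Unit.sesq hf).sum_right, Unit.smul_left hf, Unit.smul_right hf, horth, stdHerm]
  simp [mul_comm]

theorem similarity_eq_map {P : GL (Fin 3) F} {f₀ : (Fin 3 → F) → (Fin 3 → F) → F}
    (h : ∀ x y, f (P.val *ᵥ x) (P.val *ᵥ y) = f₀ x y) :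
    Cfsg.Geo.similarityGroup f = (Cfsg.Geo.similarityGroup f₀).map (conjMap P) := by
  ext g
  rw [mem_map_conjMap]
  refine ⟨fun ⟨c, hc⟩ => ⟨c, fun x y => ?_⟩, fun ⟨c, hc⟩ => ⟨c, fun x y => ?_⟩⟩
  · rw [← h, gl_mul_mulVec, gl_mul_mulVec, gl_mulVec_inv_mulVec, gl_mul_mulVec, gl_mul_mulVec,
      gl_mulVec_inv_mulVec, hc, h]
  · obtain ⟨x, rfl⟩ : ∃ z, x = P.val *ᵥ z := ⟨_, (gl_mulVec_inv_mulVec P x).symm⟩
    obtain ⟨y, rfl⟩ : ∃ z, y = P.val *ᵥ z := ⟨_, (gl_mulVec_inv_mulVec P y).symm⟩
    have := hc x y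
    rw [gl_mul_mulVec, gl_mul_mulVec, gl_mul_mulVec, gl_mul_mulVec] at this
    rw [← gl_mulVec_inv_mulVec P (g.val *ᵥ (P.val *ᵥ x)), ← gl_mulVec_inv_mulVec P (g.val *ᵥ (P.val *ᵥ y)), h, this, h]

end CfsgLib.DimThreeMax
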