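import Cfsg.Agent.Lib.DimThreeMax.Heis
import Cfsg.Agent.Lib.DimThreeMax.HeisNormalizer
import Cfsg.Agent.Lib.DimThreeMax.Normal
import Cfsg.Agent.Lib.Geo.AschPrime
import Cfsg.Agent.Lib.Geo.AschPrimeIrred

/-!
Normal form of the absolutely irreducible groups of order 27 and their normalisers.
-/

set_option autoImplicit false

namespace CfsgLib.DimThreeMax

open Matrix GeomClasses
open scoped MatrixGroups commutatorElement

variable {F : Type*} [Field F]

local notation "Z₃" => Cfsg.Geo.scalars (Fin 3) F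

/-- A group of symplectic type and odd exponent has class two. -/
theorem commutator_le_center_of_symplecticType {G : Type*} [Group G] [Finite G] {p : ℕ} [Fact p.Prime]
    (hG : IsPGroup p G) (hexp : ∀ x : G, x ^ p = 1)
    (hchar : ∀ A : Subgroup G, A.Characteristic → IsMulCommutative A → IsCyclic A) :
    commutator G ≤ Subgroup.center G := by
  set A := commutator G ⊓ Subgroup.upperCentralSeries G 2 with hA
  have hZ2 : ∀ z ∈ Subgroup.upperCentralSeries G 2, ∀ g, ⁅z, g⁆ ∈ Subgroup.center G := fun z hz g => by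
    rw [← Subgroup.upperCentralSeries_one]; exact Subgroup.mem_upperCentralSeries_succ_iff.1 hz g
  -- the second centre commutes with commutators
  have hcomm : ∀ z ∈ Subgroup.upperCentralSeries G 2, ∀ x ∈ commutator G, z * x = x * z := by
    intro z hz x hx
    let φ : G →* G :=
      { toFun := fun g => ⁅z, g⁆
        map_one' := by simp
        map_mul' := fun g h => by
          have hc := Subgroup.mem_center_iff.1 (hZ2 z hz h) g
          calc ⁅z, g * h⁆ = ⁅z, g⁆ * (g * ⁅z, h⁆ * g⁻¹) := by simp only [commutatorElement_def]; group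
            _ = ⁅z, g⁆ * ⁅z, h⁆ := by rw [hc, mul_inv_cancel_right] }
    have hle : commutator G ≤ φ.ker := by
      rw [commutator_eq_closure, Subgroup.closure_le]
      rintro c ⟨a, b, rfl⟩
      show φ ⁅a, b⁆ = 1
      rw [map_commutatorElement, commutatorElement_eq_one_iff_mul_comm]
      exact (Subgroup.mem_center_iff.1 (hZ2 z hz a) _).symm
    have h1 : ⁅z, x⁆ = 1 := hle hx
    exact commutatorElement_eq_one_iff_mul_comm.1 h1
  have hAch : A.Characteristic := by
    rw [Subgroup.characteristic_iff_comap_eq]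
    intro φ
    rw [hA, Subgroup.comap_inf, Subgroup.characteristic_iff_comap_eq.1 inferInstance φ,
      Subgroup.characteristic_iff_comap_eq.1 inferInstance φ]
  haveI : IsCyclic A := hchar A hAch ⟨⟨fun a b => Subtype.ext (hcomm _ a.2.2 _ b.2.1)⟩⟩
  have hA1 : A ≤ Subgroup.center G := by
    intro a ha
    obtain ⟨g₀, hg₀⟩ := IsCyclic.exists_generator (α := A)
    rw [Subgroup.mem_center_iff]
    intro g
    by_contra hne
    -- a commutator of a is central and a power of a
    have hc : ⁅a, g⁆ ∈ A := by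
      rw [show ⁅a, g⁆ = a * (g * a⁻¹ * g⁻¹) by simp only [commutatorElement_def]; group]
      haveI := hAch
      exact A.mul_mem ha (Subgroup.Normal.conj_mem inferInstance _ (A.inv_mem ha) g)
    have hc1 : ⁅a, g⁆ ≠ 1 := fun h => hne (commutatorElement_eq_one_iff_mul_comm.1 h).symm
    have hord : orderOf (⟨⁅a, g⁆, hc⟩ : A) = p :=
      orderOf_eq_prime (Subtype.ext (hexp _)) fun h => hc1 (congrArg Subtype.val h)
    have hcard : Nat.card A ∣ p := by
      rw [← orderOf_eq_card_of_forall_mem_zpowers hg₀]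
      exact orderOf_dvd_of_pow_eq_one (Subtype.ext (hexp _))
    have htop : Subgroup.zpowers (⟨⁅a, g⁆, hc⟩ : A) = ⊤ := by
      refine Subgroup.eq_top_of_le_card _ ?_
      rw [Nat.card_zpowers, hord]
      exact Nat.le_of_dvd (Fact.out : p.Prime).pos hcard
    obtain ⟨k, hk⟩ := Subgroup.mem_zpowers_iff.1 (htop ▸ Subgroup.mem_top (⟨a, ha⟩ : A))
    have hz : a ∈ Subgroup.center G := by
      rw [show a = ⁅a, g⁆ ^ k from (congrArg Subtype.val hk).symm]
      exact Subgroup.zpow_mem _ (hZ2 a ha.2 g) k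
    exact hne (Subgroup.mem_center_iff.1 hz g)
  -- climb the upper central series
  have key : ∀ k, commutator G ⊓ Subgroup.upperCentralSeries G k ≤ Subgroup.center G := by
    intro k
    induction k with
    | zero => simp
    | succ k ih =>
      rintro x ⟨hx, hx'⟩
      refine hA1 ⟨hx, Subgroup.mem_upperCentralSeries_succ_iff.2 fun g => ?_⟩
      rw [Subgroup.upperCentralSeries_one]
      refine ih ⟨?_, Subgroup.mem_upperCentralSeries_succ_iff.1 hx' g⟩
      exact Subgroup.commutator_mem_commutator (Subgroup.mem_top x) (Subgroup.mem_top g)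
  haveI := hG.isNilpotent
  obtain ⟨n, hn⟩ := Group.IsNilpotent.nilpotent G
  intro x hx
  exact key n ⟨hx, hn ▸ Subgroup.mem_top x⟩

theorem span_of_center [Fintype F] {R : Subgroup (GL (Fin 3) F)} (hc : Nat.card (Subgroup.center R) = 3)
    (hne : Nat.card R ≠ 3) (hirr : Cfsg.Geo.ActsAbsolutelyIrreducibly (Cfsg.Geo.matrixSet R)) :
    Geo.Asch.algOf R = ⊤ := by
  refine Geo.Asch.algOf_eq_top_of_prime (by rw [Fintype.card_fin]; norm_num) hirr.1 fun hab => hne ?_
  refine Eq.trans ?_ hc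
  exact (Nat.card_congr ((MulEquiv.subgroupCongr (show Subgroup.center R = ⊤ from eq_top_iff.2 fun x _ =>
    Subgroup.mem_center_iff.2 fun y => Subtype.ext (hab _ y.2 _ x.2))).trans Subgroup.topEquiv).toEquiv).symm

/-- The symplectic-type data in dimension three have order 27. -/
theorem extra27_of_data [Fintype F] {R : Subgroup (GL (Fin 3) F)}
    (h : Cfsg.Geo.IsLinearSymplecticTypeData 3 R) : Extra27 R ∧ ∀ x ∈ R, x ^ 3 = 1 := by
  have hexp' : ∀ x : R, x ^ 3 = 1 := fun x => by
    have h1 := Monoid.pow_exponent_eq_one x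
    rwa [h.symplecticType.exponent_eq] at h1
  have hexp : ∀ x ∈ R, x ^ 3 = 1 := fun x hx => congrArg Subtype.val (hexp' ⟨x, hx⟩)
  obtain ⟨p, e, -, -, hcase⟩ := h.field
  obtain ⟨hc, m, hm, hcard⟩ : Nat.card (Subgroup.center R) = 3 ∧ ∃ m : ℕ, 1 ≤ m ∧ Nat.card R = 3 ^ (1 + 2 * m) := by
    rcases hcase with ⟨-, -, hc, hm⟩ | ⟨h2, -⟩ | ⟨h2, -⟩
    · exact ⟨hc, hm⟩
    · exact absurd h2 (by norm_num)
    · exact absurd h2 (by norm_num)
  haveI : Fact (Nat.Prime 3) := ⟨Nat.prime_three⟩
  have hne : Nat.card R ≠ 3 := fun h3 => by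
    rw [h3] at hcard
    have h4 := Nat.pow_right_injective (le_refl 3 |>.trans' (by norm_num : 2 ≤ 3)) (show 3 ^ 1 = 3 ^ (1 + 2 * m) by simpa using hcard)
    omega
  have hspan := span_of_center hc hne h.absIrred
  have hsc : Subgroup.center R = (Z₃).subgroupOf R := by
    ext x
    rw [Subgroup.mem_center_iff, Subgroup.mem_subgroupOf]
    exact ⟨fun hx => Geo.Asch.mem_scalars_of_commute hspan fun y hy => congrArg Subtype.val (hx ⟨y, hy⟩).symm,
      fun hx y => Subtype.ext (Geo.Asch.scalars_comm hx _).symm⟩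
  have hcls : ∀ x ∈ R, ∀ y ∈ R, x * y * x⁻¹ * y⁻¹ ∈ Z₃ := by
    intro x hx y hy
    have h1 : ⁅(⟨x, hx⟩ : R), ⟨y, hy⟩⁆ ∈ Subgroup.center R :=
      commutator_le_center_of_symplecticType h.symplecticType.pGroup hexp' h.symplecticType.cyclic_of_characteristic
        (Subgroup.commutator_mem_commutator (Subgroup.mem_top _) (Subgroup.mem_top _))
    rw [hsc, Subgroup.mem_subgroupOf] at h1
    simpa [commutatorElement_def] using h1
  have hq := Geo.Asch.card_quotient_eq_sq hspan hcls
  refine ⟨⟨?_, hc, h.absIrred⟩, hexp⟩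
  rw [Subgroup.card_eq_card_quotient_mul_card_subgroup ((Z₃).subgroupOf R), hq, ← hsc, hc, Fintype.card_fin]
  norm_num

theorem Extra27.primeType [Fintype F] {R : Subgroup (GL (Fin 3) F)} (h : Extra27 R)
    (hexp : ∀ x ∈ R, x ^ 3 = 1) : Geo.Asch.PrimeType R := by
  have hspan := span_of_center h.center (by rw [h.card]; norm_num) h.irred
  have hcls : ∀ x ∈ R, ∀ y ∈ R, x * y * x⁻¹ * y⁻¹ ∈ Z₃ := fun x hx y hy =>
    h.center_scalar (h.comm_center ⟨x, hx⟩ ⟨y, hy⟩)
  refine ⟨fun x hx => mem_specialLinear.2 ?_, hspan, hcls⟩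
  have hx3 : x.val ^ 3 = 1 := by rw [← Units.val_pow_eq_pow_val, hexp x hx, Units.val_one]
  by_cases hxs : x ∈ Z₃
  · obtain ⟨c, hc⟩ := (Cfsg.Geo.mem_scalars_iff _).1 hxs
    rw [hc, Matrix.det_smul, Matrix.det_one, mul_one, Fintype.card_fin]
    rw [hc, smul_pow, one_pow] at hx3
    simpa using congrFun (congrFun hx3 0) 0
  obtain ⟨y, hy, hne⟩ : ∃ y ∈ R, y * x ≠ x * y := by
    by_contra hc
    push Not at hc
    exact hxs (Geo.Asch.mem_scalars_of_commute hspan fun y hy => (hc y hy).symm)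
  obtain ⟨c, hc⟩ := (Cfsg.Geo.mem_scalars_iff _).1 (hcls y hy x hx)
  have hc3 : (c : F) ^ 3 = 1 := by
    have e := hexp _ (R.mul_mem (R.mul_mem (R.mul_mem hy hx) (R.inv_mem hy)) (R.inv_mem hx))
    have e' := congrArg Units.val e
    rw [Units.val_pow_eq_pow_val, hc, smul_pow, one_pow, Units.val_one] at e'
    simpa using congrFun (congrFun e' 0) 0
  have he : ((y * x * y⁻¹ : GL (Fin 3) F) : Matrix (Fin 3) (Fin 3) F) = (c : F) • x.val := by
    rw [show y * x * y⁻¹ = (y * x * y⁻¹ * x⁻¹) * x by group, Units.val_mul, hc, Matrix.smul_mul, one_mul]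
  have hc1 : (c : F) ≠ 1 := fun h1 => by
    rw [h1, one_smul] at he
    exact hne (mul_inv_eq_iff_eq_mul.1 (Units.ext he))
  have heq : ((c : F) • x.val).charpoly = x.val.charpoly := by
    rw [← he]
    simp only [Units.val_mul]
    rw [Matrix.coe_units_inv]
    exact Matrix.charpoly_units_conj y x.val
  have hcoef : ∀ k, (c : F) ^ k ≠ 1 → x.val.charpoly.coeff k = 0 := fun k hk => by
    have h1 := Geo.Asch.charpoly_coeff_smul (c : F) c.ne_zero x.val k
    rw [heq, Fintype.card_fin, hc3, one_mul] at h1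
    by_contra h0
    exact hk ((mul_eq_left₀ h0).1 h1)
  have h1 := hcoef 1 (by rwa [pow_one])
  have h2 := hcoef 2 (fun e => hc1 (by rw [show (c : F) ^ 3 = c * c ^ 2 by ring, e, mul_one] at hc3; exact hc3))
  have hCH := Matrix.aeval_self_charpoly x.val
  have hdeg : x.val.charpoly.natDegree = 3 := by rw [Matrix.charpoly_natDegree_eq_dim, Fintype.card_fin]
  rw [Polynomial.aeval_eq_sum_range, hdeg] at hCH
  simp only [Finset.sum_range_succ, Finset.sum_range_zero, zero_add, pow_zero, pow_one] at hCH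
  have h0 : x.val.charpoly.coeff 0 = -x.val.det := by
    have := Matrix.det_eq_sign_charpoly_coeff x.val
    rw [Fintype.card_fin] at this
    linear_combination this
  have h3 : x.val.charpoly.coeff 3 = 1 := by
    have := (Matrix.charpoly_monic x.val).coeff_natDegree
    rwa [hdeg] at this
  rw [h0, h1, h2, h3, zero_smul, zero_smul, add_zero, add_zero, one_smul, hx3] at hCH
  have := congrFun (congrFun hCH 0) 0
  simp at this
  linear_combination -this

/-- The standard group of order 27. -/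
def heis (u : Fˣ) : Subgroup (GL (Fin 3) F) := Subgroup.closure {clock u, shift F}

/-- Normal form of a group of order 27. -/
theorem Extra27.normal_form [Fintype F] {R : Subgroup (GL (Fin 3) F)} (h : Extra27 R)
    (hexp : ∀ x ∈ R, x ^ 3 = 1) :
    ∃ (u : Fˣ) (_ : CubeRoot u) (P : GL (Fin 3) F), R = (heis u).map (conjMap P) := by
  have hN := h.primeType hexp
  obtain ⟨x, hx, hxs⟩ := hN.exists_nonscalar Nat.prime_three
  obtain ⟨y, hy, s, hs1, hs0, hsl, he⟩ := hN.exists_comm hx hxs
  obtain ⟨v, hv0, hv⟩ : ∃ v : Fin 3 → F, v ≠ 0 ∧ x.val *ᵥ v = v := by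
    have hd : (Matrix.scalar (Fin 3) (1 : F) - x.val).det = 0 := by
      rw [← Matrix.eval_charpoly, hN.charpoly_eq Nat.prime_three (by decide) hx hxs]; simp
    obtain ⟨v, hv0, hv⟩ := Matrix.exists_mulVec_eq_zero_iff.2 hd
    rw [Matrix.sub_mulVec, map_one, Matrix.one_mulVec, sub_eq_zero] at hv
    exact ⟨v, hv0, hv.symm⟩
  have hxy : ∀ z, x.val *ᵥ (y.val *ᵥ z) = s⁻¹ • (y.val *ᵥ (x.val *ᵥ z)) := by
    intro z
    have h1 : y.val *ᵥ (x.val *ᵥ z) = s • (x.val *ᵥ (y.val *ᵥ z)) := by
      rw [← Matrix.smul_mulVec, ← he, Matrix.mulVec_mulVec, Matrix.mulVec_mulVec, ← Units.val_mul, ← Units.val_mul,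
        inv_mul_cancel_right]
    rw [h1, smul_smul, inv_mul_cancel₀ hs0, one_smul]
  obtain ⟨u, hu⟩ : ∃ u : Fˣ, (u : F) = s⁻¹ := ⟨(Units.mk0 s hs0)⁻¹, by simp⟩
  have hu' : CubeRoot u := ⟨by rw [hu, inv_pow, hsl, inv_one], fun e => hs1 (inv_eq_one.1 (hu ▸ e))⟩
  set w : Fin 3 → (Fin 3 → F) := ![v, y.val *ᵥ v, y.val *ᵥ (y.val *ᵥ v)] with hw
  have hx0 : x.val *ᵥ w 0 = (1 : F) • w 0 := by simp [hw, hv]
  have hx1 : x.val *ᵥ w 1 = (u : F) • w 1 := by simp [hw, hxy, hv, hu]
  have hx2 : x.val *ᵥ w 2 = ((u : F) ^ 2) • w 2 := by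
    show x.val *ᵥ (y.val *ᵥ (y.val *ᵥ v)) = _
    rw [hxy, hxy, hv, Matrix.mulVec_smul, smul_smul, hu, ← pow_two]
    rfl
  have hli : LinearIndependent F w := by
    refine Module.End.eigenvectors_linearIndependent' (Matrix.toLin' x.val) ![1, (u : F), (u : F) ^ 2] ?_ w ?_
    · intro i j hij
      have h1 := hu'.ne
      have h2 := hu'.sq_ne
      have h3 : (u : F) ≠ (u : F) ^ 2 := sub_ne_zero.1 hu'.diff
      fin_cases i <;> fin_cases j <;>
        first
          | rfl
          | (change (1 : F) = (u : F) at hij; exact absurd hij.symm h1)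
          | (change (u : F) = (1 : F) at hij; exact absurd hij h1)
          | (change (1 : F) = (u : F) ^ 2 at hij; exact absurd hij.symm h2)
          | (change (u : F) ^ 2 = (1 : F) at hij; exact absurd hij h2)
          | (change (u : F) = (u : F) ^ 2 at hij; exact absurd hij h3)
          | (change (u : F) ^ 2 = (u : F) at hij; exact absurd hij.symm h3)
    · intro i
      fin_cases i
      · exact ⟨Module.End.mem_eigenspace_iff.2 (by rw [Matrix.toLin'_apply]; exact hx0), hv0⟩
      · exact ⟨Module.End.mem_eigenspace_iff.2 (by rw [Matrix.toLin'_apply]; exact hx1),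
          gl_mulVec_ne_zero _ hv0⟩
      · exact ⟨Module.End.mem_eigenspace_iff.2 (by rw [Matrix.toLin'_apply]; exact hx2),
          gl_mulVec_ne_zero _ (gl_mulVec_ne_zero _ hv0)⟩
  obtain ⟨P, hP⟩ := exists_columns hli
  have hy3 : y.val *ᵥ w 2 = w 0 := by
    show y.val *ᵥ (y.val *ᵥ (y.val *ᵥ v)) = v
    rw [← gl_mul_mulVec, ← gl_mul_mulVec, ← pow_two, ← pow_succ, hexp y hy, Units.val_one, Matrix.one_mulVec]
  have hcl : conjMap P (clock u) = x := by
    rw [conjMap_apply, mul_inv_eq_iff_eq_mul]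
    apply gl_ext
    intro z
    rw [gl_mul_mulVec, gl_mul_mulVec, clock, dg_mulVec, hP, hP, Matrix.mulVec_sum]
    simp only [Fin.sum_univ_three, Matrix.mulVec_smul, hx0, hx1, hx2]
    simp [smul_smul, mul_comm]
  have hsh : conjMap P (shift F) = y := by
    rw [conjMap_apply, mul_inv_eq_iff_eq_mul]
    apply gl_ext
    intro z
    rw [gl_mul_mulVec, gl_mul_mulVec, shift_mulVec, hP, hP, Matrix.mulVec_sum]
    simp only [Fin.sum_univ_three, Matrix.mulVec_smul]
    rw [hy3, show y.val *ᵥ w 0 = w 1 from rfl, show y.val *ᵥ w 1 = w 2 from rfl]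
    simp
    abel
  refine ⟨u, hu', P, ?_⟩
  have hle : (heis u).map (conjMap P) ≤ R := by
    rw [heis, MonoidHom.map_closure, Subgroup.closure_le]
    rintro _ ⟨g, hg, rfl⟩
    rcases hg with rfl | rfl
    · rw [hcl]; exact hx
    · rw [hsh]; exact hy
  haveI := h.finite
  set S := (heis u).map (conjMap P) with hS
  haveI : Finite S := Finite.of_injective _ (Subgroup.inclusion_injective hle)
  have hd : Nat.card S ∣ 27 := h.card ▸ Subgroup.card_dvd_of_le hle
  refine (SetLike.coe_injective (Set.eq_of_subset_of_ncard_le hle ?_ (Set.toFinite _))).symm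
  have hSc : ¬ Nat.card S ∣ 9 := fun h9 => by
    haveI : Fact (Nat.Prime 3) := ⟨Nat.prime_three⟩
    have hab : ∀ a b : S, a * b = b * a := by
      rcases (Nat.dvd_prime_pow Nat.prime_three (m := 2)).1 h9 with ⟨j, hj, hj'⟩
      interval_cases j
      · intro a b
        haveI := (Nat.card_eq_one_iff_unique.1 (hj'.trans (pow_zero 3))).1
        exact Subsingleton.elim _ _
      · haveI := isCyclic_of_prime_card (hj'.trans (pow_one 3))
        exact fun a b => IsMulCommutative.is_comm.comm a b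
      · haveI := IsPGroup.isMulCommutative_of_card_eq_prime_sq hj'
        exact fun a b => IsMulCommutative.is_comm.comm a b
    have hxS : x ∈ S := ⟨_, Subgroup.subset_closure (by simp), hcl⟩
    have hyS : y ∈ S := ⟨_, Subgroup.subset_closure (by simp), hsh⟩
    have e := congrArg Subtype.val (hab ⟨x, hxS⟩ ⟨y, hyS⟩)
    simp only [Subgroup.coe_mul] at e
    rw [show y * x * y⁻¹ = x by rw [← e, mul_inv_cancel_right]] at he
    have h1 : (1 - s) • x.val = 0 := by rw [sub_smul, one_smul, ← he, sub_self]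
    exact hs1 (sub_eq_zero.1 ((smul_eq_zero.1 h1).resolve_right x.ne_zero)).symm
  have hS27 : Nat.card S = 27 := by
    rcases (Nat.dvd_prime_pow Nat.prime_three (m := 3)).1 hd with ⟨j, hj, hj'⟩
    interval_cases j <;> first | exact hj' | exact absurd (hj' ▸ by norm_num : Nat.card S ∣ 9) hSc
  show (R : Set (GL (Fin 3) F)).ncard ≤ (S : Set (GL (Fin 3) F)).ncard
  rw [← Nat.card_coe_set_eq, ← Nat.card_coe_set_eq]
  exact le_of_eq (h.card.trans hS27.symm)

theorem normalizer_map (P : GL (Fin 3) F) (R : Subgroup (GL (Fin 3) F)) :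
    Cfsg.Geo.subgroupNormalizer (R.map (conjMap P)) = (Cfsg.Geo.subgroupNormalizer R).map (conjMap P) := by
  ext g
  simp only [Cfsg.Geo.subgroupNormalizer, Subgroup.mem_normalizer_iff, mem_map_conjMap]
  constructor
  · intro hg x
    have := hg (P * x * P⁻¹)
    rw [show P⁻¹ * (P * x * P⁻¹) * P = x by group,
      show P⁻¹ * (g * (P * x * P⁻¹) * g⁻¹) * P = P⁻¹ * g * P * x * (P⁻¹ * g * P)⁻¹ by group] at this
    exact this
  · intro hg x
    rw [show P⁻¹ * (g * x * g⁻¹) * P = P⁻¹ * g * P * (P⁻¹ * x * P) * (P⁻¹ * g * P)⁻¹ by group]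
    exact hg _

theorem heis_normalizer_mem {u : Fˣ} {g : GL (Fin 3) F} (h1 : g * clock u * g⁻¹ ∈ heis u)
    (h2 : g * shift F * g⁻¹ ∈ heis u) [Finite F] : g ∈ Cfsg.Geo.subgroupNormalizer (heis u) := by
  have hle : (heis u).map (MulAut.conj g).toMonoidHom ≤ heis u := by
    conv_lhs => rw [heis]
    rw [MonoidHom.map_closure, Subgroup.closure_le]
    rintro _ ⟨k, hk, rfl⟩
    rcases hk with rfl | rfl
    · exact h1
    · exact h2
  have heq := eq_of_le_of_card hle
    (Nat.card_congr ((heis u).equivMapOfInjective _ (MulAut.conj g).injective).toEquiv)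
  simp only [Cfsg.Geo.subgroupNormalizer, Subgroup.mem_normalizer_iff]
  intro x
  constructor
  · intro hx
    rw [heq]
    exact ⟨x, hx, rfl⟩
  · intro hx
    rw [heq] at hx
    obtain ⟨k, hk, hk'⟩ := hx
    rw [show x = k from ((MulAut.conj g).injective hk').symm]
    exact hk

theorem heis_mem {u : Fˣ} (hu : CubeRoot u) :
    clock u ∈ heis u ∧ shift F ∈ heis u ∧ omega u ∈ heis u := by
  have hc : clock u ∈ heis u := Subgroup.subset_closure (by simp)
  have hs : shift F ∈ heis u := Subgroup.subset_closure (by simp)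
  refine ⟨hc, hs, ?_⟩
  rw [show omega u = clock u * shift F * (shift F * clock u)⁻¹ by rw [shift_clock hu, mul_inv_cancel_right]]
  exact Subgroup.mul_mem _ (Subgroup.mul_mem _ hc hs) (Subgroup.inv_mem _ (Subgroup.mul_mem _ hs hc))

theorem heis_normalizer [Finite F] {u : Fˣ} (hu : CubeRoot u) :
    clock u ∈ Cfsg.Geo.subgroupNormalizer (heis u) ∧ shift F ∈ Cfsg.Geo.subgroupNormalizer (heis u) ∧
    twist u ∈ Cfsg.Geo.subgroupNormalizer (heis u) ∧ fourier hu ∈ Cfsg.Geo.subgroupNormalizer (heis u) := by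
  obtain ⟨hc, hs, ho⟩ := heis_mem hu
  refine ⟨Subgroup.le_normalizer hc, Subgroup.le_normalizer hs, heis_normalizer_mem ?_ ?_,
    heis_normalizer_mem ?_ ?_⟩
  · rw [twist_clock, mul_inv_cancel_right]; exact hc
  · rw [twist_shift hu, show omega (u ^ 2) * (clock u * (shift F * twist u)) * (twist u)⁻¹ =
      omega (u ^ 2) * (clock u * shift F) by group]
    refine Subgroup.mul_mem _ ?_ (Subgroup.mul_mem _ hc hs)
    rw [show omega (u ^ 2) = omega u ^ 2 by rw [omega, omega, dg_pow]; rfl]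
    exact Subgroup.pow_mem _ ho 2
  · have := fourier_clock hu
    rw [show fourier hu * clock u * (fourier hu)⁻¹ = (shift F)⁻¹ by
      rw [mul_inv_eq_iff_eq_mul, eq_inv_mul_iff_mul_eq, this]]
    exact Subgroup.inv_mem _ hs
  · rw [fourier_shift hu, mul_inv_cancel_right]; exact hc

/-- The normaliser contains the witnesses. -/
theorem c6_witness [Finite F] {u : Fˣ} (hu : CubeRoot u) (P : GL (Fin 3) F) :
    HasC6 (Cfsg.Geo.subgroupNormalizer ((heis u).map (conjMap P)) ⊓ Cfsg.Geo.specialLinear (Fin 3) F) P hu := by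
  rw [normalizer_map]
  obtain ⟨h1, h2, h3, h4⟩ := heis_normalizer hu
  have hd : (fourier hu).val.det = 1 := fourierMat_det hu
  have key : ∀ g, g ∈ Cfsg.Geo.subgroupNormalizer (heis u) → g.val.det = 1 →
      P * g * P⁻¹ ∈ (Cfsg.Geo.subgroupNormalizer (heis u)).map (conjMap P) ⊓ Cfsg.Geo.specialLinear (Fin 3) F :=
    fun g hg hg1 => ⟨⟨g, hg, rfl⟩, (MonoidHom.normal_ker _ : (Cfsg.Geo.specialLinear (Fin 3) F).Normal).conj_mem g
      (mem_specialLinear.2 hg1) P⟩
  refine ⟨key _ h1 ?_, key _ h2 (by rw [shift_val, shiftMat_det]), key _ h4 hd,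
    key _ (Subgroup.mul_mem _ (Subgroup.mul_mem _ h3 h4) (Subgroup.inv_mem _ h3)) ?_⟩
  · rw [clock, dg_det]
    simp [← pow_succ', hu.cube]
  · rw [Units.val_mul, Units.val_mul, Matrix.det_mul, Matrix.det_mul, hd, mul_one, ← Matrix.det_mul,
      ← Units.val_mul, mul_inv_cancel, Units.val_one, Matrix.det_one]

/-- All these normalisers have the same order. -/
theorem heis_eq {u v : Fˣ} (hu : CubeRoot u) (hv : CubeRoot v) : heis v = heis u := by
  have hu3 : (u : F) ^ 3 = 1 := hu.cube
  have hvu : v = u ∨ v = u ^ 2 := by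
    have e : ((v : F) - u) * ((v : F) - (u : F) ^ 2) = 0 := by
      linear_combination hv.sum - (v : F) * hu.sum + hu3
    rcases mul_eq_zero.1 e with e' | e'
    · exact Or.inl (Units.ext (sub_eq_zero.1 e'))
    · exact Or.inr (Units.ext (by rw [Units.val_pow_eq_pow_val]; exact sub_eq_zero.1 e'))
  rcases hvu with rfl | rfl
  · rfl
  have key : ∀ w : Fˣ, clock (w ^ 2) = clock w ^ 2 := fun w => by
    rw [clock, clock, dg_pow]
    congr 1
    funext i
    fin_cases i <;> simp
  refine le_antisymm ?_ ?_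
  · rw [heis, Subgroup.closure_le]
    rintro g (rfl | rfl)
    · rw [key]; exact Subgroup.pow_mem _ (heis_mem hu).1 2
    · exact (heis_mem hu).2.1
  · rw [heis, Subgroup.closure_le]
    rintro g (rfl | rfl)
    · rw [show clock u = clock (u ^ 2) ^ 2 by
        rw [key, ← pow_mul, show 2 * 2 = 3 + 1 from rfl, pow_succ, clock_cube hu, one_mul]]
      exact Subgroup.pow_mem _ (heis_mem hv).1 2
    · exact (heis_mem hv).2.1

end CfsgLib.DimThreeMax
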