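import Cfsg.Agent.Lib.DimThreeMax.Basic
import Cfsg.Agent.Lib.Geo.AschLinear
import Cfsg.Agent.Lib.Maximal99.SingerConj

/-!
What monomial groups and field normalisers in dimension three cannot contain.
-/

set_option autoImplicit false

namespace CfsgLib.DimThreeMax

open Matrix
open scoped MatrixGroups

variable {F : Type*} [Field F]

theorem perm_three_six : ∀ σ : Equiv.Perm (Fin 3), σ ^ 6 = 1 := by decide +kernel

/-- A basis of the lines of a decomposition, permuted up to factors by its stabiliser. -/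
theorem lines_basis {t : ℕ} {D : Fin t → Submodule F (Fin 3 → F)} (hD : Cfsg.Geo.IsMDecomposition 1 D) :
    ∃ b : Module.Basis (Fin t) F (Fin 3 → F), ∀ g ∈ Cfsg.Geo.decompositionStabilizer D,
      ∃ (σ : Equiv.Perm (Fin t)) (c : Fin t → F),
        (∀ i, c i ≠ 0) ∧ ∀ i, (g : Matrix (Fin 3) (Fin 3) F) *ᵥ b i = c i • b (σ i) := by
  classical
  have hv : ∀ i, ∃ v ∈ D i, v ≠ 0 ∧ ∀ w ∈ D i, ∃ c : F, w = c • v := by
    intro i
    obtain ⟨⟨v, hv⟩, hv0, hall⟩ := finrank_eq_one_iff'.1 (hD.finrank_eq i)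
    refine ⟨v, hv, fun h => hv0 (Subtype.ext h), fun w hw => ?_⟩
    obtain ⟨c, hc⟩ := hall ⟨w, hw⟩
    exact ⟨c, (congrArg Subtype.val hc).symm⟩
  choose v hvD hv0 hvall using hv
  have hli : LinearIndependent F v := hD.indep.linearIndependent D hvD hv0
  have hspan : ⊤ ≤ Submodule.span F (Set.range v) := by
    rw [← hD.iSup_eq_top, iSup_le_iff]
    intro i w hw
    obtain ⟨c, rfl⟩ := hvall i w hw
    exact Submodule.smul_mem _ _ (Submodule.subset_span ⟨i, rfl⟩)
  refine ⟨Module.Basis.mk hli hspan, fun g hg => ?_⟩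
  obtain ⟨σ, hσ⟩ := hg
  have h1 : ∀ i, ∃ c : F, c ≠ 0 ∧ (g : Matrix (Fin 3) (Fin 3) F) *ᵥ v i = c • v (σ i) := by
    intro i
    have hmem : (g : Matrix (Fin 3) (Fin 3) F) *ᵥ v i ∈ D (σ i) := hσ i ▸ ⟨v i, hvD i, Matrix.toLin'_apply _ _⟩
    obtain ⟨c, hc⟩ := hvall _ _ hmem
    refine ⟨c, fun h0 => ?_, hc⟩
    rw [h0, zero_smul] at hc
    exact GeomClasses.gl_mulVec_ne_zero g (hv0 i) hc
  choose c hc0 hc using h1
  exact ⟨σ, c, hc0, fun i => by rw [Module.Basis.mk_apply, Module.Basis.mk_apply]; exact hc i⟩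

/-- Adapted basis and homomorphism to the permutations of the three lines. -/
theorem exists_monomial {D : Fin 3 → Submodule F (Fin 3 → F)} (hD : Cfsg.Geo.IsMDecomposition 1 D) :
    ∃ (b : Module.Basis (Fin 3) F (Fin 3 → F)) (π : Cfsg.Geo.decompositionStabilizer D →* Equiv.Perm (Fin 3)),
      ∀ g : Cfsg.Geo.decompositionStabilizer D, π g = 1 →
        ∃ c : Fin 3 → F, ∀ i, ((g : GL (Fin 3) F) : Matrix (Fin 3) (Fin 3) F) *ᵥ b i = c i • b i := by
  classical
  obtain ⟨b, hb⟩ := lines_basis hD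
  choose σ c hc hσ using hb
  have huniq : ∀ (g : Cfsg.Geo.decompositionStabilizer D) (τ : Equiv.Perm (Fin 3)) (d : Fin 3 → F),
      (∀ i, ((g : GL (Fin 3) F) : Matrix (Fin 3) (Fin 3) F) *ᵥ b i = d i • b (τ i)) → σ g.1 g.2 = τ := by
    intro g τ d hd
    refine Equiv.ext fun i => ?_
    have h := (hσ g.1 g.2 i).symm.trans (hd i)
    by_contra hne
    have h' := congrArg (fun v => b.repr v (σ g.1 g.2 i)) h
    simp [Finsupp.single_apply, Ne.symm hne] at h'
    exact hc g.1 g.2 i h'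
  let π : Cfsg.Geo.decompositionStabilizer D →* Equiv.Perm (Fin 3) :=
    { toFun := fun g => σ g.1 g.2
      map_one' := huniq 1 1 (fun _ => 1) fun i => by simp
      map_mul' := fun g h => huniq (g * h) _ (fun i => c h.1 h.2 i * c g.1 g.2 (σ h.1 h.2 i)) fun i => by
        rw [Subgroup.coe_mul, Units.val_mul, ← Matrix.mulVec_mulVec, hσ h.1 h.2, Matrix.mulVec_smul, hσ g.1 g.2,
          smul_smul]
        rfl }
  refine ⟨b, π, fun g hg => ⟨c g.1 g.2, fun i => ?_⟩⟩
  have := hσ g.1 g.2 i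
  rwa [show σ g.1 g.2 = 1 from hg, Equiv.Perm.one_apply] at this

theorem diag_ext {b : Module.Basis (Fin 3) F (Fin 3 → F)} {A B : Matrix (Fin 3) (Fin 3) F}
    (h : ∀ i, A *ᵥ b i = B *ᵥ b i) : A = B :=
  Matrix.toLin'.injective (b.ext fun i => by simpa using h i)

/-- The sixth power of a monomial element has an eigenvector. -/
theorem monomial_eigen {D : Fin 3 → Submodule F (Fin 3 → F)} (hD : Cfsg.Geo.IsMDecomposition 1 D)
    {g : GL (Fin 3) F} (hg : g ∈ Cfsg.Geo.decompositionStabilizer D) :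
    ∃ (v : Fin 3 → F) (c : F), v ≠ 0 ∧ ((g : Matrix (Fin 3) (Fin 3) F) ^ 6) *ᵥ v = c • v := by
  obtain ⟨b, π, hπ⟩ := exists_monomial hD
  obtain ⟨c, hc⟩ := hπ (⟨g, hg⟩ ^ 6) (by rw [map_pow, perm_three_six])
  exact ⟨b 0, c 0, b.ne_zero 0, by simpa using hc 0⟩

/-- Elements of order dividing four in a monomial group have commuting squares. -/
theorem monomial_squares {D : Fin 3 → Submodule F (Fin 3 → F)} (hD : Cfsg.Geo.IsMDecomposition 1 D)
    {g h : GL (Fin 3) F} (hg : g ∈ Cfsg.Geo.decompositionStabilizer D) (hh : h ∈ Cfsg.Geo.decompositionStabilizer D)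
    (hg4 : g ^ 4 = 1) (hh4 : h ^ 4 = 1) : g ^ 2 * h ^ 2 = h ^ 2 * g ^ 2 := by
  obtain ⟨b, π, hπ⟩ := exists_monomial hD
  have key : ∀ (x : GL (Fin 3) F) (hx : x ∈ Cfsg.Geo.decompositionStabilizer D), x ^ 4 = 1 →
      ∃ c : Fin 3 → F, ∀ i, (((x ^ 2 : GL (Fin 3) F)) : Matrix (Fin 3) (Fin 3) F) *ᵥ b i = c i • b i := by
    intro x hx hx4
    have e : x ^ 2 = x ^ 6 := by rw [show 6 = 4 + 2 from rfl, pow_add x 4 2, hx4, one_mul]
    obtain ⟨c, hc⟩ := hπ (⟨x, hx⟩ ^ 6) (by rw [map_pow, perm_three_six])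
    exact ⟨c, fun i => by rw [e]; simpa using hc i⟩
  obtain ⟨c, hc⟩ := key g hg hg4
  obtain ⟨d, hd⟩ := key h hh hh4
  refine Units.ext (diag_ext (b := b) fun i => ?_)
  rw [Units.val_mul, Units.val_mul, ← Matrix.mulVec_mulVec, ← Matrix.mulVec_mulVec, hd, hc,
    Matrix.mulVec_smul, Matrix.mulVec_smul, hd, hc, smul_comm]

/-- Unipotent subgroups of monomial groups have order dividing six. -/
theorem monomial_unipotent [Finite F] {D : Fin 3 → Submodule F (Fin 3 → F)} (hD : Cfsg.Geo.IsMDecomposition 1 D)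
    {T : Subgroup (GL (Fin 3) F)} (hT : T ≤ Cfsg.Geo.decompositionStabilizer D)
    (hu : ∀ x ∈ T, ((x : Matrix (Fin 3) (Fin 3) F) - 1) ^ 3 = 0) : Nat.card T ∣ 6 := by
  obtain ⟨b, π, hπ⟩ := exists_monomial hD
  let φ : T →* Equiv.Perm (Fin 3) := π.comp (Subgroup.inclusion hT)
  have hinj : Function.Injective φ := by
    refine (injective_iff_map_eq_one _).2 fun x hx => Subtype.ext (Units.ext (diag_ext (b := b) fun i => ?_))
    obtain ⟨c, hc⟩ := hπ _ hx
    have hc' : ((x : GL (Fin 3) F) : Matrix (Fin 3) (Fin 3) F) *ᵥ b i = c i • b i := hc i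
    have h3 : (c i - 1) ^ 3 • b i = 0 := by
      have h1 : (((x : GL (Fin 3) F) : Matrix (Fin 3) (Fin 3) F) - 1) *ᵥ b i = (c i - 1) • b i := by
        rw [Matrix.sub_mulVec, hc', Matrix.one_mulVec, sub_smul, one_smul]
      have h := congrArg (· *ᵥ b i) (hu _ x.2)
      rw [pow_succ, pow_two] at h
      simp only [← Matrix.mulVec_mulVec, h1, Matrix.mulVec_smul, smul_smul, Matrix.zero_mulVec] at h
      rw [← h]; ring_nf
    have : c i = 1 := sub_eq_zero.1 (pow_eq_zero_iff (by norm_num) |>.1 ((smul_eq_zero.1 h3).resolve_right (b.ne_zero i)))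
    rw [hc', this, one_smul]
    simp
  have := Subgroup.card_dvd_of_injective φ hinj
  rwa [Nat.card_perm, Nat.card_fin] at this

variable [Fintype F] {K : Subalgebra F (Matrix (Fin 3) (Fin 3) F)}

/-- The action on the field: cubes lie in it, and subgroups meeting it trivially have order dividing three. -/
theorem field_galois (hK : Cfsg.Geo.IsFieldSubalgebra 3 K) :
    (∀ g ∈ Cfsg.Geo.subalgebraNormalizer K, (g : Matrix (Fin 3) (Fin 3) F) ^ 3 ∈ K) ∧
    (∀ T : Subgroup (GL (Fin 3) F), T ≤ Cfsg.Geo.subalgebraNormalizer K →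
      (∀ x ∈ T, (x : Matrix (Fin 3) (Fin 3) F) ∈ K → x = 1) → Nat.card T ∣ 3) := by
  classical
  letI : Field K := Geo.FieldTransvection.fieldOf hK
  haveI : FiniteDimensional F K := Module.finite_of_finrank_pos (by rw [hK.finrank_eq]; norm_num)
  haveI : Finite K := Module.finite_of_finite F
  haveI : IsGalois F K := GaloisField.instIsGaloisOfFinite
  have hG : Nat.card (K ≃ₐ[F] K) = 3 := by rw [IsGalois.card_aut_eq_finrank, hK.finrank_eq]
  haveI : Finite (K ≃ₐ[F] K) := Nat.finite_of_card_ne_zero (by omega)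
  let ρ : Cfsg.Geo.subalgebraNormalizer K → (K ≃ₐ[F] K) := fun g => AlgEquiv.ofBijective
    { toFun := fun k => ⟨((g : GL (Fin 3) F) : Matrix (Fin 3) (Fin 3) F) * k *
        (((g : GL (Fin 3) F)⁻¹ : GL (Fin 3) F) : Matrix (Fin 3) (Fin 3) F), (g.2 k.1).1 k.2⟩
      map_one' := Subtype.ext (by simp)
      map_mul' := fun a b => Subtype.ext (by simp [mul_assoc])
      map_zero' := Subtype.ext (by simp)
      map_add' := fun a b => Subtype.ext (by simp [mul_add, add_mul])
      commutes' := fun r => Subtype.ext (by simp [Algebra.algebraMap_eq_smul_one]) }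
    (Finite.injective_iff_bijective.1 fun a b h => Subtype.ext (by
      have h' := congrArg Subtype.val h
      exact (g : GL (Fin 3) F).isUnit.mul_left_cancel (((g : GL (Fin 3) F)⁻¹).isUnit.mul_right_cancel h')))
  let π : Cfsg.Geo.subalgebraNormalizer K →* (K ≃ₐ[F] K) :=
    { toFun := ρ
      map_one' := AlgEquiv.ext fun k => Subtype.ext (by simp [ρ])
      map_mul' := fun g h => AlgEquiv.ext fun k => Subtype.ext (by simp [ρ, mul_assoc, Matrix.mul_inv_rev]) }
  have hker : ∀ g : Cfsg.Geo.subalgebraNormalizer K, π g = 1 → ((g : GL (Fin 3) F) : Matrix (Fin 3) (Fin 3) F) ∈ K := by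
    intro g hg'
    obtain ⟨v, hv⟩ := exists_ne (0 : Fin 3 → F)
    refine SingerConj.mem_of_comm hK hv fun a ha => ?_
    have h := congrArg Subtype.val (DFunLike.congr_fun hg' ⟨a, ha⟩)
    simp [π, ρ] at h
    conv_rhs => rw [← h]
    simp [mul_assoc]
  refine ⟨fun g hg => ?_, fun T hT hTK => ?_⟩
  · have h := pow_card_eq_one' (x := π ⟨g, hg⟩)
    rw [hG] at h
    have hk := hker (⟨g, hg⟩ ^ 3) (by rw [map_pow, h])
    rwa [SubmonoidClass.coe_pow, Units.val_pow_eq_pow_val] at hk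
  · exact (Subgroup.card_dvd_of_injective (π.comp (Subgroup.inclusion hT))
      ((injective_iff_map_eq_one _).2 fun x hx => Subtype.ext (hTK _ x.2 (hker _ hx)))).trans hG.dvd

/-- The cube of an element normalising a cubic field lies in it. -/
theorem field_cube (hK : Cfsg.Geo.IsFieldSubalgebra 3 K) {g : GL (Fin 3) F}
    (hg : g ∈ Cfsg.Geo.subalgebraNormalizer K) : (g : Matrix (Fin 3) (Fin 3) F) ^ 3 ∈ K := by
  exact (field_galois hK).1 g hg

/-- Elements of order dividing four in the normaliser of a cubic field commute. -/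
theorem field_commute (hK : Cfsg.Geo.IsFieldSubalgebra 3 K) {g h : GL (Fin 3) F}
    (hg : g ∈ Cfsg.Geo.subalgebraNormalizer K) (hh : h ∈ Cfsg.Geo.subalgebraNormalizer K)
    (hg4 : g ^ 4 = 1) (hh4 : h ^ 4 = 1) : g * h = h * g := by
  have key : ∀ {x : GL (Fin 3) F}, x ∈ Cfsg.Geo.subalgebraNormalizer K → x ^ 4 = 1 →
      (x : Matrix (Fin 3) (Fin 3) F) ∈ K := by
    intro x hx hx4
    have e : x = (x ^ 3) ^ 3 := by rw [← pow_mul, show 3 * 3 = 4 * 2 + 1 from rfl, pow_succ, pow_mul, hx4, one_pow, one_mul]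
    rw [e, Units.val_pow_eq_pow_val, Units.val_pow_eq_pow_val]
    exact pow_mem (field_cube hK hx) 3
  exact Units.ext (hK.comm _ (key hg hg4) _ (key hh hh4))

omit [Fintype F] in
/-- A unipotent element of a field is trivial. -/
theorem field_unipotent_one {r : ℕ} {L : Subalgebra F (Matrix (Fin 3) (Fin 3) F)} (hL : Cfsg.Geo.IsFieldSubalgebra r L)
    {M : Matrix (Fin 3) (Fin 3) F} (hM : M ∈ L) (hu : (M - 1) ^ 3 = 0) : M = 1 := by
  by_contra hne
  obtain ⟨y, hy, hxy⟩ := hL.inv _ (L.sub_mem hM L.one_mem) (sub_ne_zero.2 hne)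
  have hc : Commute (M - 1) y := hL.comm _ (L.sub_mem hM L.one_mem) _ hy
  have := hc.mul_pow 3
  rw [hxy, one_pow, hu, zero_mul] at this
  exact one_ne_zero this

/-- Unipotent subgroups of field normalisers have order dividing three. -/
theorem field_unipotent (hK : Cfsg.Geo.IsFieldSubalgebra 3 K)
    {T : Subgroup (GL (Fin 3) F)} (hT : T ≤ Cfsg.Geo.subalgebraNormalizer K)
    (hu : ∀ x ∈ T, ((x : Matrix (Fin 3) (Fin 3) F) - 1) ^ 3 = 0) : Nat.card T ∣ 3 := by
  exact (field_galois hK).2 T hT fun x hx hxK => Units.ext (field_unipotent_one hK hxK (hu x hx))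

end CfsgLib.DimThreeMax
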