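import Cfsg.Agent.Lib.DimThreeMax.Residual

/-!
Three-dimensional almost simple groups of type `A₆` contain no normaliser of an extraspecial group of
order twenty-seven: their automorphisms preserve the classes of elements of order five, by traces.
-/

set_option autoImplicit false

namespace CfsgLib.DimThreeMax

open Matrix
open scoped MatrixGroups

variable {F : Type*} [Field F]

local notation "Z₃" => Cfsg.Geo.scalars (Fin 3) F
local notation "A₆" => alternatingGroup (Fin 6)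

theorem fiveA_isConj_inv : IsConj AltSix.fiveA (AltSix.fiveA ^ 4) := by
  refine isConj_iff.2 ⟨⟨Equiv.swap 1 4 * Equiv.swap 2 3, ?_⟩, ?_⟩
  · rw [Equiv.Perm.mem_alternatingGroup]; decide +kernel
  · apply Subtype.ext
    show Equiv.swap 1 4 * Equiv.swap 2 3 * AltSix.five * (Equiv.swap 1 4 * Equiv.swap 2 3)⁻¹ = AltSix.five ^ 4
    decide +kernel

theorem alt_six_inv {c : A₆} (hc : c ^ 5 = 1) : IsConj c c⁻¹ := by
  by_cases h1 : c = 1
  · subst h1; rw [inv_one]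
  have e : c⁻¹ = c ^ 4 := inv_eq_of_mul_eq_one_right (by rw [← pow_succ', hc])
  rw [e]
  rcases AltSix.isConj_five hc h1 with h | h
  · exact (h.symm.trans fiveA_isConj_inv).trans (h.pow 4)
  · refine (h.symm.trans ?_).trans (h.pow 4)
    rw [← pow_mul, show 2 * 4 = 4 * 2 from rfl, pow_mul]
    exact fiveA_isConj_inv.pow 2

theorem alt_six_other {c d : A₆} (hc : c ^ 5 = 1) (hd : d ^ 5 = 1) (hc1 : c ≠ 1) (hd1 : d ≠ 1)
    (h : ¬ IsConj c d) : IsConj d (c ^ 2) := by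
  rcases AltSix.isConj_five hc hc1 with hcc | hcc <;> rcases AltSix.isConj_five hd hd1 with hdd | hdd
  · exact absurd (hcc.symm.trans hdd) h
  · exact hdd.symm.trans (hcc.pow 2)
  · refine (hdd.symm.trans fiveA_isConj_inv).trans ?_
    have := hcc.pow 2
    rwa [← pow_mul] at this
  · exact absurd (hcc.symm.trans hdd) h

namespace AlmostSimple

variable {H : Subgroup (GL (Fin 3) F)}

/-- In dimension three no element of an almost simple group of type `A₆` fuses the two classes of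
elements of order five. -/
theorem alt_six_classes (S : AlmostSimple H A₆) (hsl : H ≤ Cfsg.Geo.specialLinear (Fin 3) F)
    (h3F : (3 : F) ≠ 0) (h5F : (5 : F) ≠ 0) (h : H) (c : A₆) (hc : c ^ 5 = 1) : IsConj c (S.toAut h c) := by
  by_contra hn
  have hc1 : c ≠ 1 := by rintro rfl; exact hn (by rw [map_one])
  have hd : IsConj (S.toAut h c) (c ^ 2) :=
    alt_six_other hc (by rw [← map_pow, hc, map_one]) hc1 (by simpa using hc1) hn
  -- a lift of order five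
  obtain ⟨x₀, hx₀⟩ := S.proj_surj c
  have hr : ((x₀ : GL (Fin 3) F)) ^ 5 ∈ Z₃ := by
    have := S.proj_kernel (x₀ ^ 5) (by rw [map_pow, hx₀, hc])
    simpa using this
  have hsl' : ∀ {g}, g ∈ H → g ∈ Cfsg.Geo.specialLinear (Fin 3) F := fun hg => hsl hg
  have hr3 : (((x₀ : GL (Fin 3) F)) ^ 5) ^ 3 = 1 := scalar_cube hr (hsl' (H.pow_mem (S.core_le x₀.2) 5))
  set x : S.core := x₀ ^ 6 with hxdef
  have hxc : S.proj x = c := by rw [hxdef, map_pow, hx₀, pow_succ, hc, one_mul]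
  have hx5 : ((x : GL (Fin 3) F)) ^ 5 = 1 := by
    rw [hxdef, SubmonoidClass.coe_pow, ← pow_mul, show 6 * 5 = 5 * 3 * 2 from rfl, pow_mul, pow_mul, hr3, one_pow]
  have hx1 : (x : GL (Fin 3) F) ≠ 1 := fun e => hc1 (by rw [← hxc, show x = 1 from Subtype.ext e, map_one])
  have scal : ∀ (g : GL (Fin 3) F), g ∈ H → ∀ y : S.core, (x : GL (Fin 3) F) ∈ H →
      g * x * g⁻¹ * ((y : GL (Fin 3) F))⁻¹ ∈ Z₃ → (y : GL (Fin 3) F) ^ 5 = 1 → g * x * g⁻¹ = y := by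
    intro g hg y hxH hz hy
    set s := g * x * g⁻¹ * ((y : GL (Fin 3) F))⁻¹ with hs
    have hs3 : s ^ 3 = 1 := scalar_cube hz (hsl' (H.mul_mem (H.mul_mem (H.mul_mem hg hxH) (H.inv_mem hg)) (H.inv_mem (S.core_le y.2))))
    have hs5 : s ^ 5 = 1 := by
      have e : g * x * g⁻¹ = s * y := by rw [hs, inv_mul_cancel_right]
      have e5 := congrArg (· ^ 5) e
      simp only [conj_pow, hx5, mul_one, mul_inv_cancel, (show Commute s (y : GL (Fin 3) F) from scalar_comm hz _).mul_pow, hy] at e5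
      exact e5.symm
    have hs1 : s = 1 := by
      have := pow_gcd_eq_one.2 ⟨hs3, hs5⟩
      simpa using this
    rwa [hs, mul_inv_eq_one] at hs1
  -- conjugate to its inverse
  obtain ⟨a, ha⟩ := isConj_iff.1 (alt_six_inv hc)
  obtain ⟨w, rfl⟩ := S.proj_surj a
  have hinv : (w : GL (Fin 3) F) * x * (w : GL (Fin 3) F)⁻¹ = ((x : GL (Fin 3) F))⁻¹ := by
    have := scal w (S.core_le w.2) x⁻¹ (S.core_le x.2) ?_ (by simp [hx5])
    · simpa using this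
    have := S.proj_kernel (w * x * w⁻¹ * (x⁻¹)⁻¹) (by simp [hxc, ha])
    simpa using this
  -- conjugate to its square
  obtain ⟨b, hb⟩ := isConj_iff.1 hd
  obtain ⟨y, rfl⟩ := S.proj_surj b
  have hsq : ((y : GL (Fin 3) F) * h) * x * ((y : GL (Fin 3) F) * h)⁻¹ = (x : GL (Fin 3) F) ^ 2 := by
    have h' := scal ((y : GL (Fin 3) F) * h) (H.mul_mem (S.core_le y.2) h.2) (x ^ 2) (S.core_le x.2) ?_
      (by rw [SubmonoidClass.coe_pow, ← pow_mul, pow_mul', hx5, one_pow])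
    · simpa using h'
    have hk := S.kernel (⟨y, S.core_le y.2⟩ * h * ⟨x, S.core_le x.2⟩ * (⟨y, S.core_le y.2⟩ * h)⁻¹ *
      (⟨x, S.core_le x.2⟩ ^ 2)⁻¹) ?_
    · simpa using hk
    simp only [map_mul, map_inv, map_pow, S.inner, hxc]
    have hb' : S.proj y * S.toAut h c = c ^ 2 * S.proj y := by rw [← hb, inv_mul_cancel_right]
    have e : MulAut.conj (S.proj y) * S.toAut h * MulAut.conj c * (S.toAut h)⁻¹ * (MulAut.conj (S.proj y))⁻¹ =
        MulAut.conj (c ^ 2) := by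
      refine MulEquiv.ext fun z => ?_
      simp only [MulAut.mul_apply, MulAut.conj_apply, MulAut.inv_def, MulAut.conj_symm_apply, map_mul,
        MulEquiv.apply_symm_apply, map_inv]
      calc _ = S.proj y * S.toAut h c * (S.proj y)⁻¹ * z * (S.proj y * S.toAut h c * (S.proj y)⁻¹)⁻¹ := by group
        _ = _ := by rw [hb]
    rw [_root_.mul_inv_rev, ← map_pow, ← mul_assoc, e, mul_inv_cancel]
  refine trace_ne (det_eq_one_of_mem (hsl' (S.core_le x.2))) hx5 hx1 h3F h5F hinv ?_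
  rw [← hsq, Units.val_mul, Units.val_mul, Matrix.trace_units_conj]

/-- A group of type `A₆` does not contain the normaliser of an extraspecial group of order 27. -/
theorem no_heisenberg (S : AlmostSimple H A₆) (hsl : H ≤ Cfsg.Geo.specialLinear (Fin 3) F)
    (h3F : (3 : F) ≠ 0) (h5F : (5 : F) ≠ 0) {X Y G₁ G₂ : GL (Fin 3) F}
    (hX : X ∈ H) (hY : Y ∈ H) (hG₁ : G₁ ∈ H) (hG₂ : G₂ ∈ H)
    (hX3 : X ^ 3 ∈ Z₃) (hY3 : Y ^ 3 ∈ Z₃) (hXY : X * Y * X⁻¹ * Y⁻¹ ∈ Z₃)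
    (hX1 : X ∉ Z₃) (hY1 : Y ∉ Z₃) (hYX : Y * X⁻¹ ∉ Z₃) (hYX' : Y * X ∉ Z₃)
    (h1X : G₁ * X * G₁⁻¹ * Y ∈ Z₃) (h1Y : G₁ * Y * G₁⁻¹ * X⁻¹ ∈ Z₃)
    (h2X : G₂ * X * G₂⁻¹ * (Y * X) ∈ Z₃) (h2Y : G₂ * Y * G₂⁻¹ * (Y⁻¹ * X) ∈ Z₃) : False := by
  have hk : Nat.card (MulAut A₆) = 4 * Nat.card A₆ := by rw [card_mulAut_alt_six, card_alt_six]
  obtain ⟨a, ha⟩ := S.inner_of_pow (h := ⟨X, hX⟩) hk (show Nat.Coprime 3 4 by norm_num) hX3
  obtain ⟨b, hb⟩ := S.inner_of_pow (h := ⟨Y, hY⟩) hk (show Nat.Coprime 3 4 by norm_num) hY3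
  have tr : ∀ (g : H), (g : GL (Fin 3) F) ∈ Z₃ → S.toAut g = 1 := S.scalar
  have ne : ∀ (g : H) (d : A₆), S.toAut g = MulAut.conj d → (g : GL (Fin 3) F) ∉ Z₃ → d ≠ 1 := by
    intro g d hgd hg hd
    exact hg (S.kernel g (by rw [hgd, hd, map_one]))
  have inj := S.conj_injective
  have ha3 : a ^ 3 = 1 := inj (by rw [map_pow, ← ha, ← map_pow, map_one]; exact tr _ (by simpa using hX3))
  have hb3 : b ^ 3 = 1 := inj (by rw [map_pow, ← hb, ← map_pow, map_one]; exact tr _ (by simpa using hY3))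
  have hab : a * b = b * a := by
    have h := tr (⟨X, hX⟩ * ⟨Y, hY⟩ * ⟨X, hX⟩⁻¹ * ⟨Y, hY⟩⁻¹) (by simpa using hXY)
    simp only [map_mul, map_inv, ha, hb] at h
    simp only [← map_inv, ← map_mul] at h
    have h' := inj (h.trans (map_one _).symm)
    rwa [mul_inv_eq_one, mul_inv_eq_iff_eq_mul] at h'
  have conjθ : ∀ (θ : MulAut A₆) (d : A₆), θ * MulAut.conj d * θ⁻¹ = MulAut.conj (θ d) := fun θ d =>
    MulEquiv.ext fun z => by simp [MulAut.mul_apply, MulAut.inv_def]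
  have move : ∀ (G g k : H) (d e : A₆), S.toAut g = MulAut.conj d → S.toAut k = MulAut.conj e →
      (G : GL (Fin 3) F) * g * (G : GL (Fin 3) F)⁻¹ * k ∈ Z₃ → S.toAut G d = e⁻¹ := by
    intro G g k d e hd he hz
    have h := tr (G * g * G⁻¹ * k) (by simpa using hz)
    simp only [map_mul, map_inv, hd, he, conjθ] at h
    rw [← map_mul] at h
    exact eq_inv_of_mul_eq_one_left (inj (h.trans (map_one _).symm))
  refine AltSix.no_pair (S.toAut ⟨G₁, hG₁⟩) (S.toAut ⟨G₂, hG₂⟩)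
    (S.alt_six_classes hsl h3F h5F ⟨G₁, hG₁⟩) (S.alt_six_classes hsl h3F h5F ⟨G₂, hG₂⟩) ha3 hb3 hab
    (ne ⟨X, hX⟩ a ha hX1) (ne ⟨Y, hY⟩ b hb hY1)
    (fun e => ne (⟨Y, hY⟩ * ⟨X, hX⟩⁻¹) (b * a⁻¹) (by rw [map_mul, map_mul, map_inv, map_inv, ha, hb]) hYX (by rw [e, mul_inv_cancel]))
    (fun e => ne (⟨Y, hY⟩ * ⟨X, hX⟩) (b * a) (by rw [map_mul, map_mul, ha, hb]) hYX' (by rw [e, inv_mul_cancel]))
    (move ⟨G₁, hG₁⟩ ⟨X, hX⟩ ⟨Y, hY⟩ a b ha hb h1X) ?_ ?_ ?_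
  · rw [move ⟨G₁, hG₁⟩ ⟨Y, hY⟩ ⟨X, hX⟩⁻¹ b a⁻¹ hb (by rw [map_inv, ha, map_inv]) (by simpa using h1Y), inv_inv]
  · rw [move ⟨G₂, hG₂⟩ ⟨X, hX⟩ (⟨Y, hY⟩ * ⟨X, hX⟩) a (b * a) ha (by rw [map_mul, map_mul, ha, hb]) (by simpa using h2X), _root_.mul_inv_rev]
  · rw [move ⟨G₂, hG₂⟩ ⟨Y, hY⟩ (⟨Y, hY⟩⁻¹ * ⟨X, hX⟩) b (b⁻¹ * a) hb (by rw [map_mul, map_mul, map_inv, map_inv, ha, hb]) (by simpa using h2Y),
      _root_.mul_inv_rev, inv_inv]

end AlmostSimple

end CfsgLib.DimThreeMax
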