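import Cfsg.Agent.Lib.DimThreeMax.Torus
import Cfsg.Agent.Lib.DimThreeMax.Obstruct
import Cfsg.Agent.Lib.DimThreeMax.ResidualSix

/-!
Subgroups containing the normaliser of an extraspecial group of order 27 are contained in none of the
other geometric groups, and in no almost simple group of type `A₆`.
-/

set_option autoImplicit false

namespace CfsgLib.DimThreeMax

open Matrix
open scoped MatrixGroups

variable {F : Type*} [Field F]

local notation "Z₃" => Cfsg.Geo.scalars (Fin 3) F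

/-- A primitive cube root of unity. -/
structure CubeRoot (u : Fˣ) : Prop where
  cube : (u : F) ^ 3 = 1
  ne : (u : F) ≠ 1

variable {u : Fˣ}

theorem CubeRoot.sum (hu : CubeRoot u) : (u : F) ^ 2 + u + 1 = 0 := by
  have h : ((u : F) - 1) * ((u : F) ^ 2 + u + 1) = 0 := by linear_combination hu.cube
  exact (mul_eq_zero.1 h).resolve_left (sub_ne_zero.2 hu.ne)

theorem CubeRoot.three (hu : CubeRoot u) : (3 : F) ≠ 0 := fun h => by
  have : ((u : F) - 1) ^ 3 = 0 := by linear_combination hu.cube + ((u : F) - (u : F) ^ 2) * h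
  exact hu.ne (sub_eq_zero.1 (pow_eq_zero_iff (by norm_num) |>.1 this))

theorem CubeRoot.sq_ne (hu : CubeRoot u) : (u : F) ^ 2 ≠ 1 := fun h => hu.ne (by
  linear_combination hu.cube - (u : F) * h)

theorem CubeRoot.diff (hu : CubeRoot u) : (u : F) - (u : F) ^ 2 ≠ 0 := fun h => hu.ne (by
  apply mul_left_cancel₀ u.ne_zero
  linear_combination -h)

/-- The diagonal generator. -/
def clock (u : Fˣ) : GL (Fin 3) F := dg ![1, u, u ^ 2]

/-- The twisting diagonal element. -/
def twist (u : Fˣ) : GL (Fin 3) F := dg ![1, 1, u]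

/-- The character table of the group of order three. -/
def charTable (u : Fˣ) : Matrix (Fin 3) (Fin 3) F :=
  !![1, 1, 1; 1, (u : F), (u : F) ^ 2; 1, (u : F) ^ 2, (u : F)]

/-- The Fourier matrix. -/
def fourierMat (u : Fˣ) : Matrix (Fin 3) (Fin 3) F := ((u : F) - (u : F) ^ 2)⁻¹ • charTable u

theorem CubeRoot.diff_sq (hu : CubeRoot u) : ((u : F) - (u : F) ^ 2) ^ 2 = -3 := by
  linear_combination ((u : F) - 2) * hu.cube + hu.sum + (0 : F)

theorem fourierMat_det (hu : CubeRoot u) : (fourierMat u).det = 1 := by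
  have h := hu.diff
  have e : (charTable u).det = ((u : F) - (u : F) ^ 2) ^ 3 := by
    simp [charTable, Matrix.det_fin_three]
    linear_combination -(u : F) * hu.cube - ((u : F) - (u : F) ^ 2) * hu.diff_sq
  rw [fourierMat, Matrix.det_smul, Fintype.card_fin, e, inv_pow, inv_mul_cancel₀ (pow_ne_zero 3 h)]

/-- The permutation matrix exchanging the last two coordinates, negated. -/
def negSwap (F : Type*) [Field F] : Matrix (Fin 3) (Fin 3) F := !![-1, 0, 0; 0, 0, -1; 0, -1, 0]

theorem fourierMat_sq (hu : CubeRoot u) : fourierMat u * fourierMat u = negSwap F := by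
  have hs := hu.sum
  have h3 := hu.cube
  have e : charTable u * charTable u = (-3 : F) • negSwap F := by
    ext i j
    fin_cases i <;> fin_cases j <;> simp [charTable, negSwap, Matrix.mul_apply, Fin.sum_univ_three] <;>
      first | ring1 | linear_combination hs | linear_combination hs + (u : F) * h3 | linear_combination (2 : F) * h3 |
        linear_combination 2 * h3 | linear_combination h3 | linear_combination 2 * h3 + (0 : F)
  rw [fourierMat, Matrix.smul_mul, Matrix.mul_smul, e, smul_smul, smul_smul, ← mul_inv, ← pow_two, hu.diff_sq,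
    inv_mul_cancel₀ (neg_ne_zero.2 hu.three), one_smul]

/-- The Fourier element. -/
def fourier (hu : CubeRoot u) : GL (Fin 3) F :=
  Matrix.GeneralLinearGroup.mkOfDetNeZero (fourierMat u) (by rw [fourierMat_det hu]; exact one_ne_zero)

/-- `H` contains a conjugate of the four generators. -/
structure HasC6 (H : Subgroup (GL (Fin 3) F)) (P : GL (Fin 3) F) {u : Fˣ} (hu : CubeRoot u) : Prop where
  clock_mem : P * clock u * P⁻¹ ∈ H
  shift_mem : P * shift F * P⁻¹ ∈ H
  four_mem : P * fourier hu * P⁻¹ ∈ H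
  four'_mem : P * (twist u * fourier hu * (twist u)⁻¹) * P⁻¹ ∈ H

theorem clock_cube (hu : CubeRoot u) : clock u ^ 3 = 1 := by
  rw [clock, dg_pow, ← dg_one]
  congr 1
  funext i
  have h : u ^ 3 = 1 := Units.ext (by simpa using hu.cube)
  fin_cases i
  · show (1 : Fˣ) ^ 3 = 1; rw [one_pow]
  · exact h
  · show (u ^ 2) ^ 3 = 1; rw [← pow_mul, pow_mul', h, one_pow]

theorem shift_cube : shift F ^ 3 = 1 := by
  apply GeomClasses.gl_ext
  intro x
  rw [pow_succ, pow_two, GeomClasses.gl_mul_mulVec, GeomClasses.gl_mul_mulVec, shift_mulVec, shift_mulVec,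
    shift_mulVec]
  funext i
  fin_cases i <;> simp

/-- Scalar by a cube root. -/
def omega (u : Fˣ) : GL (Fin 3) F := dg fun _ => u

theorem omega_mem (u : Fˣ) : omega u ∈ Z₃ :=
  (Cfsg.Geo.mem_scalars_iff _).2 ⟨u, by rw [omega, dg_val]; exact (Matrix.smul_one_eq_diagonal _).symm⟩

theorem shift_clock (hu : CubeRoot u) : clock u * shift F = omega u * (shift F * clock u) := by
  rw [clock, shift_mul_dg, ← mul_assoc, omega, dg_mul]
  congr 2
  funext i
  have h : u ^ 3 = 1 := Units.ext (by simpa using hu.cube)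
  fin_cases i
  · show (1 : Fˣ) = u * u ^ 2; rw [← pow_succ', h]
  · show u = u * 1; rw [mul_one]
  · show u ^ 2 = u * u; rw [pow_two]

theorem fourier_clock (hu : CubeRoot u) : shift F * (fourier hu * clock u) = fourier hu := by
  have h3 := hu.cube
  apply Units.ext
  show (shiftMat F * (fourierMat u * Matrix.diagonal _) : Matrix (Fin 3) (Fin 3) F) = fourierMat u
  rw [fourierMat]
  simp only [Matrix.smul_mul, Matrix.mul_smul]
  congr 1
  ext i j
  fin_cases i <;> fin_cases j <;> simp [charTable, shiftMat, Matrix.vecMul_diagonal, Matrix.mul_diagonal, Matrix.diagonal_mul, Matrix.mul_apply, Fin.sum_univ_three] <;>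
    first | ring1 | linear_combination h3 | linear_combination -h3 |
      linear_combination (u : F) * h3 | linear_combination -(u : F) * h3

theorem fourier_shift (hu : CubeRoot u) : fourier hu * shift F = clock u * fourier hu := by
  have h3 := hu.cube
  apply Units.ext
  show (fourierMat u * shiftMat F : Matrix (Fin 3) (Fin 3) F) = Matrix.diagonal _ * fourierMat u
  rw [fourierMat]
  simp only [Matrix.smul_mul, Matrix.mul_smul]
  congr 1
  ext i j
  fin_cases i <;> fin_cases j <;> simp [charTable, shiftMat, Matrix.vecMul_diagonal, Matrix.mul_diagonal, Matrix.diagonal_mul, Matrix.mul_apply, Fin.sum_univ_three] <;>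
    first | ring1 | linear_combination h3 | linear_combination -h3 |
      linear_combination (u : F) * h3 | linear_combination -(u : F) * h3

theorem twist_clock (u : Fˣ) : twist u * clock u = clock u * twist u := by
  rw [twist, clock, dg_mul, dg_mul, mul_comm]

theorem twist_shift (hu : CubeRoot u) : twist u * shift F = omega (u ^ 2) * (clock u * (shift F * twist u)) := by
  rw [twist, shift_mul_dg, clock, omega, ← mul_assoc, ← mul_assoc, dg_mul, dg_mul]
  congr 2
  funext i
  have h : u ^ 3 = 1 := Units.ext (by simpa using hu.cube)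
  fin_cases i
  · show (1 : Fˣ) = u ^ 2 * 1 * u; rw [mul_one, ← pow_succ, h]
  · show (1 : Fˣ) = u ^ 2 * u * 1; rw [mul_one, ← pow_succ, h]
  · show u = u ^ 2 * u ^ 2 * 1; rw [mul_one, ← pow_add, pow_succ u 3, h, one_mul]

theorem quotient_relations {G : Type*} [Group G] {x y g d : G} (hxy : x * y = y * x) (hx3 : x ^ 3 = 1)
    (h1 : y * (g * x) = g) (h2 : g * y = x * g) (hd1 : d * x = x * d) (hd2 : d * y = x * (y * d)) :
    d * g * d⁻¹ * x * (d * g * d⁻¹)⁻¹ * (y * x) = 1 ∧
      d * g * d⁻¹ * y * (d * g * d⁻¹)⁻¹ * (y⁻¹ * x) = 1 := by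
  have hc : Commute x y := hxy
  have e1 : g * x * g⁻¹ = y⁻¹ := by
    rw [mul_inv_eq_iff_eq_mul, eq_inv_mul_iff_mul_eq, h1]
  have e2 : g * y * g⁻¹ = x := by rw [mul_inv_eq_iff_eq_mul, h2]
  have e3 : d * x * d⁻¹ = x := by rw [mul_inv_eq_iff_eq_mul, hd1]
  have e4 : d * y * d⁻¹ = x * y := by rw [mul_inv_eq_iff_eq_mul, hd2, mul_assoc]
  have e5 : d⁻¹ * x * d = x := by
    conv_lhs => rw [← e3]
    group
  have e6 : d⁻¹ * y * d = x⁻¹ * y := by
    have : y = x⁻¹ * (d * y * d⁻¹) := by rw [e4, inv_mul_cancel_left]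
    calc d⁻¹ * y * d = d⁻¹ * (x⁻¹ * (d * y * d⁻¹)) * d := by rw [← this]
      _ = (d⁻¹ * x * d)⁻¹ * y := by group
      _ = x⁻¹ * y := by rw [e5]
  constructor
  · calc d * g * d⁻¹ * x * (d * g * d⁻¹)⁻¹ * (y * x) = d * (g * (d⁻¹ * x * d) * g⁻¹) * d⁻¹ * (y * x) := by group
      _ = (d * y * d⁻¹)⁻¹ * (y * x) := by rw [e5, e1]; group
      _ = 1 := by rw [e4, hc.eq, inv_mul_cancel]
  · calc d * g * d⁻¹ * y * (d * g * d⁻¹)⁻¹ * (y⁻¹ * x) = d * (g * (d⁻¹ * y * d) * g⁻¹) * d⁻¹ * (y⁻¹ * x) := by group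
      _ = d * ((g * x * g⁻¹)⁻¹ * (g * y * g⁻¹)) * d⁻¹ * (y⁻¹ * x) := by rw [e6]; group
      _ = (d * y * d⁻¹) * (d * x * d⁻¹) * (y⁻¹ * x) := by rw [e1, e2]; group
      _ = x * (y * x * y⁻¹) * x := by rw [e4, e3]; group
      _ = 1 := by rw [← hc.eq, mul_inv_cancel_right, ← hx3, pow_succ, pow_two]

namespace HasC6

variable {H : Subgroup (GL (Fin 3) F)} {P : GL (Fin 3) F} {hu : CubeRoot u}

theorem mono (h : HasC6 H P hu) {K : Subgroup (GL (Fin 3) F)} (hle : H ≤ K) : HasC6 K P hu :=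
  ⟨hle h.clock_mem, hle h.shift_mem, hle h.four_mem, hle h.four'_mem⟩

theorem hasTorus (h : HasC6 H P hu) : HasTorus (H.map (MulAut.conj P⁻¹).toMonoidHom) u := by
  have mem : ∀ g, P * g * P⁻¹ ∈ H → g ∈ H.map (MulAut.conj P⁻¹).toMonoidHom := fun g hg =>
    ⟨_, hg, by simp [mul_assoc]⟩
  have hs := mem _ h.shift_mem
  refine ⟨?_, hs⟩
  have h1 := shift_conj_dg hs (shift_conj_dg hs (mem _ h.clock_mem))
  convert h1 using 2
  have h3 : u ^ 3 = 1 := Units.ext (by simpa using hu.cube)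
  funext i
  fin_cases i <;> simp [inv_eq_of_mul_eq_one_right (show u * u ^ 2 = 1 by rw [← pow_succ', h3])]

theorem irreducible (h : HasC6 H P hu) {W : Submodule F (Fin 3 → F)} (hW : H ≤ Cfsg.Geo.subspaceStabilizer W)
    (hW0 : W ≠ ⊥) : W = ⊤ := by
  set L := Matrix.toLin' ((P⁻¹ : GL (Fin 3) F) : Matrix (Fin 3) (Fin 3) F) with hL
  have hinj : Function.Injective L := fun x y hxy =>
    GeomClasses.gl_mulVec_injective P⁻¹ (by simpa [hL] using hxy)
  have hsurj : Function.Surjective L := LinearMap.injective_iff_surjective.1 hinj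
  have h2 : W.map L = ⊤ := by
    refine h.hasTorus.irreducible hu.sq_ne ?_ (fun e => hW0 ?_)
    · rintro g ⟨k, hk, rfl⟩
      rw [GeomClasses.mem_subspaceStabilizer]
      rintro _ ⟨w, hw, rfl⟩
      refine ⟨(k : Matrix (Fin 3) (Fin 3) F) *ᵥ w, GeomClasses.mem_subspaceStabilizer.1 (hW hk) w hw, ?_⟩
      simp only [hL, Matrix.toLin'_apply, MulEquiv.coe_toMonoidHom, MulAut.conj_apply, inv_inv, Units.val_mul,
        ← Matrix.mulVec_mulVec, GeomClasses.gl_mulVec_inv_mulVec]
    · exact Submodule.map_injective_of_injective hinj (e.trans (Submodule.map_bot L).symm)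
  exact Submodule.map_injective_of_injective hinj (h2.trans (by rw [Submodule.map_top, LinearMap.range_eq_top.2 hsurj]))

theorem four_pow (hu : CubeRoot u) : fourier hu ^ 4 = 1 := by
  apply Units.ext
  rw [Units.val_pow_eq_pow_val, show (4 : ℕ) = 2 + 2 from rfl, pow_add, pow_two]
  show fourierMat u * fourierMat u * (fourierMat u * fourierMat u) = 1
  rw [fourierMat_sq hu]
  ext i j
  fin_cases i <;> fin_cases j <;> simp [negSwap, Matrix.mul_apply, Fin.sum_univ_three]

theorem squares_ne (hu : CubeRoot u) :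
    fourier hu ^ 2 * (twist u * fourier hu * (twist u)⁻¹) ^ 2 ≠
      (twist u * fourier hu * (twist u)⁻¹) ^ 2 * fourier hu ^ 2 := by
  intro he
  have e : twist u * fourier hu ^ 2 * (twist u)⁻¹ = (twist u * fourier hu * (twist u)⁻¹) ^ 2 := by
    rw [pow_two, pow_two]; group
  rw [← e] at he
  have hval : ∀ A : GL (Fin 3) F, (twist u * A * (twist u)⁻¹ : GL (Fin 3) F).val =
      Matrix.diagonal ![1, 1, (u : F)] * A.val * Matrix.diagonal ![1, 1, ((u⁻¹ : Fˣ) : F)] := by
    intro A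
    rw [Units.val_mul, Units.val_mul, twist, dg_val, show ((dg ![1, 1, u])⁻¹ : GL (Fin 3) F) = dg ![1, 1, u⁻¹] from
      inv_eq_of_mul_eq_one_right (by
        rw [dg_mul, ← dg_one]; congr 1; funext i; fin_cases i <;> simp), dg_val]
    congr 2
    · congr 1; funext i; fin_cases i <;> simp
    · funext i; fin_cases i <;> simp
  have h := congrArg (fun g : GL (Fin 3) F => g.val 1 1) he
  simp only [Units.val_mul, hval] at h
  rw [Units.val_pow_eq_pow_val] at h
  have h3 := hu.three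
  have hs := hu.sum
  have hd := hu.diff
  have key : (fourier hu).val ^ 2 = negSwap F := by
    rw [pow_two]; exact fourierMat_sq hu
  rw [key] at h
  simp [negSwap, Matrix.mul_apply, Fin.sum_univ_three] at h
  exact hu.sq_ne (by rw [pow_two]; field_simp at h; linear_combination h)

theorem four'_pow (hu : CubeRoot u) : (twist u * fourier hu * (twist u)⁻¹) ^ 4 = 1 := by
  rw [conj_pow, four_pow hu, mul_one, mul_inv_cancel]

theorem squares (h : HasC6 H P hu) :
    ∃ g k, g ∈ H ∧ k ∈ H ∧ g ^ 4 = 1 ∧ k ^ 4 = 1 ∧ g ^ 2 * k ^ 2 ≠ k ^ 2 * g ^ 2 ∧ g * k ≠ k * g := by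
  refine ⟨_, _, h.four_mem, h.four'_mem, by rw [conj_pow, four_pow hu, mul_one, mul_inv_cancel],
    by rw [conj_pow, four'_pow hu, mul_one, mul_inv_cancel], ?_, ?_⟩
  · simp only [conj_pow]
    intro e
    apply squares_ne hu
    apply mul_right_cancel (b := P⁻¹)
    rw [conj_pow]
    simpa [mul_assoc] using e
  · intro e
    apply squares_ne hu
    have e' : Commute (fourier hu) (twist u * fourier hu * (twist u)⁻¹) := by
      show _ = _
      apply mul_right_cancel (b := P⁻¹)
      simpa [mul_assoc] using e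
    exact (e'.pow_pow 2 2).eq

theorem not_monomial (h : HasC6 H P hu) {D : Fin 3 → Submodule F (Fin 3 → F)} (hD : Cfsg.Geo.IsMDecomposition 1 D) :
    ¬ H ≤ Cfsg.Geo.decompositionStabilizer D := fun hle => by
  obtain ⟨g, k, hg, hk, hg4, hk4, hne, -⟩ := h.squares
  exact hne (monomial_squares hD (hle hg) (hle hk) hg4 hk4)

theorem not_field [Fintype F] (h : HasC6 H P hu) {K : Subalgebra F (Matrix (Fin 3) (Fin 3) F)}
    (hK : Cfsg.Geo.IsFieldSubalgebra 3 K) : ¬ H ≤ Cfsg.Geo.subalgebraNormalizer K := fun hle => by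
  obtain ⟨g, k, hg, hk, hg4, hk4, -, hne⟩ := h.squares
  exact hne (field_commute hK (hle hg) (hle hk) hg4 hk4)

theorem commutator_eq (h : HasC6 H P hu) :
    ∃ g ∈ H, ∃ k ∈ H, g * k = omega u * (k * g) := by
  refine ⟨_, h.clock_mem, _, h.shift_mem, ?_⟩
  calc P * clock u * P⁻¹ * (P * shift F * P⁻¹) = P * (clock u * shift F) * P⁻¹ := by group
    _ = omega u * P * (shift F * clock u) * P⁻¹ := by
      rw [shift_clock hu, ← mul_assoc P (omega u), ← scalar_comm (omega_mem u) P]
    _ = _ := by group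

theorem not_similarity (h : HasC6 H P hu) {σ : F →+* F} {f : (Fin 3 → F) → (Fin 3 → F) → F}
    (hf : GeomClasses.IsSesq σ f) (hfn : Cfsg.Geo.IsNondegenerateForm f) (hσ : (u : F) * σ u ≠ 1) :
    ¬ H ≤ Cfsg.Geo.similarityGroup f := fun hle => by
  obtain ⟨g, hg, k, hk, hgk⟩ := h.commutator_eq
  obtain ⟨a, ha⟩ := hle hg
  obtain ⟨b, hb⟩ := hle hk
  obtain ⟨x, hx⟩ : ∃ x, f (Pi.single 0 1) x ≠ 0 := (hfn _ (by simp)).2
  obtain ⟨y, hy⟩ : ∃ y, (k : Matrix (Fin 3) (Fin 3) F) *ᵥ ((g : Matrix (Fin 3) (Fin 3) F) *ᵥ y) = Pi.single 0 1 :=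
    ⟨((k * g)⁻¹ : GL (Fin 3) F).val *ᵥ Pi.single 0 1, by
      rw [← GeomClasses.gl_mul_mulVec, GeomClasses.gl_mulVec_inv_mulVec]⟩
  obtain ⟨z, hz⟩ : ∃ z, (k : Matrix (Fin 3) (Fin 3) F) *ᵥ ((g : Matrix (Fin 3) (Fin 3) F) *ᵥ z) = x :=
    ⟨((k * g)⁻¹ : GL (Fin 3) F).val *ᵥ x, by
      rw [← GeomClasses.gl_mul_mulVec, GeomClasses.gl_mulVec_inv_mulVec]⟩
  have hw : ∀ v, (g : Matrix (Fin 3) (Fin 3) F) *ᵥ ((k : Matrix (Fin 3) (Fin 3) F) *ᵥ v) =
      (u : F) • ((k : Matrix (Fin 3) (Fin 3) F) *ᵥ ((g : Matrix (Fin 3) (Fin 3) F) *ᵥ v)) := by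
    intro v
    rw [← GeomClasses.gl_mul_mulVec, hgk, GeomClasses.gl_mul_mulVec, GeomClasses.gl_mul_mulVec, omega, dg_mulVec]
    rfl
  have e1 := hb ((g : Matrix (Fin 3) (Fin 3) F) *ᵥ y) ((g : Matrix (Fin 3) (Fin 3) F) *ᵥ z)
  rw [ha, hy, hz] at e1
  have e2 := ha ((k : Matrix (Fin 3) (Fin 3) F) *ᵥ y) ((k : Matrix (Fin 3) (Fin 3) F) *ᵥ z)
  rw [hb, hw, hw, hy, hz, hf.smul_left, hf.smul_right] at e2
  apply hσ
  apply mul_right_cancel₀ hx
  linear_combination e2 - e1

theorem not_subfield (h : HasC6 H P hu) {F₀ : Subfield F} (hu0 : (u : F) ∉ F₀) {Q : GL (Fin 3) F} :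
    ¬ H ≤ Cfsg.Geo.subfieldSubgroup F₀ Q := fun hle => by
  obtain ⟨g, hg, k, hk, hgk⟩ := h.commutator_eq
  obtain ⟨A, a, hA⟩ := mem_subfieldSubgroup (hle hg)
  obtain ⟨B, b, hB⟩ := mem_subfieldSubgroup (hle hk)
  apply hu0
  set φ := (fun x : F₀ => (x : F)) with hφ
  have hom : ∀ X Y : Matrix (Fin 3) (Fin 3) F₀, X.map φ * Y.map φ = (X * Y).map φ := fun X Y =>
    (Matrix.map_mul (L := X) (M := Y) (f := (F₀.subtype : F₀ →+* F))).symm
  have e : (Q⁻¹ * g * Q * (Q⁻¹ * k * Q) : GL (Fin 3) F) = omega u * (Q⁻¹ * k * Q * (Q⁻¹ * g * Q)) := by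
    calc Q⁻¹ * g * Q * (Q⁻¹ * k * Q) = Q⁻¹ * (g * k) * Q := by group
      _ = omega u * Q⁻¹ * (k * g) * Q := by
        rw [hgk, ← mul_assoc Q⁻¹ (omega u), ← scalar_comm (omega_mem u) Q⁻¹]
      _ = _ := by group
  have e' := congrArg Units.val e
  rw [Units.val_mul (Q⁻¹ * g * Q), Units.val_mul (omega u), Units.val_mul (Q⁻¹ * k * Q) (Q⁻¹ * g * Q), hA, hB, omega, dg_val,
    ← Matrix.smul_one_eq_diagonal, smul_mul_smul_comm, smul_mul_smul_comm, hom, hom, Matrix.smul_mul, one_mul,
    smul_smul] at e'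
  set L := ((A : Matrix (Fin 3) (Fin 3) F₀) * B).map φ with hL
  obtain ⟨i, j, hij⟩ : ∃ i j, ((B : Matrix (Fin 3) (Fin 3) F₀) * A) i j ≠ 0 := by
    by_contra hc
    push Not at hc
    have : ((B * A : GL (Fin 3) F₀) : Matrix (Fin 3) (Fin 3) F₀) = 0 := by ext i j; simpa using hc i j
    exact Units.ne_zero _ this
  have h2 := congrFun (congrFun e' i) j
  simp only [hL, Matrix.smul_apply, Matrix.map_apply, smul_eq_mul, hφ] at h2
  have hab : (a : F) * b ≠ 0 := mul_ne_zero a.ne_zero b.ne_zero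
  have : (u : F) = ((((A : Matrix (Fin 3) (Fin 3) F₀) * B) i j : F₀) : F) / ((((B : Matrix (Fin 3) (Fin 3) F₀) * A) i j : F₀) : F) := by
    rw [eq_div_iff (by simpa using hij)]
    apply mul_left_cancel₀ hab
    linear_combination -h2
  rw [this]
  exact F₀.div_mem (SetLike.coe_mem _) (SetLike.coe_mem _)

/-- No almost simple group of type `A₆` contains it. -/
theorem not_alt_six (h : HasC6 H P hu) (hsl : H ≤ Cfsg.Geo.specialLinear (Fin 3) F) (h5 : (5 : F) ≠ 0)
    (S : AlmostSimple H (alternatingGroup (Fin 6))) : False := by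
  haveI hn : (Z₃).Normal := Cfsg.Geo.scalars_normal
  let π : GL (Fin 3) F →* GL (Fin 3) F ⧸ Z₃ := QuotientGroup.mk' Z₃
  have hπ : ∀ g, g ∈ Z₃ ↔ π g = 1 := fun g => (QuotientGroup.eq_one_iff g).symm
  have hom : ∀ v : Fˣ, π (omega v) = 1 := fun v => (hπ _).1 (omega_mem v)
  have hxy : π (clock u) * π (shift F) = π (shift F) * π (clock u) := by
    rw [← map_mul, shift_clock hu, map_mul, hom, one_mul, map_mul]
  have hd2 : π (twist u) * π (shift F) = π (clock u) * (π (shift F) * π (twist u)) := by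
    rw [← map_mul, twist_shift hu, map_mul, hom, one_mul, map_mul, map_mul]
  have rel := quotient_relations hxy (by rw [← map_pow, clock_cube hu, map_one])
    (g := π (fourier hu)) (by rw [← map_mul, ← map_mul, fourier_clock hu])
    (by rw [← map_mul, ← map_mul, fourier_shift hu]) (by rw [← map_mul, ← map_mul, twist_clock]) hd2
  have back : ∀ g, g ∈ Z₃ → P * g * P⁻¹ ∈ Z₃ := fun g hg => hn.conj_mem g hg P
  have notin : ∀ g, g ∉ Z₃ → P * g * P⁻¹ ∉ Z₃ := fun g hg h' => hg (by
    simpa [mul_assoc] using hn.conj_mem _ h' P⁻¹)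
  have hne : ∀ v : Fin 3 → Fˣ, v 0 ≠ v 1 → dg v ∉ Z₃ := fun v hv hv' => hv (dg_mem_scalars hv').1
  have hu1 : (u : Fˣ) ≠ 1 := fun e => hu.ne (by simp [e])
  refine S.no_heisenberg hsl hu.three h5 h.clock_mem h.shift_mem h.four_mem h.four'_mem ?_ ?_ ?_ ?_ ?_ ?_ ?_ ?_ ?_ ?_ ?_
  · rw [conj_pow]; exact back _ (by rw [clock_cube hu]; exact one_mem _)
  · rw [conj_pow]; exact back _ (by rw [shift_cube]; exact one_mem _)
  · have := back (clock u * shift F * (clock u)⁻¹ * (shift F)⁻¹)
      ((hπ _).2 (by simp only [map_mul, map_inv, hxy]; group))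
    simpa [mul_assoc] using this
  · exact notin _ (hne _ (by simpa using Ne.symm hu1))
  · refine notin _ fun h' => ?_
    obtain ⟨c, hc⟩ := (Cfsg.Geo.mem_scalars_iff _).1 h'
    have := congrFun (congrFun hc 0) 0
    simp [shift_val, shiftMat] at this
    exact c.ne_zero this.symm
  · have := notin (shift F * (clock u)⁻¹) fun h' => by
      obtain ⟨c, hc⟩ := (Cfsg.Geo.mem_scalars_iff _).1 h'
      have e : shiftMat F = ((c : F) • (1 : Matrix (Fin 3) (Fin 3) F)) * (clock u).val := by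
        rw [← hc, ← Units.val_mul, inv_mul_cancel_right, shift_val]
      have := congrFun (congrFun e 0) 0
      simp [shiftMat, clock, dg_val] at this
      exact c.ne_zero this.symm
    simpa [mul_assoc] using this
  · have := notin (shift F * clock u) fun h' => by
      obtain ⟨c, hc⟩ := (Cfsg.Geo.mem_scalars_iff _).1 h'
      have := congrFun (congrFun hc 0) 0
      simp [shift_val, shiftMat, clock, dg_val] at this
      exact c.ne_zero this.symm
    simpa [mul_assoc] using this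
  · have := back (fourier hu * clock u * (fourier hu)⁻¹ * shift F) ((hπ _).2 (by
      have e : π (shift F) * (π (fourier hu) * π (clock u)) = π (fourier hu) := by
        rw [← map_mul, ← map_mul, fourier_clock hu]
      simp only [map_mul, map_inv]
      rw [show π (fourier hu) * π (clock u) = (π (shift F))⁻¹ * π (fourier hu) from eq_inv_mul_iff_mul_eq.2 e]
      group))
    simpa [mul_assoc] using this
  · have := back (fourier hu * shift F * (fourier hu)⁻¹ * (clock u)⁻¹) ((hπ _).2 (by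
      rw [fourier_shift hu]; simp))
    simpa [mul_assoc] using this
  · have := back (twist u * fourier hu * (twist u)⁻¹ * clock u * (twist u * fourier hu * (twist u)⁻¹)⁻¹ *
      (shift F * clock u)) ((hπ _).2 (by simpa only [map_mul, map_inv] using rel.1))
    simpa [mul_assoc] using this
  · have := back (twist u * fourier hu * (twist u)⁻¹ * shift F * (twist u * fourier hu * (twist u)⁻¹)⁻¹ *
      ((shift F)⁻¹ * clock u)) ((hπ _).2 (by simpa only [map_mul, map_inv] using rel.2))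
    simpa [mul_assoc] using this

end HasC6

end CfsgLib.DimThreeMax
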