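import Cfsg.Agent.Lib.GeomClasses.MaxLinearUnit
import Cfsg.Agent.Lib.GeomClasses.UnitCentres
import Cfsg.Agent.Lib.DimThreeMax.Normal

/-!
The unitary similitudes are maximal in the three-dimensional special linear group, over any finite field.
-/

set_option autoImplicit false
set_option linter.unusedSectionVars false
set_option linter.unusedSimpArgs false

namespace CfsgLib.DimThreeMax

open Matrix CfsgLib.GeomClasses CfsgLib.GeomClasses.Unit CfsgLib.GeomClasses.MaxLinear.UnitCase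
open scoped MatrixGroups

variable {F : Type*} [Field F] [Fintype F] {σ : F ≃+* F} {f : (Fin 3 → F) → (Fin 3 → F) → F}
  {M : Subgroup (GL (Fin 3) F)}

theorem fVec_isometry (hf : Cfsg.Geo.IsUnitaryForm σ f) {g : GL (Fin 3) F}
    (hg : ∀ x y, f (g.val *ᵥ x) (g.val *ᵥ y) = f x y) (p : Fin 3 → F) :
    fVec f p ᵥ* ((g⁻¹ : GL (Fin 3) F) : Matrix (Fin 3) (Fin 3) F) = fVec f (g.val *ᵥ p) := by
  refine dot_right_cancel fun x => ?_
  rw [← dotProduct_mulVec, (Unit.sesq hf).fVec_dot, (Unit.sesq hf).fVec_dot]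
  conv_lhs => rw [← hg]
  rw [gl_mulVec_inv_mulVec]

theorem eq_zero_of_three {φ a b c : Fin 3 → F} (hind : LinearIndependent F ![a, b, c]) (ha : φ ⬝ᵥ a = 0)
    (hb : φ ⬝ᵥ b = 0) (hc : φ ⬝ᵥ c = 0) : φ = 0 := by
  obtain ⟨P, hP⟩ := exists_columns hind
  refine dot_right_cancel fun x => ?_
  obtain ⟨y, rfl⟩ : ∃ y, x = P.val *ᵥ y := ⟨_, (gl_mulVec_inv_mulVec P x).symm⟩
  rw [hP, zero_dotProduct]
  simp [Fin.sum_univ_three, dotProduct_add, ha, hb, hc]

theorem independent_three {a b c : Fin 3 → F}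
    (h : ∀ r s t : F, r • a + s • b + t • c = 0 → r = 0 ∧ s = 0 ∧ t = 0) :
    LinearIndependent F ![a, b, c] := by
  rw [Fintype.linearIndependent_iff]
  intro g hg i
  simp [Fin.sum_univ_three] at hg
  obtain ⟨h0, h1, h2⟩ := h _ _ _ hg
  fin_cases i
  · exact h0
  · exact h1
  · exact h2

theorem exists_perp_two (hf : Cfsg.Geo.IsUnitaryForm σ f) (a b : Fin 3 → F) :
    ∃ e, e ≠ 0 ∧ f e a = 0 ∧ f e b = 0 := by
  classical
  set S := Submodule.span F ({a, b} : Set (Fin 3 → F))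
  have h1 := Unit.finrank_perp hf S
  have h2 : Module.finrank F S ≤ 2 := by
    have := finrank_span_finset_le_card (R := F) ({a, b} : Finset (Fin 3 → F))
    rw [Finset.coe_pair] at this
    exact this.trans Finset.card_le_two
  rw [Fintype.card_fin] at h1
  obtain ⟨e, he, he0⟩ := Submodule.exists_mem_ne_zero_of_ne_bot
    (show Unit.perp hf S ≠ ⊥ from fun h => by rw [h, finrank_bot] at h1; omega)
  exact ⟨e, he0, (Unit.mem_perp hf).1 he _ (Submodule.subset_span (by simp)),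
    (Unit.mem_perp hf).1 he _ (Submodule.subset_span (by simp))⟩

theorem pair_aniso (hf : Cfsg.Geo.IsUnitaryForm σ f) {b z e : Fin 3 → F} (hbb : f b b = 0) (hzz : f z z = 0)
    (hbz : f b z ≠ 0) (he : e ≠ 0) (heb : f e b = 0) (hez : f e z = 0) : f e e ≠ 0 := by
  intro hee
  have hind : LinearIndependent F ![b, z, e] := independent_three fun r s t h => by
    have e1 := congrArg (f · z) h
    have e2 := congrArg (f · b) h
    simp only [Unit.add_left hf, Unit.smul_left hf, Unit.zero_left hf, hzz, hez, hbb, heb, mul_zero, add_zero,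
      zero_add] at e1 e2
    have hr := (mul_eq_zero.1 e1).resolve_right hbz
    have hs := (mul_eq_zero.1 e2).resolve_right (Unit.ne_zero_comm hf hbz)
    rw [hr, hs, zero_smul, zero_smul, zero_add, zero_add] at h
    exact ⟨hr, hs, (smul_eq_zero.1 h).resolve_right he⟩
  have := eq_zero_of_three (φ := fVec f e) hind
    (by rw [(Unit.sesq hf).fVec_dot]; exact Unit.eq_zero_comm hf heb)
    (by rw [(Unit.sesq hf).fVec_dot]; exact Unit.eq_zero_comm hf hez)
    (by rw [(Unit.sesq hf).fVec_dot]; exact hee)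
  exact (Unit.sesq hf).fVec_ne_zero hf.nondegenerate he this

/-- The hypothesis that `M` contains the special unitary group. -/
def Isometries (f : (Fin 3 → F) → (Fin 3 → F) → F) (M : Subgroup (GL (Fin 3) F)) : Prop :=
  ∀ h ∈ Cfsg.Geo.specialLinear (Fin 3) F, (∀ x y, f (h.val *ᵥ x) (h.val *ᵥ y) = f x y) → h ∈ M

/-- All transvections with centre and pole `v` lie in `M`. -/
def Full (f : (Fin 3 → F) → (Fin 3 → F) → F) (M : Subgroup (GL (Fin 3) F)) (v : Fin 3 → F) : Prop :=
  ∀ r : F, tv (r • v) (fVec f v) ∈ M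

theorem skew_mem (hf : Cfsg.Geo.IsUnitaryForm σ f) (hI : Isometries f M) {v : Fin 3 → F} {c : F}
    (hv : f v v = 0) (hc : c + σ c = 0) : formTv f v c ∈ M :=
  hI _ (formTv_mem_specialLinear _ _ _) (Unit.formTv_isometry hf hv hc)

theorem Full.smul_move (hf : Cfsg.Geo.IsUnitaryForm σ f) (hI : Isometries f M) {v v' : Fin 3 → F}
    (h : Full f M v) (hv : f v v = 0) (hv' : f v' v' = 0) (hne : f v v' ≠ 0) : Full f M v' := by
  obtain ⟨c, hc0, hc⟩ := exists_skew hf.ne_refl hf.involutive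
  -- an isotropic u on the line through v and v'
  set a := c / f v v' with ha
  have hσa : σ (f v v') ≠ 0 := (RingEquiv.map_ne_zero_iff σ).2 hne
  set u := v' + a • v with hu
  have huu : f u u = 0 := by
    rw [hu, Unit.self_add_smul hf, hv, hv']
    have e : a * f v v' = c := by rw [ha, div_mul_cancel₀ _ hne]
    have e' : σ a * σ (f v v') = σ c := by rw [← map_mul, e]
    rw [map_mul]
    linear_combination e + e' + hc
  have hvu : f v u = f v v' := by
    rw [hu, Unit.add_right hf, Unit.smul_right hf, hv, mul_zero, add_zero]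
  have hd : -c⁻¹ + σ (-c⁻¹) = 0 := by
    rw [map_neg, map_inv₀, eq_neg_of_add_eq_zero_right hc, inv_neg, neg_neg, neg_add_cancel]
  set g := formTv f u (-c⁻¹) with hg
  have hgm : g ∈ M := skew_mem hf hI huu hd
  have hgi := Unit.formTv_isometry hf huu hd
  have hgv : g.val *ᵥ v = (-(c⁻¹ * f v v')) • v' := by
    rw [hg, Unit.formTv_mulVec hf huu, hvu, hu, ha]
    match_scalars <;> field_simp <;> ring
  set k := -(c⁻¹ * f v v') with hk
  have hk0 : k ≠ 0 := by rw [hk]; exact neg_ne_zero.2 (mul_ne_zero (inv_ne_zero hc0) hne)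
  intro r
  have hσk : σ k ≠ 0 := (RingEquiv.map_ne_zero_iff σ).2 hk0
  have h1 := M.mul_mem (M.mul_mem hgm (h (r / (σ k * k)))) (M.inv_mem hgm)
  rw [conj_tv g (by rw [(Unit.sesq hf).fVec_dot, Unit.smul_left hf, hv, mul_zero]), mulVec_smul, hgv,
    fVec_isometry hf hgi, hgv, (Unit.sesq hf).fVec_smul, ← tv_smul_comm (by
      rw [(Unit.sesq hf).fVec_dot, Unit.smul_left hf, Unit.smul_left hf, hv', mul_zero, mul_zero]),
    smul_smul, smul_smul] at h1
  convert h1 using 3
  simp only [RingHom.coe_coe]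
  field_simp

/-- One transvection with isotropic centre outside the unitary group gives a full point. -/
theorem full_of_tv (hf : Cfsg.Geo.IsUnitaryForm σ f) (hI : Isometries f M) {w ψ : Fin 3 → F} (hw : w ≠ 0)
    (hww : f w w = 0) (hψw : ψ ⬝ᵥ w = 0) (hmem : tv w ψ ∈ M) (hne : ¬ ∃ c : F, ψ = c • fVec f w) :
    Full f M w := by
  have hs := Unit.sesq hf
  obtain ⟨p, hp⟩ := exists_pole hf ψ
  have hwp : f w p = 0 := by rw [← hs.fVec_dot, hp]; exact hψw
  obtain ⟨b, hbw, hbp⟩ : ∃ b, f b w = 0 ∧ f b p ≠ 0 := by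
    by_contra h
    push Not at h
    obtain ⟨c, hc⟩ := exists_smul_of_ker_le (φ := fVec f w) (ψ := fVec f p)
      (hs.fVec_ne_zero hf.nondegenerate hw) (fun a ha => by rw [hs.fVec_dot] at ha ⊢; exact h a ha)
    exact hne ⟨c, by rw [← hp, hc]⟩
  have hpb : f p b ≠ 0 := Unit.ne_zero_comm hf hbp
  intro r
  obtain ⟨d, hd⟩ : ∃ d, d = σ (-(σ r) / f p b) := ⟨_, rfl⟩
  have hwd : f w (d • b) = 0 := by rw [Unit.smul_right hf, Unit.eq_zero_comm hf hbw, mul_zero]
  obtain ⟨γ, hγ⟩ := exists_trace hf.ne_refl hf.involutive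
    (show σ (- f (d • b) (d • b)) = - f (d • b) (d • b) by rw [map_neg, self_fixed hf])
  set g := UnitOrth.root f w (d • b) γ with hg
  have hgi := UnitOrth.root_isometry hf hww hwd hγ
  have hgm : g ∈ M := hI _ (UnitCentres.root_det hf) hgi
  have hgw : g.val *ᵥ w = w := by
    rw [hg, UnitOrth.root_mulVec hf hww hwd, hww, hwd]
    simp
  have hgp : g.val *ᵥ p = p + σ r • w := by
    rw [hg, UnitOrth.root_mulVec hf hww hwd, Unit.eq_zero_comm hf hwp, Unit.smul_right hf, hd, hf.involutive]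
    match_scalars <;> field_simp <;> ring
  have h1 := M.mul_mem (M.mul_mem hgm hmem) (M.inv_mem hgm)
  rw [← hp] at h1 hmem
  rw [conj_tv g (by rw [hs.fVec_dot, hwp]), hgw, fVec_isometry hf hgi, hgp] at h1
  have hd' : fVec f p ⬝ᵥ w = 0 := by rw [hs.fVec_dot, hwp]
  have h2 := M.mul_mem h1 (M.inv_mem hmem)
  rw [tv_inv hd', show -w = (-1 : F) • w by simp, tv_smul_comm hd',
    tv_mul_tv_right (by rw [hs.fVec_dot, Unit.add_right hf, Unit.smul_right hf, hwp, hww, mul_zero, add_zero])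
      (by rw [smul_dotProduct, hd', smul_zero]), neg_one_smul, hs.fVec_add, add_neg_cancel_comm,
    hs.fVec_smul, ← tv_smul_comm (by rw [hs.fVec_dot, hww])] at h2
  simpa [hf.involutive] using h2

/-- The axis of such a transvection is full. -/
theorem full_axis_isotropic (hf : Cfsg.Geo.IsUnitaryForm σ f) (hI : Isometries f M) {w ψ : Fin 3 → F}
    (hw : w ≠ 0) (hww : f w w = 0) (hψw : ψ ⬝ᵥ w = 0) (hmem : tv w ψ ∈ M)
    (hne : ¬ ∃ c : F, ψ = c • fVec f w) : ψ ∈ fullAxes M := by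
  have hs := Unit.sesq hf
  let T : AddSubgroup (Fin 3 → F) :=
    { carrier := {u | ψ ⬝ᵥ u = 0 ∧ tv u ψ ∈ M}
      zero_mem' := ⟨by simp, by rw [tv_zero_left]; exact M.one_mem⟩
      add_mem' := fun {a b} ha hb => ⟨by rw [dotProduct_add, ha.1, hb.1, add_zero],
        tv_mul_tv_left ha.1 hb.1 ▸ M.mul_mem ha.2 hb.2⟩
      neg_mem' := fun {a} ha => ⟨by rw [dotProduct_neg, ha.1, neg_zero],
        tv_inv ha.1 ▸ M.inv_mem ha.2⟩ }
  have step : ∀ p ∈ T, ∀ u, ψ ⬝ᵥ u = 0 → f u u = 0 → Full f M u → ∀ r : F, (r * f p u) • u ∈ T := by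
    intro p hp u hu huu hF r
    refine ⟨by rw [dotProduct_smul, hu, smul_zero], ?_⟩
    have hd : fVec f u ⬝ᵥ (r • u) = 0 := by rw [hs.fVec_dot, Unit.smul_left hf, huu, mul_zero]
    have h1 := M.mul_mem (M.mul_mem (hF r) hp.2) (M.inv_mem (hF r))
    rw [tv_conj_tv hd hp.1, dotProduct_smul, hu, smul_zero, zero_smul, sub_zero, hs.fVec_dot,
      smul_smul, mul_comm (f p u) r] at h1
    have h2 := M.mul_mem (M.inv_mem hp.2) h1
    rwa [tv_inv hp.1, tv_mul_tv_left (by simp [hp.1]) (by simp [dotProduct_add, hp.1, hu]),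
      neg_add_cancel_left] at h2
  have hwT : w ∈ T := ⟨hψw, hmem⟩
  have hψ0 : ψ ≠ 0 := fun h0 => hne ⟨0, by simp [h0]⟩
  -- an isotropic u₁ of pairing one with w
  obtain ⟨u₁, hu₁, hu₁w, hu₁u₁⟩ : ∃ u, ψ ⬝ᵥ u = 0 ∧ f w u = 1 ∧ f u u = 0 := by
    obtain ⟨u, hu, huw⟩ : ∃ u, ψ ⬝ᵥ u = 0 ∧ f u w ≠ 0 := by
      by_contra h
      push Not at h
      obtain ⟨c, hc⟩ := exists_smul_of_ker_le (φ := ψ) (ψ := fVec f w) hψ0
        (fun a ha => by rw [hs.fVec_dot]; exact h a ha)
      have hc0 : c ≠ 0 := by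
        rintro rfl
        rw [zero_smul] at hc
        exact hs.fVec_ne_zero hf.nondegenerate hw hc
      exact hne ⟨c⁻¹, by rw [hc, smul_smul, inv_mul_cancel₀ hc0, one_smul]⟩
    set u' := (f u w)⁻¹ • u with hu'
    have hu'w : f u' w = 1 := by rw [hu', Unit.smul_left hf, inv_mul_cancel₀ huw]
    obtain ⟨a, ha⟩ := exists_isotropic_add hf hww (x := u') (by rw [hu'w]; exact one_ne_zero)
    refine ⟨u' + a • w, by simp [hu', dotProduct_add, hu, hψw], ?_, ha⟩
    rw [Unit.add_right hf, Unit.smul_right hf a w w, hww, mul_zero, add_zero, hf.herm, hu'w, map_one]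
  have hFw := full_of_tv hf hI hw hww hψw hmem hne
  have hFu := hFw.smul_move hf hI hww hu₁u₁ (by rw [hu₁w]; exact one_ne_zero)
  have allU : ∀ r : F, r • u₁ ∈ T := fun r => by simpa [hu₁w] using step w hwT u₁ hu₁ hu₁u₁ hFu r
  have hu₁w' : f u₁ w = 1 := by rw [hf.herm, hu₁w, map_one]
  have allW : ∀ r : F, r • w ∈ T := fun r => by
    have hu1T := allU 1
    rw [one_smul] at hu1T
    have h := step u₁ hu1T w hψw hww hFw r
    rwa [hu₁w', mul_one] at h
  intro v hv
  obtain ⟨e, hedef⟩ : ∃ e, e = v - f v u₁ • w - f v w • u₁ := ⟨_, rfl⟩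
  by_cases he : e = 0
  · have hv' : v = f v u₁ • w + f v w • u₁ := by
      rw [hedef, sub_sub, sub_eq_zero] at he
      exact he
    have := T.add_mem (allW (f v u₁)) (allU (f v w))
    rw [← hv'] at this
    exact this.2
  exfalso
  have hew : f e w = 0 := by
    rw [hedef, Unit.sub_left hf, Unit.sub_left hf, Unit.smul_left hf, Unit.smul_left hf, hww, hu₁w']
    ring
  have heu : f e u₁ = 0 := by
    rw [hedef, Unit.sub_left hf, Unit.sub_left hf, Unit.smul_left hf, Unit.smul_left hf, hu₁u₁, hu₁w]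
    ring
  have hind : LinearIndependent F ![w, u₁, e] := independent_three fun r s t h => by
    have e1 := congrArg (f · u₁) h
    have e2 := congrArg (f · w) h
    simp [Unit.add_left hf, Unit.smul_left hf, Unit.zero_left hf, hu₁w, hu₁u₁, heu, hww, hew, hu₁w'] at e1 e2
    rw [e1, e2, zero_smul, zero_smul, zero_add, zero_add] at h
    exact ⟨e1, e2, (smul_eq_zero.1 h).resolve_right he⟩
  exact hψ0 (eq_zero_of_three hind hψw hu₁
    (by rw [hedef, dotProduct_sub, dotProduct_sub, dotProduct_smul, dotProduct_smul, hv, hψw, hu₁]; simp))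

theorem full_axis_nondegenerate (hf : Cfsg.Geo.IsUnitaryForm σ f) (hI : Isometries f M) {w ψ : Fin 3 → F}
    (hww : f w w ≠ 0) (hψw : ψ ⬝ᵥ w = 0) (hmem : tv w ψ ∈ M) {b : Fin 3 → F} (hbψ : ψ ⬝ᵥ b = 0)
    (hbw : f b w = 0) (hbb : f b b ≠ 0) : ψ ∈ fullAxes M := by
  have hs := Unit.sesq hf
  have hM : ∀ v c, f v v = 0 → c + σ c = 0 → formTv f v c ∈ M := fun _ _ hv hc => skew_mem hf hI hv hc
  obtain ⟨c₀, hc₀0, hc₀⟩ := exists_skew hf.ne_refl hf.involutive
  by_cases hψ0 : ψ = 0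
  · rw [hψ0]; exact (fullAxes M).zero_mem
  obtain ⟨u, hu, huu, hwu⟩ : ∃ u, ψ ⬝ᵥ u = 0 ∧ f u u = 0 ∧ f w u ≠ 0 := by
    obtain ⟨x, hx⟩ := exists_norm hf.ne_refl hf.involutive
      (show σ (- f w w / f b b) = - f w w / f b b by rw [map_div₀, map_neg, self_fixed hf, self_fixed hf])
    refine ⟨w + x • b, by simp [dotProduct_add, hψw, hbψ], ?_, ?_⟩
    · rw [self_add_smul hf, hx, hbw, mul_zero, div_mul_cancel₀ _ hbb]
      simp
    · rwa [Unit.add_right hf, Unit.smul_right hf, eq_zero_comm hf hbw, mul_zero, add_zero]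
  -- move the centre to an isotropic one
  have hd : (c₀ • fVec f u) ⬝ᵥ u = 0 := by simp [hs.fVec_dot, huu]
  have h1 := M.mul_mem (M.mul_mem (hM u c₀ huu hc₀) hmem) (M.inv_mem (hM u c₀ huu hc₀))
  rw [formTv, tv_conj_tv hd hψw, hu, zero_smul, sub_zero, smul_dotProduct, hs.fVec_dot, smul_eq_mul] at h1
  have h2 := M.mul_mem (M.inv_mem hmem) h1
  rw [tv_inv hψw, tv_mul_tv_left (by simp [hψw]) (by simp [dotProduct_add, hψw, hu]),
    neg_add_cancel_left] at h2
  have hcw : c₀ * f w u ≠ 0 := mul_ne_zero hc₀0 hwu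
  have hu0 : u ≠ 0 := fun h => hwu (by rw [h, Unit.zero_right hf])
  refine full_axis_isotropic hf hI (smul_ne_zero hcw hu0)
    (by rw [Unit.smul_left hf, Unit.smul_right hf, huu, mul_zero, mul_zero])
    (by rw [dotProduct_smul, hu, smul_zero]) h2 ?_
  rintro ⟨c, hc⟩
  have e : ψ ⬝ᵥ w = c * f w ((c₀ * f w u) • u) := by
    rw [hc, smul_dotProduct, hs.fVec_dot, smul_eq_mul]
  rw [hψw, Unit.smul_right hf] at e
  have hc0 : c ≠ 0 := by
    rintro rfl
    exact hψ0 (by rw [hc, zero_smul])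
  exact mul_ne_zero hc0 (mul_ne_zero (by simpa using hcw) hwu) e.symm

theorem exists_full_of_anisotropic (hf : Cfsg.Geo.IsUnitaryForm σ f) (hI : Isometries f M)
    {w ψ : Fin 3 → F} (hww : f w w ≠ 0) (hψw : ψ ⬝ᵥ w = 0) (hmem : tv w ψ ∈ M) (hψ0 : ψ ≠ 0) :
    ∃ ψ' ∈ fullAxes M, ψ' ≠ 0 := by
  have hs := Unit.sesq hf
  obtain ⟨p, hp⟩ := exists_pole hf ψ
  have hwp : f w p = 0 := by rw [← hs.fVec_dot, hp]; exact hψw
  obtain ⟨b, hb0, hbw, hbp⟩ := exists_perp_two hf w p
  by_cases hbb : f b b ≠ 0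
  · exact ⟨ψ, full_axis_nondegenerate hf hI hww hψw hmem (by rw [← hp, hs.fVec_dot]; exact hbp) hbw hbb, hψ0⟩
  push Not at hbb
  -- the pole is the isotropic b
  obtain ⟨k, hk⟩ : ∃ k : F, p = k • b := by
    by_contra hno
    push Not at hno
    have hind : LinearIndependent F ![w, b, p] := independent_three fun r s t h => by
      have e1 := congrArg (f · w) h
      simp [Unit.add_left hf, Unit.smul_left hf, Unit.zero_left hf, hbw, Unit.eq_zero_comm hf hwp, hww] at e1
      rw [e1, zero_smul, zero_add] at h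
      by_cases ht : t = 0
      · rw [ht, zero_smul, add_zero] at h
        exact ⟨e1, (smul_eq_zero.1 h).resolve_right hb0, ht⟩
      · exfalso
        apply hno (-(s / t))
        have h' := congrArg (t⁻¹ • ·) (eq_neg_of_add_eq_zero_right h)
        simp only [smul_smul, inv_mul_cancel₀ ht, one_smul, smul_neg] at h'
        rw [h', neg_smul, div_eq_inv_mul]
    exact hs.fVec_ne_zero hf.nondegenerate hb0 (eq_zero_of_three hind
      (by rw [hs.fVec_dot]; exact Unit.eq_zero_comm hf hbw) (by rw [hs.fVec_dot]; exact hbb)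
      (by rw [hs.fVec_dot]; exact Unit.eq_zero_comm hf hbp))
  have hk0 : k ≠ 0 := fun h => hψ0 (by
    rw [← hp, hk, h, zero_smul]
    exact funext fun i => hs.zero_right _)
  have hψ : ψ = σ k • fVec f b := by rw [← hp, hk, hs.fVec_smul]; rfl
  have hσk : σ k ≠ 0 := (RingEquiv.map_ne_zero_iff σ).2 hk0
  -- transvections with centre and pole b
  have hFb : Full f M b := by
    intro r
    obtain ⟨d, hd⟩ : ∃ d, d = σ (-(r / σ k) / f w w) := ⟨_, rfl⟩
    have hbd : f b (d • w) = 0 := by rw [Unit.smul_right hf, hbw, mul_zero]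
    obtain ⟨γ, hγ⟩ := exists_trace hf.ne_refl hf.involutive
      (show σ (- f (d • w) (d • w)) = - f (d • w) (d • w) by rw [map_neg, self_fixed hf])
    set g := UnitOrth.root f b (d • w) γ with hg
    have hgi := UnitOrth.root_isometry hf hbb hbd hγ
    have hgm : g ∈ M := hI _ (UnitCentres.root_det hf) hgi
    have hgb : g.val *ᵥ b = b := by rw [hg, UnitOrth.root_mulVec hf hbb hbd, hbb, hbd]; simp
    have hgw : g.val *ᵥ w = w + (r / σ k) • b := by
      rw [hg, UnitOrth.root_mulVec hf hbb hbd, Unit.eq_zero_comm hf hbw, Unit.smul_right hf, hd, hf.involutive]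
      match_scalars <;> field_simp <;> ring
    have h1 := M.mul_mem (M.mul_mem hgm hmem) (M.inv_mem hgm)
    rw [conj_tv g hψw, hgw, hψ, smul_vecMul, fVec_isometry hf hgi, hgb, ← hψ] at h1
    have h2 := M.mul_mem h1 (M.inv_mem hmem)
    have hψb : ψ ⬝ᵥ b = 0 := by rw [hψ, smul_dotProduct, hs.fVec_dot, hbb, smul_zero]
    rw [tv_inv hψw, tv_mul_tv_left (by rw [dotProduct_add, dotProduct_smul, hψw, hψb]; simp)
      (by rw [dotProduct_neg, hψw, neg_zero]), add_neg_cancel_comm, hψ,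
      ← tv_smul_comm (by rw [hs.fVec_dot, Unit.smul_left hf, hbb, mul_zero]), smul_smul,
      mul_div_cancel₀ _ hσk] at h2
    exact h2
  -- a transvection with anisotropic centre and pole
  obtain ⟨z, hzz, hbz⟩ : ∃ z, f z z = 0 ∧ f b z ≠ 0 := by
    obtain ⟨y, hy⟩ := (hf.nondegenerate b hb0).1
    obtain ⟨a, ha⟩ := exists_isotropic_add hf hbb (x := y) hy
    refine ⟨y + a • b, ha, ?_⟩
    rw [Unit.add_right hf, Unit.smul_right hf, hbb, mul_zero, add_zero]
    exact Unit.ne_zero_comm hf hy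
  have hFz := hFb.smul_move hf hI hbb hzz hbz
  obtain ⟨c, hc⟩ := exists_trace_ne_zero hf.ne_refl
  have hd : (c • fVec f z) ⬝ᵥ z = 0 := by rw [smul_dotProduct, hs.fVec_dot, hzz, smul_zero]
  have hbd : fVec f b ⬝ᵥ b = 0 := by rw [hs.fVec_dot, hbb]
  have hz : tv z (c • fVec f z) ∈ M := by
    rw [← tv_smul_comm (by rw [hs.fVec_dot, hzz])]
    exact hFz c
  have h1 := M.mul_mem (M.mul_mem hz (show tv b (fVec f b) ∈ M by simpa using hFb 1)) (M.inv_mem hz)
  rw [tv_conj_tv hd hbd, smul_dotProduct, hs.fVec_dot, hs.fVec_dot, smul_eq_mul] at h1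
  obtain ⟨e, he0, heb, hez⟩ := exists_perp_two hf b z
  set w' := b + (c * f b z) • z with hw'
  set ψ' := fVec f b - f z b • (c • fVec f z) with hψ'
  have hw'w' : f w' w' ≠ 0 := by
    rw [hw', Unit.self_add_smul hf, hbb, hzz]
    intro h0
    have : (c + σ c) * (f b z * f z b) = 0 := by
      rw [hf.herm z b] at h0 ⊢
      simp only [map_mul, hf.involutive] at h0
      linear_combination h0
    exact (mul_eq_zero.1 this).elim hc (mul_ne_zero hbz (Unit.ne_zero_comm hf hbz))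
  have hψ'w' : ψ' ⬝ᵥ w' = 0 := by
    simp only [hψ', hw', sub_dotProduct, dotProduct_add, smul_dotProduct, dotProduct_smul, hs.fVec_dot, hbb,
      hzz, smul_eq_mul]
    ring
  refine ⟨ψ', full_axis_nondegenerate hf hI hw'w' hψ'w' h1 (b := e) ?_ ?_ (pair_aniso hf hbb hzz hbz he0 heb hez),
    fun h0 => ?_⟩
  · simp only [hψ', sub_dotProduct, smul_dotProduct, hs.fVec_dot, heb, hez, smul_zero, sub_zero]
  · rw [hw', Unit.add_right hf, Unit.smul_right hf, heb, hez, mul_zero, add_zero]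
  · have := congrArg (· ⬝ᵥ z) h0
    simp only [hψ', sub_dotProduct, smul_dotProduct, hs.fVec_dot, hzz, smul_zero, sub_zero, zero_dotProduct] at this
    exact Unit.ne_zero_comm hf hbz this

theorem linear_unitary_maximal {F : Type*} [Field F] [Fintype F] (σ : F ≃+* F) (f : (Fin 3 → F) → (Fin 3 → F) → F) (hf : Cfsg.Geo.IsUnitaryForm σ f) : Cfsg.Geo.IsMaximalIn (Cfsg.Geo.specialLinear (Fin 3) F) (Cfsg.Geo.similarityGroup f ⊓ Cfsg.Geo.specialLinear (Fin 3) F) := by
  have hs := Unit.sesq hf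
  refine ⟨lt_of_le_of_ne inf_le_right fun heq => ?_, fun M hle hMle => ?_⟩
  · obtain ⟨v, hv0, hv⟩ := exists_isotropic hf (by simp)
    obtain ⟨φ, hφv, hφ⟩ : ∃ φ : Fin 3 → F, φ ⬝ᵥ v = 0 ∧ ¬ ∃ c : F, φ = c • fVec f v := by
      by_contra h
      push Not at h
      have hle' : dotAnn (Submodule.span F {v}) ≤ Submodule.span F {fVec f v} := fun φ hφ => by
        obtain ⟨c, rfl⟩ := h φ (by
          rw [dotProduct_comm]; exact mem_dotAnn.1 hφ v (Submodule.mem_span_singleton_self v))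
        exact Submodule.smul_mem _ _ (Submodule.mem_span_singleton_self _)
      have h1 := Submodule.finrank_mono hle'
      have h2 : Module.finrank F (dotAnn (Submodule.span F {v})) + _ = _ :=
        finrank_dotAnn (Submodule.span F {v})
      rw [finrank_span_singleton hv0] at h2
      rw [finrank_span_singleton (hs.fVec_ne_zero hf.nondegenerate hv0)] at h1
      rw [Fintype.card_fin] at h2
      omega
    obtain ⟨u, hu, huv⟩ : ∃ u, φ ⬝ᵥ u = 0 ∧ f u v ≠ 0 := by
      by_contra h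
      push Not at h
      have hφ0 : φ ≠ 0 := fun h0 => hφ ⟨0, by simp [h0]⟩
      obtain ⟨c, hc⟩ := exists_smul_of_ker_le (φ := φ) (ψ := fVec f v) hφ0
        (fun a ha => by rw [hs.fVec_dot]; exact h a ha)
      have hc0 : c ≠ 0 := by
        rintro rfl
        rw [zero_smul] at hc
        exact hs.fVec_ne_zero hf.nondegenerate hv0 hc
      exact hφ ⟨c⁻¹, by rw [hc, smul_smul, inv_mul_cancel₀ hc0, one_smul]⟩
    have hg : tv v φ ∈ Cfsg.Geo.specialLinear (Fin 3) F := tv_mem_specialLinear _ _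
    rw [← heq] at hg
    obtain ⟨c, hc⟩ := hg.1
    have h1 := hc u v
    rw [tv_mulVec hφv, tv_mulVec hφv, hu, hφv, zero_smul, add_zero, add_zero] at h1
    have hc1 : (c : F) = 1 := (mul_eq_right₀ huv).1 h1.symm
    obtain ⟨y, hy⟩ : ∃ y, φ ⬝ᵥ y ≠ 0 := by
      by_contra h
      push Not at h
      exact hφ ⟨0, dot_right_cancel fun x => by simp [h x]⟩
    have h2 := hc u y
    rw [tv_mulVec hφv, tv_mulVec hφv, hu, zero_smul, add_zero, hc1, one_mul, Unit.add_right hf,
      Unit.smul_right hf, add_eq_left] at h2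
    exact mul_ne_zero (by simpa using hy) huv h2
  · by_cases hall : M ≤ Cfsg.Geo.similarityGroup f
    · exact Or.inl (le_antisymm (le_inf hall hMle) hle)
    right
    refine le_antisymm hMle ?_
    obtain ⟨g, hgM, hg⟩ := SetLike.not_le_iff_exists.1 hall
    obtain ⟨v, hv, hvv⟩ : ∃ v, f v v = 0 ∧ ∀ c : F,
        fVec f v ᵥ* ((g⁻¹ : GL (Fin 3) F) : Matrix (Fin 3) (Fin 3) F) ≠
          c • fVec f ((g : Matrix (Fin 3) (Fin 3) F) *ᵥ v) := by
      by_contra h
      push Not at h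
      exact hg (similarity_of_eigen hf (by simp) g h)
    have hv0 : v ≠ 0 := by
      rintro rfl
      apply hvv 0
      have : fVec f 0 = 0 := funext fun i => hs.zero_right _
      simp [this]
    have hM : ∀ v c, f v v = 0 → c + σ c = 0 → formTv f v c ∈ M :=
      fun v c h1 h2 => hle (formTv_mem_similarity hf h1 h2)
    obtain ⟨c₀, hc₀0, hc₀⟩ := exists_skew hf.ne_refl hf.involutive
    set w := (g : Matrix (Fin 3) (Fin 3) F) *ᵥ v with hw
    set ψ := (c₀ • fVec f v) ᵥ* ((g⁻¹ : GL (Fin 3) F) : Matrix (Fin 3) (Fin 3) F) with hψdef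
    have hd : (c₀ • fVec f v) ⬝ᵥ v = 0 := by rw [smul_dotProduct, hs.fVec_dot, hv, smul_zero]
    have hmem := M.mul_mem (M.mul_mem hgM (hM v c₀ hv hc₀)) (M.inv_mem hgM)
    rw [formTv, conj_tv g hd, ← hw, ← hψdef] at hmem
    have hψw : ψ ⬝ᵥ w = 0 := by rw [hψdef, hw, ← dotProduct_mulVec, gl_inv_mulVec_mulVec, hd]
    have hne : ¬ ∃ c : F, ψ = c • fVec f w := by
      rintro ⟨c, hc⟩
      apply hvv (c / c₀)
      rw [hψdef, smul_vecMul] at hc
      rw [div_eq_inv_mul, mul_smul, ← hc, inv_smul_smul₀ hc₀0]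
    have hw0 : w ≠ 0 := gl_mulVec_ne_zero g hv0
    have hI : ∀ h ∈ Cfsg.Geo.specialLinear (Fin 3) F,
        (∀ x y, f (h.val *ᵥ x) (h.val *ᵥ y) = f x y) → h ∈ M :=
      fun h hd hi => hle ⟨⟨1, fun x y => by rw [hi, Units.val_one, one_mul]⟩, hd⟩
    -- some nonzero axis is full
    obtain ⟨ψ, hψ, hψ0⟩ : ∃ ψ' ∈ fullAxes M, ψ' ≠ 0 := by
      by_cases hww : f w w = 0
      · exact ⟨ψ, full_axis_isotropic hf hI hw0 hww hψw hmem hne, fun h => hne ⟨0, by rw [h, zero_smul]⟩⟩
      · exact exists_full_of_anisotropic hf hI hww hψw hmem (fun h => hne ⟨0, by rw [h, zero_smul]⟩)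
    apply specialLinear_le_of_fullAxes_eq_top
    apply hs.span_fVec hf.nondegenerate
    have step : ∀ x, f x x = 0 → ψ ⬝ᵥ x ≠ 0 → fVec f x ∈ fullAxes M := fun x hxx hx =>
      fVec_mem_of_invariant hs hxx hc₀0 (hM x c₀ hxx hc₀) hψ hx
    obtain ⟨a, haa, ha⟩ : ∃ a, f a a = 0 ∧ ψ ⬝ᵥ a ≠ 0 := by
      by_contra h
      push Not at h
      let W : Submodule F (Fin 3 → F) :=
        { carrier := {x | ψ ⬝ᵥ x = 0}
          zero_mem' := dotProduct_zero ψ
          add_mem' := fun {p q} (hp : ψ ⬝ᵥ p = 0) (hq : ψ ⬝ᵥ q = 0) => by simp [dotProduct_add, hp, hq]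
          smul_mem' := fun c p (hp : ψ ⬝ᵥ p = 0) => by simp [hp] }
      have hW : W = ⊤ := span_isotropic hf (by simp) h
      exact hψ0 (dot_right_cancel fun x => by
        rw [zero_dotProduct]; exact (hW ▸ Submodule.mem_top : x ∈ W))
    have all : ∀ x, f x x = 0 → fVec f x ∈ fullAxes M := by
      intro x hxx
      by_cases hx : ψ ⬝ᵥ x = 0
      · by_cases hax : f a x = 0
        · have := (fullAxes M).sub_mem (step (a + x) (by
            rw [Unit.add_left hf, Unit.add_right hf, Unit.add_right hf, haa, hxx, hax,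
              eq_zero_comm hf hax]; simp)
            (by simpa [dotProduct_add, hx] using ha)) (step a haa ha)
          rwa [hs.fVec_add, add_sub_cancel_left] at this
        · refine fVec_mem_of_invariant hs hxx hc₀0 (hM x c₀ hxx hc₀) (step a haa ha) ?_
          rw [hs.fVec_dot]
          exact ne_zero_comm hf hax
      · exact step x hxx hx
    intro v
    let W : Submodule F (Fin 3 → F) :=
      { carrier := {x | fVec f x ∈ fullAxes M}
        zero_mem' := by
          have : fVec f 0 = 0 := funext fun i => hs.zero_right _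
          simp [this]
        add_mem' := fun {p q} (hp : fVec f p ∈ fullAxes M) (hq : fVec f q ∈ fullAxes M) => by
          change fVec f (p + q) ∈ fullAxes M
          rw [hs.fVec_add]; exact (fullAxes M).add_mem hp hq
        smul_mem' := fun c p (hp : fVec f p ∈ fullAxes M) => by
          change fVec f (c • p) ∈ fullAxes M
          rw [hs.fVec_smul]; exact (fullAxes M).smul_mem _ hp }
    exact ((span_isotropic hf (by simp) all : W = ⊤) ▸ Submodule.mem_top : v ∈ W)

end CfsgLib.DimThreeMax
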