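import Cfsg.Agent.Lib.DimThreeMax.Torus
import Cfsg.Agent.Lib.DimThreeMax.Normal
import Cfsg.Agent.Lib.GeomClasses.MaxLinearSubfield

/-!
Standard witnesses inside the monomial group and the subfield groups of the three-dimensional linear group.
-/

set_option autoImplicit false

namespace CfsgLib.DimThreeMax

open Matrix GeomClasses
open scoped MatrixGroups

variable {F : Type*} [Field F]

theorem map_conjMap_one (H : Subgroup (GL (Fin 3) F)) : H.map (conjMap 1) = H := by
  ext g
  rw [mem_map_conjMap, inv_one, one_mul, mul_one]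

theorem subfieldSubgroup_eq (F₀ : Subfield F) :
    Cfsg.Geo.subfieldSubgroup F₀ (1 : GL (Fin 3) F) = MaxLinear.SubfieldCase.base F₀ 3 :=
  map_conjMap_one _

theorem subfieldSubgroup_map (F₀ : Subfield F) (P : GL (Fin 3) F) :
    Cfsg.Geo.subfieldSubgroup F₀ P = (Cfsg.Geo.subfieldSubgroup F₀ (1 : GL (Fin 3) F)).map (conjMap P) := by
  rw [subfieldSubgroup_eq]; rfl

/-- Rational elementary transvections lie in the standard subfield group. -/
theorem elementary_mem_subfield (F₀ : Subfield F) {i j : Fin 3} (hij : i ≠ j) {a : F} (ha : a ∈ F₀) :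
    tv (Pi.single i 1) (a • Pi.single j 1) ∈
      Cfsg.Geo.subfieldSubgroup F₀ (1 : GL (Fin 3) F) ⊓ Cfsg.Geo.specialLinear (Fin 3) F := by
  rw [subfieldSubgroup_eq]
  have h := MaxLinear.SubfieldCase.tv_mem_base (n := 3) (F₀ := F₀) (Pi.single i 1) (Pi.single j ⟨a, ha⟩)
    (by simp [hij.symm])
  have e : Rational.up (Pi.single j (⟨a, ha⟩ : F₀)) = (a • Pi.single j 1 : Fin 3 → F) := by
    funext k
    by_cases hk : k = j
    · subst hk; simp [Rational.up]
    · simp [Rational.up, Pi.single_eq_of_ne hk]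
  rwa [Rational.up_single, e] at h

/-- The axis of the upper group. -/
def upAxis (x y : F) : Fin 3 → F := ![0, x, y]

theorem upAxis_dot (x y : F) : upAxis x y ⬝ᵥ (Pi.single 0 1 : Fin 3 → F) = 0 := by
  simp [upAxis]

theorem upAxis_add (x y x' y' : F) : upAxis x y + upAxis x' y' = upAxis (x + x') (y + y') := by
  funext i; fin_cases i <;> simp [upAxis]

theorem upAxis_split (x y : F) : upAxis x y = x • Pi.single 1 1 + y • Pi.single 2 1 := by
  funext i; fin_cases i <;> simp [upAxis]

/-- The rational transvections with the first basis vector as centre. -/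
def upperGroup (E : Subfield F) : Subgroup (GL (Fin 3) F) where
  carrier := {g | ∃ x ∈ E, ∃ y ∈ E, g = tv (Pi.single 0 1) (upAxis x y)}
  one_mem' := ⟨0, E.zero_mem, 0, E.zero_mem, by
    apply gl_ext
    intro v
    rw [tv_mulVec (upAxis_dot _ _)]
    simp [upAxis, dotProduct, Fin.sum_univ_three]⟩
  mul_mem' := by
    rintro _ _ ⟨x, hx, y, hy, rfl⟩ ⟨x', hx', y', hy', rfl⟩
    exact ⟨x + x', E.add_mem hx hx', y + y', E.add_mem hy hy', by
      rw [tv_mul_tv_right (upAxis_dot _ _) (upAxis_dot _ _), upAxis_add]⟩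
  inv_mem' := by
    rintro _ ⟨x, hx, y, hy, rfl⟩
    refine ⟨-x, E.neg_mem hx, -y, E.neg_mem hy, inv_eq_of_mul_eq_one_right ?_⟩
    rw [tv_mul_tv_right (upAxis_dot _ _) (upAxis_dot _ _), upAxis_add, add_neg_cancel, add_neg_cancel]
    apply gl_ext
    intro v
    rw [tv_mulVec (upAxis_dot _ _)]
    simp [upAxis, dotProduct, Fin.sum_univ_three]

theorem upperGroup_unipotent (E : Subfield F) : ∀ g ∈ upperGroup E, (g.val - 1) ^ 3 = 0 := by
  rintro g ⟨x, -, y, -, rfl⟩
  rw [tv_val (upAxis_dot _ _), add_sub_cancel_left, pow_succ, pow_two, vecMulVec_mul_vecMulVec, upAxis_dot,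
    zero_smul]
  simp

theorem upperGroup_le (E : Subfield F) :
    upperGroup E ≤ Cfsg.Geo.subfieldSubgroup E (1 : GL (Fin 3) F) ⊓ Cfsg.Geo.specialLinear (Fin 3) F := by
  rintro g ⟨x, hx, y, hy, rfl⟩
  rw [upAxis_split, ← tv_mul_tv_right (by simp) (by simp)]
  exact Subgroup.mul_mem _ (elementary_mem_subfield E (by decide) hx) (elementary_mem_subfield E (by decide) hy)

theorem upperGroup_le_specialLinear (E : Subfield F) : upperGroup E ≤ Cfsg.Geo.specialLinear (Fin 3) F :=
  (upperGroup_le E).trans inf_le_right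

theorem card_upperGroup [Finite F] (E : Subfield F) : Nat.card (upperGroup E) = Nat.card E ^ 2 := by
  rw [pow_two, ← Nat.card_prod]
  refine (Nat.card_congr (Equiv.ofBijective
    (fun a : E × E => (⟨tv (Pi.single 0 1) (upAxis a.1 a.2), a.1, a.1.2, a.2, a.2.2, rfl⟩ : upperGroup E))
    ⟨?_, ?_⟩)).symm
  · rintro ⟨a, b⟩ ⟨a', b'⟩ h
    have h' := congrArg (fun g : upperGroup E => ((g : GL (Fin 3) F) : Matrix (Fin 3) (Fin 3) F)) h
    simp only [tv_val (upAxis_dot _ _), add_right_inj] at h'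
    have h1 := congrFun (congrFun h' 0) 1
    have h2 := congrFun (congrFun h' 0) 2
    simp [vecMulVec_apply, upAxis] at h1 h2
    exact Prod.ext h1 h2
  · rintro ⟨g, x, hx, y, hy, rfl⟩
    exact ⟨⟨⟨x, hx⟩, ⟨y, hy⟩⟩, rfl⟩

theorem upperGroup_isPGroup [Finite F] (E : Subfield F) (p : ℕ) [Fact p.Prime] [CharP F p] :
    IsPGroup p (upperGroup E) := fun g => ⟨1, by
  have key : ∀ (k : ℕ) (x y : F), tv (Pi.single 0 1) (upAxis x y) ^ k =
      tv (Pi.single 0 1) (upAxis ((k : F) * x) ((k : F) * y)) := by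
    intro k x y
    induction k with
    | zero =>
      apply gl_ext
      intro v
      rw [pow_zero, tv_mulVec (upAxis_dot _ _)]
      simp [upAxis, dotProduct, Fin.sum_univ_three]
    | succ k ih =>
      rw [pow_succ, ih, tv_mul_tv_right (upAxis_dot _ _) (upAxis_dot _ _), upAxis_add]
      push_cast
      ring_nf
  obtain ⟨g, x, hx, y, hy, rfl⟩ := g
  apply Subtype.ext
  rw [pow_one, SubmonoidClass.coe_pow]
  show tv _ _ ^ p = (1 : GL (Fin 3) F)
  rw [key, CharP.cast_eq_zero, zero_mul, zero_mul]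
  apply gl_ext
  intro v
  rw [tv_mulVec (upAxis_dot _ _)]
  simp [upAxis, dotProduct, Fin.sum_univ_three]⟩

/-- A subspace invariant under the elementary transvections is trivial. -/
theorem elementary_irreducible {W : Submodule F (Fin 3 → F)}
    (h : ∀ i j : Fin 3, i ≠ j → tv (Pi.single i (1 : F)) (Pi.single j 1) ∈ Cfsg.Geo.subspaceStabilizer W)
    (hW0 : W ≠ ⊥) : W = ⊤ := by
  obtain ⟨v, hv, hv0⟩ := Submodule.exists_mem_ne_zero_of_ne_bot hW0
  have hstep : ∀ i j : Fin 3, i ≠ j → ∀ x ∈ W, x j ≠ 0 → (Pi.single i 1 : Fin 3 → F) ∈ W := by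
    intro i j hij x hx hxj
    have h1 := mem_subspaceStabilizer.1 (h i j hij) x hx
    rw [tv_mulVec (by simp [hij.symm]), W.add_mem_iff_right hx, single_dotProduct, one_mul,
      W.smul_mem_iff hxj] at h1
    exact h1
  obtain ⟨k, hk⟩ : ∃ k, v k ≠ 0 := by
    by_contra hc
    push Not at hc
    exact hv0 (funext hc)
  have hall : ∀ i, (Pi.single i 1 : Fin 3 → F) ∈ W := by
    intro i
    by_cases hik : i = k
    · subst hik
      obtain ⟨l, hl⟩ : ∃ l : Fin 3, l ≠ i := exists_ne i
      exact hstep i l hl.symm _ (hstep l i hl v hv hk) (by simp)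
    · exact hstep i k hik v hv hk
  refine eq_top_iff.2 fun x _ => ?_
  rw [pi_eq_sum_univ' x]
  exact Submodule.sum_mem _ fun i _ => Submodule.smul_mem _ _ (hall i)

theorem dg_mem_axes (u : Fin 3 → Fˣ) : dg u ∈ Cfsg.Geo.decompositionStabilizer (axes F) := by
  refine mem_decompositionStabilizer.2 ⟨1, fun i => ?_⟩
  rw [axes, Submodule.map_span, Set.image_singleton, Matrix.toLin'_apply, dg_mulVec, Equiv.Perm.one_apply]
  have e : (fun k => (u k : F) * (Pi.single i 1 : Fin 3 → F) k) = (u i : F) • Pi.single i 1 := by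
    funext k
    by_cases hk : k = i
    · subst hk; simp
    · simp [Pi.single_eq_of_ne hk]
  rw [e, Submodule.span_singleton_smul_eq (u i).isUnit]
  rfl

theorem shift_mem_axes : shift F ∈ Cfsg.Geo.decompositionStabilizer (axes F) := by
  refine mem_decompositionStabilizer.2 ⟨Equiv.addRight (1 : Fin 3), fun i => ?_⟩
  rw [axes, Submodule.map_span, Set.image_singleton, Matrix.toLin'_apply, shift_mulVec]
  have e : (![(Pi.single i 1 : Fin 3 → F) 2, (Pi.single i 1 : Fin 3 → F) 0, (Pi.single i 1 : Fin 3 → F) 1] :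
      Fin 3 → F) = Pi.single (Equiv.addRight (1 : Fin 3) i) 1 := by
    funext k
    fin_cases i <;> fin_cases k <;> simp
  rw [e]
  rfl

theorem dg_det_one_mem {u : Fin 3 → Fˣ} (h : u 0 * u 1 * u 2 = 1) :
    dg u ∈ Cfsg.Geo.decompositionStabilizer (axes F) ⊓ Cfsg.Geo.specialLinear (Fin 3) F :=
  ⟨dg_mem_axes u, mem_specialLinear.2 (by
    rw [dg_det, ← Units.val_mul, ← Units.val_mul, h, Units.val_one])⟩

theorem shift_mem_specialLinear : shift F ∈ Cfsg.Geo.specialLinear (Fin 3) F :=
  mem_specialLinear.2 (by rw [shift_val, shiftMat_det])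

theorem axes_hasTorus (u : Fˣ) :
    HasTorus (Cfsg.Geo.decompositionStabilizer (axes F) ⊓ Cfsg.Geo.specialLinear (Fin 3) F) u :=
  ⟨dg_det_one_mem (by simp), ⟨shift_mem_axes, shift_mem_specialLinear⟩⟩

/-- The determinant-one diagonal torus. -/
def torusHom (F : Type*) [Field F] : Fˣ × Fˣ →* GL (Fin 3) F where
  toFun a := dg ![a.1, a.2, (a.1 * a.2)⁻¹]
  map_one' := by rw [← dg_one]; congr 1; funext i; fin_cases i <;> simp
  map_mul' a b := by
    rw [dg_mul]; congr 1; funext i
    fin_cases i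
    · simp
    · simp
    · show (a.1 * b.1 * (a.2 * b.2))⁻¹ = (a.1 * a.2)⁻¹ * (b.1 * b.2)⁻¹
      rw [← mul_inv, mul_mul_mul_comm]

theorem torusHom_injective : Function.Injective (torusHom F) := fun a b h => by
  have h' : ∀ i, (![a.1, a.2, (a.1 * a.2)⁻¹] : Fin 3 → Fˣ) i = ![b.1, b.2, (b.1 * b.2)⁻¹] i := fun i => by
    have h1 := congrArg (fun g : GL (Fin 3) F => g.val i i) h
    simp only [torusHom, MonoidHom.coe_mk, OneHom.coe_mk, dg_val, Matrix.diagonal_apply_eq] at h1
    exact Units.ext h1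
  exact Prod.ext (h' 0) (h' 1)

theorem card_torus [Fintype F] : Nat.card (torusHom F).range = (Fintype.card F - 1) ^ 2 := by
  classical
  rw [← Nat.card_congr (MonoidHom.ofInjective torusHom_injective).toEquiv, Nat.card_prod, Nat.card_units,
    Nat.card_eq_fintype_card, pow_two]

theorem torus_le : (torusHom F).range ≤
    Cfsg.Geo.decompositionStabilizer (axes F) ⊓ Cfsg.Geo.specialLinear (Fin 3) F := by
  rintro _ ⟨a, rfl⟩
  exact dg_det_one_mem (by simp)

/-- An element of order seven over the field with two elements. -/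
def sevenMat (F : Type*) [Field F] : Matrix (Fin 3) (Fin 3) F := !![0, 0, 1; 1, 0, 1; 0, 1, 0]

theorem sevenMat_det : (sevenMat F).det = 1 := by
  rw [Matrix.det_fin_three]; simp [sevenMat]

def seven (F : Type*) [Field F] : GL (Fin 3) F :=
  Matrix.GeneralLinearGroup.mkOfDetNeZero (sevenMat F) (by rw [sevenMat_det]; exact one_ne_zero)

theorem seven_order [CharP F 2] : orderOf (seven F) = 7 := by
  haveI : Fact (Nat.Prime 7) := ⟨by norm_num⟩
  have h2 : (2 : F) = 0 := CharP.cast_eq_zero F 2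
  have h3 : sevenMat F ^ 3 = sevenMat F + 1 := by
    rw [pow_succ, pow_two]
    ext i j
    fin_cases i <;> fin_cases j <;> simp [sevenMat, Matrix.mul_apply, Fin.sum_univ_three]
  refine orderOf_eq_prime ?_ fun h => ?_
  · apply Units.ext
    rw [Units.val_pow_eq_pow_val, Units.val_one]
    show sevenMat F ^ 7 = 1
    have e : sevenMat F ^ 7 = sevenMat F ^ 3 * sevenMat F ^ 3 * sevenMat F := by
      rw [← pow_add, ← pow_succ]
    rw [e, h3]
    have h22 : ∀ A : Matrix (Fin 3) (Fin 3) F, A + A = 0 := fun A => by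
      rw [← two_smul F A, h2, zero_smul]
    have e2 : (sevenMat F + 1) * (sevenMat F + 1) * sevenMat F = sevenMat F ^ 3 + sevenMat F := by
      simp only [add_mul, mul_add, one_mul, mul_one, pow_succ, pow_zero]
      rw [← add_assoc, add_assoc (sevenMat F * sevenMat F * sevenMat F), h22, add_zero]
    rw [e2, h3, add_comm _ (1 : Matrix (Fin 3) (Fin 3) F), add_assoc, h22, add_zero]
  · have := congrArg (fun g : GL (Fin 3) F => g.val 1 0) h
    simp [seven, sevenMat] at this

theorem seven_mem (F₀ : Subfield F) :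
    seven F ∈ Cfsg.Geo.subfieldSubgroup F₀ (1 : GL (Fin 3) F) ⊓ Cfsg.Geo.specialLinear (Fin 3) F := by
  refine ⟨?_, mem_specialLinear.2 sevenMat_det⟩
  rw [subfieldSubgroup_eq]
  refine Subgroup.mem_sup_left ⟨seven F₀, ?_⟩
  apply Units.ext
  ext i j
  simp [seven, sevenMat, Matrix.GeneralLinearGroup.map]
  fin_cases i <;> fin_cases j <;> simp

end CfsgLib.DimThreeMax
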