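import Cfsg.Agent.Lib.DimThreeMax.RationalLemmas
import Cfsg.Agent.Lib.DimThreeMax.Obstruct
import Cfsg.Agent.Lib.GeomClasses.Unit

/-!
Root elements attached to an isotropic vector of a three-dimensional form, and what they exclude.
-/

set_option autoImplicit false

namespace CfsgLib.DimThreeMax

open Matrix GeomClasses
open scoped MatrixGroups

variable {F : Type*} [Field F]

/-- A symmetric bilinear or hermitian form. -/
structure HermLike (σ : F →+* F) (f : (Fin 3 → F) → (Fin 3 → F) → F) : Prop where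
  sesq : IsSesq σ f
  inv : ∀ a, σ (σ a) = a
  herm : ∀ v w, f v w = σ (f w v)
  nondeg : Cfsg.Geo.IsNondegenerateForm f

theorem hermLike_unitary {σ : F ≃+* F} {f : (Fin 3 → F) → (Fin 3 → F) → F} (hf : Cfsg.Geo.IsUnitaryForm σ f) :
    HermLike (σ : F →+* F) f :=
  ⟨CfsgLib.Geo.Asch.unitary_isSesq hf, hf.involutive, hf.herm, hf.nondegenerate⟩

theorem hermLike_polar {Q : (Fin 3 → F) → F} (hQ : Cfsg.Geo.IsNondegenerateQuadraticForm Q) :
    HermLike (RingHom.id F) (QuadraticMap.polar Q) :=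
  ⟨CfsgLib.Geo.Asch.polar_isSesq hQ, fun _ => rfl, fun v w => QuadraticMap.polar_comm Q v w, hQ.nondegenerate⟩

variable {σ : F →+* F} {f : (Fin 3 → F) → (Fin 3 → F) → F}

/-- The root element with centre `u`. -/
noncomputable def rootEl (f : (Fin 3 → F) → (Fin 3 → F) → F) (u w : Fin 3 → F) (γ : F) : GL (Fin 3) F :=
  tv w (fVec f u) * tv u (γ • fVec f u - fVec f w)

/-- Admissible parameters. -/
structure RootParam (σ : F →+* F) (f : (Fin 3 → F) → (Fin 3 → F) → F) (u w : Fin 3 → F) (γ : F) : Prop where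
  orth : f w u = 0
  trace : γ + σ γ + f w w = 0

namespace HermLike

variable (h : HermLike σ f)
include h

theorem eq_zero_comm {x y : Fin 3 → F} (hxy : f x y = 0) : f y x = 0 := by rw [h.herm, hxy, map_zero]

theorem root_mulVec {u w : Fin 3 → F} (hu : f u u = 0) (hwu : f w u = 0) (γ : F) (x : Fin 3 → F) :
    (rootEl f u w γ).val *ᵥ x = x + f x u • w + (γ * f x u - f x w) • u := by
  have h1 : fVec f u ⬝ᵥ w = 0 := by rw [h.sesq.fVec_dot, hwu]
  have h2 : (γ • fVec f u - fVec f w) ⬝ᵥ u = 0 := by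
    rw [sub_dotProduct, smul_dotProduct, h.sesq.fVec_dot, h.sesq.fVec_dot, hu, h.eq_zero_comm hwu]; simp
  rw [rootEl, gl_mul_mulVec, tv_mulVec h2, tv_mulVec h1, sub_dotProduct, smul_dotProduct, h.sesq.fVec_dot,
    h.sesq.fVec_dot, h.sesq.fVec_dot, h.sesq.add_left, h.sesq.smul_left, hu, mul_zero, add_zero, smul_eq_mul]
  abel

omit h in
theorem root_mem_specialLinear (u w : Fin 3 → F) (γ : F) : rootEl f u w γ ∈ Cfsg.Geo.specialLinear (Fin 3) F :=
  mul_mem (tv_mem_specialLinear _ _) (tv_mem_specialLinear _ _)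

theorem root_mul {u w w' : Fin 3 → F} (hu : f u u = 0) (hw : f w u = 0) (hw' : f w' u = 0) (γ γ' : F) :
    rootEl f u w γ * rootEl f u w' γ' = rootEl f u (w + w') (γ + γ' - f w' w) := by
  refine gl_ext fun x => ?_
  rw [gl_mul_mulVec, h.root_mulVec hu hw', h.root_mulVec hu hw,
    h.root_mulVec hu (by rw [h.sesq.add_left, hw, hw', add_zero])]
  simp only [h.sesq.add_left, h.sesq.smul_left, hu, h.eq_zero_comm hw, h.sesq.add_right, hw']
  module

theorem root_zero {u : Fin 3 → F} (hu : f u u = 0) : rootEl f u 0 0 = 1 := by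
  refine gl_ext fun x => ?_
  rw [h.root_mulVec hu (h.sesq.zero_left u)]
  simp [h.sesq.zero_right]

theorem root_isometry {u w : Fin 3 → F} {γ : F} (hu : f u u = 0) (hp : RootParam σ f u w γ) (x y : Fin 3 → F) :
    f ((rootEl f u w γ).val *ᵥ x) ((rootEl f u w γ).val *ᵥ y) = f x y := by
  rw [h.root_mulVec hu hp.orth, h.root_mulVec hu hp.orth]
  simp only [h.sesq.add_left, h.sesq.add_right, h.sesq.smul_left, h.sesq.smul_right, hu,
    h.eq_zero_comm hp.orth, hp.orth, map_sub, map_mul]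
  rw [show f w y = σ (f y w) from h.herm w y, show f u y = σ (f y u) from h.herm u y]
  linear_combination (f x u * σ (f y u)) * hp.trace

theorem root_sub_one {u w : Fin 3 → F} (hu : f u u = 0) (hwu : f w u = 0) (γ : F) (x : Fin 3 → F) :
    ((rootEl f u w γ).val - 1) *ᵥ x = f x u • w + (γ * f x u - f x w) • u := by
  rw [Matrix.sub_mulVec, h.root_mulVec hu hwu, Matrix.one_mulVec]; abel

theorem root_prod {u w w' : Fin 3 → F} (hu : f u u = 0) (hw : f w u = 0) (hw' : f w' u = 0) (γ γ' : F) :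
    ((rootEl f u w γ).val - 1) * ((rootEl f u w' γ').val - 1) = (-f w' w) • vecMulVec u (fVec f u) := by
  refine Matrix.ext_of_mulVec_single fun i => ?_
  rw [← Matrix.mulVec_mulVec, h.root_sub_one hu hw', h.root_sub_one hu hw]
  simp only [h.sesq.add_left, h.sesq.smul_left, hu, h.eq_zero_comm hw, hw', Matrix.smul_mulVec,
    vecMulVec_mulVec, h.sesq.fVec_dot, op_smul_eq_smul]
  module

theorem root_cube {u w : Fin 3 → F} (hu : f u u = 0) (hwu : f w u = 0) (γ : F) :
    ((rootEl f u w γ).val - 1) ^ 3 = 0 := by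
  rw [pow_succ', pow_two, h.root_prod hu hwu hwu, Matrix.mul_smul]
  refine smul_eq_zero_of_right _ (Matrix.ext_of_mulVec_single fun i => ?_)
  rw [← Matrix.mulVec_mulVec, vecMulVec_mulVec, op_smul_eq_smul, Matrix.mulVec_smul, h.root_sub_one hu hwu,
    hu, h.eq_zero_comm hwu, Matrix.zero_mulVec]
  simp

end HermLike

/-- Vectors with entries in a subfield. -/
def IsRatVec (E : Subfield F) (x : Fin 3 → F) : Prop := ∀ i, x i ∈ E

/-- The data of a rational isotropic vector with an anisotropic vector orthogonal to it. -/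
structure RootData (σ : F →+* F) (f : (Fin 3 → F) → (Fin 3 → F) → F) (E : Subfield F)
    (u w : Fin 3 → F) : Prop extends HermLike σ f where
  stable : ∀ x ∈ E, σ x ∈ E
  trace_ne : ∃ e ∈ E, e + σ e ≠ 0
  rat : ∀ x y, IsRatVec E x → IsRatVec E y → f x y ∈ E
  u_rat : IsRatVec E u
  w_rat : IsRatVec E w
  u_ne : u ≠ 0
  iso : f u u = 0
  orth : f w u = 0
  aniso : f w w ≠ 0

namespace RootData

variable {E : Subfield F} {u w : Fin 3 → F} (D : RootData σ f E u w)
include D

/-- The rational root group. -/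
def group : Subgroup (GL (Fin 3) F) where
  carrier := {g | ∃ x γ, IsRatVec E x ∧ γ ∈ E ∧ RootParam σ f u x γ ∧ g = rootEl f u x γ}
  one_mem' := ⟨0, 0, fun _ => E.zero_mem, E.zero_mem,
    ⟨D.sesq.zero_left u, by simp [D.sesq.zero_left]⟩, (D.toHermLike.root_zero D.iso).symm⟩
  mul_mem' := by
    rintro _ _ ⟨x, γ, hx, hγ, hp, rfl⟩ ⟨x', γ', hx', hγ', hp', rfl⟩
    refine ⟨x + x', γ + γ' - f x' x, fun i => E.add_mem (hx i) (hx' i),
      E.sub_mem (E.add_mem hγ hγ') (D.rat _ _ hx' hx),
      ⟨by rw [D.sesq.add_left, hp.orth, hp'.orth, add_zero], ?_⟩, D.toHermLike.root_mul D.iso hp.orth hp'.orth γ γ'⟩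
    rw [D.sesq.add_left, D.sesq.add_right, D.sesq.add_right, map_sub, map_add, ← D.herm x x']
    linear_combination hp.trace + hp'.trace
  inv_mem' := by
    rintro _ ⟨x, γ, hx, hγ, hp, rfl⟩
    have hn : f (-x) u = 0 := by rw [D.sesq.neg_left, hp.orth, neg_zero]
    refine ⟨-x, -γ - f x x, fun i => E.neg_mem (hx i), E.sub_mem (E.neg_mem hγ) (D.rat _ _ hx hx), ⟨hn, ?_⟩,
      inv_eq_of_mul_eq_one_right ?_⟩
    · rw [D.sesq.neg_left, ← neg_one_smul F x, D.sesq.smul_right, map_neg, map_one, map_sub, map_neg, ← D.herm]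
      linear_combination -hp.trace
    · rw [D.toHermLike.root_mul D.iso hp.orth hn, D.sesq.neg_left, add_neg_cancel,
        show γ + (-γ - f x x) - -f x x = 0 by ring, D.toHermLike.root_zero D.iso]

theorem exists_param {a : F} (ha : a ∈ E) :
    ∃ γ ∈ E, RootParam σ f u (a • w) γ ∧ rootEl f u (a • w) γ ∈ D.group := by
  obtain ⟨e, he, hne⟩ := D.trace_ne
  have hx : IsRatVec E (a • w) := fun i => E.mul_mem ha (D.w_rat i)
  set N := f (a • w) (a • w) with hN
  have hNfix : σ N = N := (D.herm _ _).symm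
  set γ := -(N * e) / (e + σ e) with hγd
  have hγ : γ ∈ E := E.div_mem (E.neg_mem (E.mul_mem (D.rat _ _ hx hx) he)) (E.add_mem he (D.stable e he))
  have hp : RootParam σ f u (a • w) γ := by
    refine ⟨by rw [D.sesq.smul_left, D.orth, mul_zero], ?_⟩
    rw [hγd, map_div₀, map_neg, map_mul, map_add, D.inv, hNfix, ← hN, add_comm (σ e) e]
    field_simp
    ring
  exact ⟨γ, hγ, hp, _, γ, hx, hγ, hp, rfl⟩

theorem group_unipotent : ∀ g ∈ D.group, (g.val - 1) ^ 3 = 0 := by
  rintro g ⟨x, γ, -, -, hp, rfl⟩; exact D.toHermLike.root_cube D.iso hp.orth γ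

theorem group_isometry : ∀ g ∈ D.group, ∀ x y, f (g.val *ᵥ x) (g.val *ᵥ y) = f x y := by
  rintro g ⟨x, γ, -, -, hp, rfl⟩; exact D.toHermLike.root_isometry D.iso hp

theorem group_le_specialLinear : D.group ≤ Cfsg.Geo.specialLinear (Fin 3) F := by
  rintro g ⟨x, γ, -, -, -, rfl⟩; exact HermLike.root_mem_specialLinear _ _ _

theorem group_rat : D.group ≤ Cfsg.Geo.subfieldSubgroup E 1 := by
  rintro g ⟨x, γ, hx, hγ, hp, rfl⟩
  set g := rootEl f u x γ
  have hent : ∀ i j, g.val i j ∈ E := by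
    intro i j
    have hr : IsRatVec E (Pi.single j 1) := fun k => by
      by_cases hk : k = j
      · subst hk; simp [E.one_mem]
      · simp [Pi.single_eq_of_ne hk]
    have := D.toHermLike.root_mulVec D.iso hp.orth γ (Pi.single j 1)
    have e := congrFun this i
    rw [Matrix.mulVec_single_one] at e
    rw [show g.val i j = _ from e]
    exact E.add_mem (E.add_mem (hr i) (E.mul_mem (D.rat _ _ hr D.u_rat) (hx i)))
      (E.mul_mem (E.sub_mem (E.mul_mem hγ (D.rat _ _ hr D.u_rat)) (D.rat _ _ hr hx)) (D.u_rat i))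
  let M : Matrix (Fin 3) (Fin 3) E := Matrix.of fun i j => ⟨g.val i j, hent i j⟩
  have hM : M.map (E.subtype : E →+* F) = g.val := rfl
  have hdet : M.det ≠ 0 := by
    intro h0
    have e := RingHom.map_det (E.subtype : E →+* F) M
    rw [h0, map_zero, RingHom.mapMatrix_apply, hM,
      det_eq_one_of_mem (HermLike.root_mem_specialLinear (f := f) u x γ)] at e
    exact one_ne_zero e.symm
  refine ⟨g, Subgroup.mem_sup_left ⟨Matrix.GeneralLinearGroup.mkOfDetNeZero M hdet, Units.ext hM⟩, ?_⟩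
  simp

theorem card_group_ge [Finite F] : Nat.card E ≤ Nat.card D.group := by
  classical
  choose γ hγ hp hmem using fun a : E => D.exists_param a.2
  refine Nat.card_le_card_of_injective (fun a => (⟨_, hmem a⟩ : D.group)) fun a b hab => ?_
  obtain ⟨x, hx⟩ := (D.nondeg u D.u_ne).1
  have e := congrArg (fun g : D.group => ((g : GL (Fin 3) F).val - 1) *ᵥ x) hab
  simp only [D.toHermLike.root_sub_one D.iso (hp _).orth] at e
  have e' := congrArg (fun z => f z w) e
  simp only [D.sesq.add_left, D.sesq.smul_left, D.toHermLike.eq_zero_comm D.orth, mul_zero, add_zero] at e'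
  exact Subtype.ext (mul_right_cancel₀ D.aniso (mul_left_cancel₀ hx e'))

theorem group_isPGroup (p : ℕ) [Fact p.Prime] [CharP F p] : IsPGroup p D.group := fun g => ⟨2, Subtype.ext (by
  apply Units.ext
  have h3 := D.group_unipotent g.1 g.2
  have hp4 : 3 ≤ p ^ 2 := by
    have h2 := (Fact.out : p.Prime).two_le
    nlinarith
  rw [SubmonoidClass.coe_pow, Units.val_pow_eq_pow_val, OneMemClass.coe_one, Units.val_one, ← sub_eq_zero]
  have hc : ((g : GL (Fin 3) F).val - 1) ^ p ^ 2 = (g : GL (Fin 3) F).val ^ p ^ 2 - 1 := by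
    haveI : CharP (Matrix (Fin 3) (Fin 3) F) p := Matrix.charP p
    rw [sub_pow_char_pow_of_commute _ _ (Commute.one_right _), one_pow]
  rw [← hc, ← Nat.sub_add_cancel hp4, pow_add, h3, mul_zero])⟩

theorem centre_ne : vecMulVec u (fVec f u) ≠ 0 := fun h0 => by
  obtain ⟨x, hx⟩ := (D.nondeg u D.u_ne).1
  have := congrArg (· *ᵥ x) h0
  rw [vecMulVec_mulVec, op_smul_eq_smul, D.sesq.fVec_dot, Matrix.zero_mulVec] at this
  exact D.u_ne ((smul_eq_zero.1 this).resolve_left hx)

/-- A subfield group containing the root group has its subfield containing `E`. -/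
theorem le_subfield [Finite F] {F₀ : Subfield F} {P : GL (Fin 3) F} (hle : D.group ≤ Cfsg.Geo.subfieldSubgroup F₀ P) :
    E ≤ F₀ := by
  intro a ha
  obtain ⟨γ, -, hp, hm⟩ := D.exists_param ha
  obtain ⟨γ₁, -, hp₁, hm₁⟩ := D.exists_param E.one_mem
  rw [one_smul] at hp₁ hm₁
  have r := fun g hg => unipotent_rat (hle hg) (D.group_unipotent g hg)
  have h1 := (r _ hm₁).mul (r _ hm₁)
  have h2 := (r _ hm₁).mul (r _ hm)
  rw [D.toHermLike.root_prod D.iso hp₁.orth hp₁.orth] at h1
  rw [D.toHermLike.root_prod D.iso hp₁.orth hp.orth, D.sesq.smul_left,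
    show (-(a * f w w)) = a * (-f w w) by ring, mul_smul] at h2
  exact h1.ratio h2 (smul_ne_zero (neg_ne_zero.2 D.aniso) D.centre_ne)

theorem eq_smul_of_orth {x : Fin 3 → F} (hxu : f x u = 0) (hxw : f x w = 0) : ∃ c : F, x = c • u := by
  obtain ⟨y, hy⟩ := (D.nondeg u D.u_ne).1
  -- coordinates in the basis `u, w, y`
  have hind : LinearIndependent F ![u, w, y] := by
    rw [Fintype.linearIndependent_iff]
    intro g hg
    simp only [Fin.sum_univ_three, Matrix.cons_val_zero, Matrix.cons_val_one, Matrix.cons_val] at hg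
    have k1 := congrArg (fun z => f z u) hg
    simp only [D.sesq.add_left, D.sesq.smul_left, D.iso, D.orth, D.sesq.zero_left, mul_zero, zero_add] at k1
    have g2 : g 2 = 0 := (mul_eq_zero.1 k1).resolve_right hy
    rw [g2, zero_smul, add_zero] at hg
    have k2 := congrArg (fun z => f z w) hg
    simp only [D.sesq.add_left, D.sesq.smul_left, D.toHermLike.eq_zero_comm D.orth, D.sesq.zero_left, mul_zero,
      zero_add] at k2
    have g1 : g 1 = 0 := (mul_eq_zero.1 k2).resolve_right D.aniso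
    rw [g1, zero_smul, add_zero] at hg
    intro i
    fin_cases i
    · exact (smul_eq_zero.1 hg).resolve_right D.u_ne
    · exact g1
    · exact g2
  have hspan : Submodule.span F (Set.range ![u, w, y]) = ⊤ :=
    hind.span_eq_top_of_card_eq_finrank (by simp)
  obtain ⟨c, hc⟩ := (Submodule.mem_span_range_iff_exists_fun F).1 (hspan ▸ Submodule.mem_top : x ∈ _)
  simp only [Fin.sum_univ_three, Matrix.cons_val_zero, Matrix.cons_val_one, Matrix.cons_val] at hc
  have k1 := congrArg (fun z => f z u) hc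
  simp only [D.sesq.add_left, D.sesq.smul_left, D.iso, D.orth, mul_zero, zero_add, hxu] at k1
  have c2 : c 2 = 0 := (mul_eq_zero.1 k1).resolve_right hy
  rw [c2, zero_smul, add_zero] at hc
  have k2 := congrArg (fun z => f z w) hc
  simp only [D.sesq.add_left, D.sesq.smul_left, D.toHermLike.eq_zero_comm D.orth, mul_zero, zero_add, hxw] at k2
  rw [(mul_eq_zero.1 k2).resolve_right D.aniso, zero_smul, add_zero] at hc
  exact ⟨c 0, hc.symm⟩

/-- Every non-zero invariant subspace contains the centre. -/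
theorem centre_mem {W : Submodule F (Fin 3 → F)} (hW : D.group ≤ Cfsg.Geo.subspaceStabilizer W) (hW0 : W ≠ ⊥) :
    u ∈ W := by
  obtain ⟨γ, -, hp, hm⟩ := D.exists_param E.one_mem
  rw [one_smul] at hp hm
  have st : ∀ x ∈ W, ((rootEl f u w γ).val - 1) *ᵥ x ∈ W := fun x hx => by
    rw [Matrix.sub_mulVec, Matrix.one_mulVec]
    exact W.sub_mem (mem_subspaceStabilizer.1 (hW hm) x hx) hx
  obtain ⟨x, hx, hx0⟩ := Submodule.exists_mem_ne_zero_of_ne_bot hW0
  have h1 := st x hx
  by_cases hxu : f x u = 0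
  · by_cases hxw : f x w = 0
    · obtain ⟨c, rfl⟩ := D.eq_smul_of_orth hxu hxw
      exact (W.smul_mem_iff fun hc => hx0 (by rw [hc, zero_smul])).1 hx
    · rw [D.toHermLike.root_sub_one D.iso D.orth, hxu, zero_smul, zero_add, mul_zero, zero_sub] at h1
      exact (W.smul_mem_iff (neg_ne_zero.2 hxw)).1 h1
  · have h2 := st _ h1
    rw [Matrix.mulVec_mulVec, D.toHermLike.root_prod D.iso D.orth D.orth, Matrix.smul_mulVec, vecMulVec_mulVec,
      op_smul_eq_smul, D.sesq.fVec_dot, smul_smul] at h2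
    exact (W.smul_mem_iff (mul_ne_zero (neg_ne_zero.2 D.aniso) hxu)).1 h2

/-- Two root groups with non-orthogonal centres act irreducibly. -/
theorem irreducible {u' w' : Fin 3 → F} (D' : RootData σ f E u' w') (huu : f u u' ≠ 0) {W : Submodule F (Fin 3 → F)}
    (hW : D.group ≤ Cfsg.Geo.subspaceStabilizer W) (hW' : D'.group ≤ Cfsg.Geo.subspaceStabilizer W) (hW0 : W ≠ ⊥) :
    W = ⊤ := by
  have hu := D.centre_mem hW hW0
  have hu' := D'.centre_mem hW' hW0
  obtain ⟨γ, -, hp, hm⟩ := D'.exists_param E.one_mem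
  rw [one_smul] at hp hm
  have hw : w' ∈ W := by
    have h1 := W.sub_mem (mem_subspaceStabilizer.1 (hW' hm) u hu) hu
    rw [D'.toHermLike.root_mulVec D'.iso D'.orth, add_assoc, add_sub_cancel_left] at h1
    exact (W.smul_mem_iff huu).1 ((W.add_mem_iff_left (W.smul_mem _ hu')).1 h1)
  refine eq_top_iff.2 fun x _ => ?_
  have hsplit : ∃ a b : F, f (x - a • u - b • w') u' = 0 ∧ f (x - a • u - b • w') w' = 0 := by
    refine ⟨f x u' / f u u', (f x w' - f x u' / f u u' * f u w') / f w' w', ?_, ?_⟩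
    · simp only [D.sesq.sub_left, D.sesq.smul_left, D'.orth, mul_zero, sub_zero]
      rw [div_mul_cancel₀ _ huu, sub_self]
    · simp only [D.sesq.sub_left, D.sesq.smul_left]
      rw [div_mul_cancel₀ _ D'.aniso]; ring
  obtain ⟨a, b, h1, h2⟩ := hsplit
  obtain ⟨c, hc⟩ := D'.eq_smul_of_orth h1 h2
  rw [show x = c • u' + b • w' + a • u by rw [← hc]; abel]
  exact W.add_mem (W.add_mem (W.smul_mem _ hu') (W.smul_mem _ hw)) (W.smul_mem _ hu)

/-- No form with a non-trivial field automorphism is preserved up to scalars by the root group of a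
bilinear form. -/
theorem no_hermitian [Finite F] (hσ : ∀ x, σ x = x) (hE : ∀ x, x ∈ E) {τ : F ≃+* F}
    {g : (Fin 3 → F) → (Fin 3 → F) → F} (hg : Cfsg.Geo.IsUnitaryForm τ g) :
    ¬ D.group ≤ Cfsg.Geo.similarityGroup g := by
  intro hle
  have hgs := CfsgLib.Geo.Asch.unitary_isSesq hg
  obtain ⟨p, hchar⟩ := CharP.exists F
  haveI : Fact p.Prime := ⟨CharP.char_is_prime F p⟩
  have hiso : ∀ r ∈ D.group, ∀ x y, g (r.val *ᵥ x) (r.val *ᵥ y) = g x y := by
    intro r hr x y
    obtain ⟨μ, hμ⟩ := hle hr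
    obtain ⟨k, hk⟩ := D.group_isPGroup p ⟨r, hr⟩
    have hk' : r ^ p ^ k = 1 := congrArg Subtype.val hk
    have hpow : ∀ j : ℕ, ∀ x y, g ((r ^ j).val *ᵥ x) ((r ^ j).val *ᵥ y) = (μ : F) ^ j * g x y := by
      intro j
      induction j with
      | zero => simp
      | succ j ih =>
        intro x y
        rw [pow_succ' r, gl_mul_mulVec, gl_mul_mulVec, hμ, ih, pow_succ']; ring
    obtain ⟨v, hv⟩ : ∃ v : Fin 3 → F, v ≠ 0 := ⟨Pi.single 0 1, by simp⟩
    obtain ⟨z, hz⟩ := (hg.nondegenerate v hv).2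
    have h1 := hpow (p ^ k) v z
    rw [hk', Units.val_one, Matrix.one_mulVec, Matrix.one_mulVec] at h1
    have hμ1 : (μ : F) ^ p ^ k = 1 := (mul_eq_right₀ hz).1 h1.symm
    have : ((μ : F) - 1) ^ p ^ k = 0 := by rw [sub_pow_char_pow, hμ1, one_pow, sub_self]
    rw [hμ, sub_eq_zero.1 (pow_eq_zero_iff (pow_ne_zero _ (Fact.out : p.Prime).ne_zero) |>.1 this), one_mul]
  have hfc : ∀ x y, f x y = f y x := fun x y => by rw [D.herm, hσ]
  obtain ⟨y, hy⟩ := (D.nondeg u D.u_ne).1
  set z := y - (f y w / f w w) • w with hzdef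
  have hzu : f z u ≠ 0 := by rwa [hzdef, D.sesq.sub_left, D.sesq.smul_left, D.orth, mul_zero, sub_zero]
  have hzw : f z w = 0 := by rw [hzdef, D.sesq.sub_left, D.sesq.smul_left, div_mul_cancel₀ _ D.aniso, sub_self]
  choose γ hγ hp hm using fun a : F => D.exists_param (hE a)
  have act : ∀ a x, (rootEl f u (a • w) (γ a)).val *ᵥ x =
      x + (a * f x u) • w + (γ a * f x u - a * f x w) • u := fun a x => by
    rw [D.toHermLike.root_mulVec D.iso (hp a).orth, D.sesq.smul_right, hσ, smul_smul, mul_comm (f x u)]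
  have fixu : ∀ a, (rootEl f u (a • w) (γ a)).val *ᵥ u = u := fun a => by
    rw [act, D.iso, D.toHermLike.eq_zero_comm D.orth]; simp
  have e1 : g u u = 0 := by
    have h := hiso _ (hm 1) w u
    rw [fixu, act, D.orth, hgs.add_left, hgs.add_left, hgs.smul_left, hgs.smul_left] at h
    have : f w w * g u u = 0 := by linear_combination -h
    exact (mul_eq_zero.1 this).resolve_left D.aniso
  have e2 : g w u = 0 := by
    have h := hiso _ (hm 1) z u
    rw [fixu, act, hgs.add_left, hgs.add_left, hgs.smul_left, hgs.smul_left, e1] at h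
    have : f z u * g w u = 0 := by linear_combination h
    exact (mul_eq_zero.1 this).resolve_left hzu
  have e2' : g u w = 0 := by rw [hg.herm, e2, map_zero]
  have key : ∀ a, f w w * a * g u z = f z u * τ a * g w w * (τ (f z u) / f z u) := by
    intro a
    have h := hiso _ (hm a) w z
    rw [act, act, D.orth, hzw] at h
    simp only [hgs.add_left, hgs.add_right, hgs.smul_left, hgs.smul_right, RingEquiv.coe_toRingHom, map_mul,
      map_sub, e1, e2, e2', mul_zero, zero_mul, add_zero, zero_add, sub_zero, zero_sub, map_zero, neg_mul] at h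
    field_simp
    linear_combination -h
  have e3 : g u z = 0 := by
    obtain ⟨a, ha⟩ := GeomClasses.Unit.exists_moved hg.ne_refl
    have k1 := key 1
    have ka := key a
    rw [map_one, mul_one] at k1
    have h : f w w * (τ a - a) * g u z = 0 := by linear_combination τ a * k1 - ka
    rcases mul_eq_zero.1 h with h' | h'
    · exact absurd h' (mul_ne_zero D.aniso (sub_ne_zero.2 ha))
    · exact h'
  obtain ⟨x, hx⟩ := (hg.nondegenerate u D.u_ne).2
  apply hx
  obtain ⟨a, b, h1, h2⟩ : ∃ a b : F, f (x - a • z - b • w) u = 0 ∧ f (x - a • z - b • w) w = 0 := by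
    refine ⟨f x u / f z u, f x w / f w w, ?_, ?_⟩
    · rw [D.sesq.sub_left, D.sesq.sub_left, D.sesq.smul_left, D.sesq.smul_left, D.orth, mul_zero, sub_zero,
        div_mul_cancel₀ _ hzu, sub_self]
    · rw [D.sesq.sub_left, D.sesq.sub_left, D.sesq.smul_left, D.sesq.smul_left, hzw, mul_zero, sub_zero,
        div_mul_cancel₀ _ D.aniso, sub_self]
  obtain ⟨c, hc⟩ := D.eq_smul_of_orth h1 h2
  rw [show x = c • u + b • w + a • z by rw [← hc]; abel, hgs.add_right, hgs.add_right, hgs.smul_right,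
    hgs.smul_right, hgs.smul_right, e1, e2', e3]
  ring

end RootData

end CfsgLib.DimThreeMax
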