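import Cfsg.Agent.Lib.DimThreeMax.Obstruct
import Cfsg.Agent.Lib.Geo.AschForms

/-!
Elements of large order in a cubic field of matrices.
-/

set_option autoImplicit false

namespace CfsgLib.DimThreeMax

open Matrix
open scoped MatrixGroups

variable {F : Type*} [Field F] [Fintype F]

/-- The involutory automorphism of a finite field is the power map by the root of the order. -/
theorem finite_involution {K : Type*} [Field K] [Finite K] (τ : K →+* K) (h2 : ∀ x, τ (τ x) = x) :
    (∀ x, τ x = x) ∨ ∃ s : ℕ, s * s = Nat.card K ∧ ∀ x, τ x = x ^ s := by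
  classical
  haveI : Fintype K := Fintype.ofFinite K
  obtain ⟨p, hp⟩ := CharP.exists K
  obtain ⟨n, hpp, hcard⟩ := FiniteField.card K p
  haveI := Fact.mk hpp
  let e : K ≃+* K := RingEquiv.ofRingHom τ τ (RingHom.ext h2) (RingHom.ext h2)
  obtain ⟨i, hi, hτ⟩ : ∃ i, i < (n : ℕ) ∧ ∀ x, τ x = x ^ p ^ i := by
    letI : Algebra (ZMod p) K := ZMod.algebra K p
    let a : K ≃ₐ[ZMod p] K := AlgEquiv.ofRingEquiv (f := e) (fun r =>
      RingHom.congr_fun (RingHom.ext_zmod (τ.comp (algebraMap (ZMod p) K)) (algebraMap (ZMod p) K)) r)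
    obtain ⟨i, hi⟩ := (FiniteField.bijective_frobeniusAlgEquivOfAlgebraic_pow (ZMod p) K).2 a
    refine ⟨i, ?_, fun x => ?_⟩
    · have : Module.finrank (ZMod p) K = n := by
        have h := Module.card_eq_pow_finrank (K := ZMod p) (V := K)
        rw [hcard, ZMod.card] at h
        exact (Nat.pow_right_injective hpp.two_le h).symm
      exact this ▸ i.2
    · have := AlgEquiv.congr_fun hi x
      show a x = _
      rw [← this, AlgEquiv.coe_pow, FiniteField.coe_frobeniusAlgEquivOfAlgebraic_iterate]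
      simp [ZMod.card]
  by_cases hi0 : i = 0
  · exact Or.inl fun x => by simp [hτ, hi0]
  refine Or.inr ⟨p ^ i, ?_, hτ⟩
  rw [Nat.card_eq_fintype_card, hcard, ← pow_add]
  congr 1
  obtain ⟨g, hg⟩ := IsCyclic.exists_generator (α := Kˣ)
  have hord : orderOf g = p ^ (n : ℕ) - 1 := by
    rw [orderOf_eq_card_of_forall_mem_zpowers hg, Nat.card_units, Nat.card_eq_fintype_card, hcard]
  have h := h2 (g : K)
  rw [hτ, hτ, ← pow_mul, ← pow_add] at h
  have hg1 : g ^ (p ^ (i + i) - 1) = 1 := by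
    apply Units.ext
    rw [Units.val_pow_eq_pow_val, Units.val_one]
    apply mul_left_cancel₀ g.ne_zero
    rw [← pow_succ', Nat.sub_add_cancel (Nat.one_le_pow _ _ hpp.pos), h, mul_one]
  have hd := orderOf_dvd_of_pow_eq_one hg1
  rw [hord] at hd
  have hdvd : (n : ℕ) ∣ i + i := by
    have e := Nat.gcd_eq_left hd
    rw [Nat.pow_sub_one_gcd_pow_sub_one] at e
    have h1 : p ^ Nat.gcd n (i + i) = p ^ (n : ℕ) := by
      have a := Nat.one_le_pow (Nat.gcd n (i + i)) p hpp.pos
      have b := Nat.one_le_pow (n : ℕ) p hpp.pos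
      omega
    rw [← Nat.pow_right_injective hpp.two_le h1]
    exact Nat.gcd_dvd_right _ _
  obtain ⟨t, ht⟩ := hdvd
  rcases t with _ | _ | t
  · omega
  · omega
  · have : (n : ℕ) * (t + 1 + 1) ≥ (n : ℕ) * 2 := Nat.mul_le_mul_left _ (by omega)
    omega

variable {K : Subalgebra F (Matrix (Fin 3) (Fin 3) F)}

/-- A determinant one element of order `m` in the field, for the orders `m` met here. -/
structure IsSinger (K : Subalgebra F (Matrix (Fin 3) (Fin 3) F)) (c : GL (Fin 3) F) (m : ℕ) : Prop where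
  field : Cfsg.Geo.IsFieldSubalgebra 3 K
  mem : c.val ∈ K
  det : c ∈ Cfsg.Geo.specialLinear (Fin 3) F
  order : orderOf c = m
  odd : Odd m
  nine : ¬ 9 ∣ m
  big : 3 < m

namespace IsSinger

variable {c : GL (Fin 3) F} {m : ℕ} (h : IsSinger K c m)
include h

theorem inv_mem : (c⁻¹ : GL (Fin 3) F).val ∈ K := by
  obtain ⟨y, hy, hxy⟩ := h.field.inv _ h.mem c.ne_zero
  rwa [show (c⁻¹ : GL (Fin 3) F).val = y from Units.inv_eq_of_mul_eq_one_right hxy]

theorem pow_scalar {k : ℕ} (hk : c ^ k ∈ Cfsg.Geo.scalars (Fin 3) F) : m ∣ 3 * k := by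
  rw [← h.order]
  apply orderOf_dvd_of_pow_eq_one
  obtain ⟨a, ha⟩ := (Cfsg.Geo.mem_scalars_iff _).1 hk
  have hd := det_eq_one_of_mem ((Cfsg.Geo.specialLinear (Fin 3) F).pow_mem h.det k)
  rw [ha, Matrix.det_smul, Matrix.det_one, mul_one, Fintype.card_fin] at hd
  apply Units.ext
  rw [mul_comm, pow_mul, Units.val_pow_eq_pow_val, ha, smul_pow, one_pow, hd, one_smul, Units.val_one]

theorem not_dvd {k : ℕ} (hk : k ∣ 18) : ¬ m ∣ k := by
  intro hd
  have h18 := hd.trans hk
  have h9 : m ∣ 9 := (Nat.Coprime.dvd_mul_left ((Nat.coprime_two_right).2 h.odd)).1 h18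
  have := h.big
  obtain ⟨j, hj, rfl⟩ := (Nat.dvd_prime_pow Nat.prime_three (m := 2)).1 h9
  interval_cases j
  · omega
  · omega
  · exact h.nine (by norm_num)

theorem commute_mem {k : Matrix (Fin 3) (Fin 3) F} (hk : k ∈ K) : c.val * k = k * c.val := h.field.comm _ h.mem _ hk

theorem normalizes : c ∈ Cfsg.Geo.subalgebraNormalizer K := by
  intro k
  constructor
  · intro hk
    rw [h.commute_mem hk, mul_assoc, Units.mul_inv, mul_one]
    exact hk
  · intro hk
    have := K.mul_mem (K.mul_mem h.inv_mem hk) h.mem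
    simp only [mul_assoc, Units.inv_mul, mul_one] at this
    rwa [← mul_assoc, Units.inv_mul, one_mul] at this

/-- A subalgebra containing a non-scalar power contains the field. -/
theorem le_of_pow_mem {L : Subalgebra F (Matrix (Fin 3) (Fin 3) F)} {k : ℕ} (hk : c.val ^ k ∈ L)
    (hns : ¬ m ∣ 3 * k) : K ≤ L := by
  letI : Field K := Geo.FieldTransvection.fieldOf h.field
  have : IsSimpleOrder (Subalgebra F K) :=
    Subalgebra.isSimpleOrder_of_finrank_prime F K (by rw [h.field.finrank_eq]; exact Nat.prime_three)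
  rcases IsSimpleOrder.eq_bot_or_eq_top (L.comap K.val) with hb | ht
  · exfalso
    have hmem : (⟨c.val ^ k, pow_mem h.mem k⟩ : K) ∈ L.comap K.val := hk
    rw [hb, Algebra.mem_bot] at hmem
    obtain ⟨d, hd⟩ := hmem
    have hd' : c.val ^ k = d • (1 : Matrix (Fin 3) (Fin 3) F) := by
      have := congrArg Subtype.val hd
      rw [Subalgebra.coe_algebraMap, Algebra.algebraMap_eq_smul_one] at this
      exact this.symm
    have hd0 : d ≠ 0 := by
      rintro rfl
      rw [zero_smul, ← Units.val_pow_eq_pow_val] at hd'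
      exact (c ^ k).ne_zero hd'
    exact hns (h.pow_scalar ((Cfsg.Geo.mem_scalars_iff _).2 ⟨Units.mk0 d hd0, by simpa using hd'⟩))
  · intro x hx
    exact (show (⟨x, hx⟩ : K) ∈ L.comap K.val from ht ▸ Algebra.mem_top)

theorem irreducible {W : Submodule F (Fin 3 → F)} (hW : c ∈ Cfsg.Geo.subspaceStabilizer W) (hW0 : W ≠ ⊥) :
    W = ⊤ := by
  let L : Subalgebra F (Matrix (Fin 3) (Fin 3) F) :=
    { carrier := {k | ∀ w ∈ W, k *ᵥ w ∈ W}
      mul_mem' := fun {a b} ha hb w hw => by rw [← Matrix.mulVec_mulVec]; exact ha _ (hb w hw)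
      one_mem' := fun w hw => by rwa [Matrix.one_mulVec]
      add_mem' := fun {a b} ha hb w hw => by rw [Matrix.add_mulVec]; exact W.add_mem (ha w hw) (hb w hw)
      zero_mem' := fun w _ => by rw [Matrix.zero_mulVec]; exact W.zero_mem
      algebraMap_mem' := fun r w hw => by
        rw [Algebra.algebraMap_eq_smul_one, Matrix.smul_mulVec, Matrix.one_mulVec]
        exact W.smul_mem r hw }
  have hc : c.val ^ 1 ∈ L := by
    rw [pow_one]; exact GeomClasses.mem_subspaceStabilizer.1 hW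
  have hKL : K ≤ L := h.le_of_pow_mem hc (h.not_dvd (by norm_num))
  obtain ⟨v, hv, hv0⟩ := Submodule.exists_mem_ne_zero_of_ne_bot hW0
  obtain ⟨e, he⟩ := SingerConj.exists_equiv h.field hv0
  refine eq_top_iff.2 fun x _ => ?_
  obtain ⟨a, rfl⟩ := e.surjective x
  rw [he]
  exact hKL a.2 v hv

theorem not_monomial {D : Fin 3 → Submodule F (Fin 3 → F)} (hD : Cfsg.Geo.IsMDecomposition 1 D) :
    c ∉ Cfsg.Geo.decompositionStabilizer D := by
  intro hc
  obtain ⟨v, a, hv, hva⟩ := monomial_eigen hD hc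
  have he : c.val ^ 6 = a • (1 : Matrix (Fin 3) (Fin 3) F) := by
    refine SingerConj.mulVec_inj h.field (pow_mem h.mem 6) (K.smul_mem K.one_mem a) hv ?_
    rw [hva, Matrix.smul_mulVec, Matrix.one_mulVec]
  have ha0 : a ≠ 0 := by
    rintro rfl
    rw [zero_smul, ← Units.val_pow_eq_pow_val] at he
    exact (c ^ 6).ne_zero he
  exact h.not_dvd (show 18 ∣ 18 from dvd_rfl) (h.pow_scalar (k := 6) ((Cfsg.Geo.mem_scalars_iff _).2 ⟨Units.mk0 a ha0, by simpa using he⟩))

/-- A field whose normaliser contains the element is equal to `K`. -/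
theorem field_unique {L : Subalgebra F (Matrix (Fin 3) (Fin 3) F)} (hL : Cfsg.Geo.IsFieldSubalgebra 3 L)
    (hc : c ∈ Cfsg.Geo.subalgebraNormalizer L) : K = L := by
  have hle : K ≤ L := h.le_of_pow_mem (k := 3) (field_cube hL hc) (h.not_dvd (by norm_num))
  exact Subalgebra.toSubmodule_injective (Submodule.eq_of_le_of_finrank_eq
    (show Subalgebra.toSubmodule K ≤ Subalgebra.toSubmodule L from hle) (h.field.finrank_eq.trans hL.finrank_eq.symm))

/-- In a subfield group a power of exponent `q₀ ^ d - 1`, `d ≤ 3`, is scalar. -/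
theorem subfield_bound {F₀ : Subfield F} {P : GL (Fin 3) F} (hc : c ∈ Cfsg.Geo.subfieldSubgroup F₀ P) :
    ∃ d, 1 ≤ d ∧ d ≤ 3 ∧ m ∣ 3 * (Nat.card F₀ ^ d - 1) := by
  classical
  obtain ⟨X, a, hX⟩ := mem_subfieldSubgroup hc
  letI : Field K := Geo.FieldTransvection.fieldOf h.field
  haveI : FiniteDimensional F K := Module.finite_of_finrank_pos (by rw [h.field.finrank_eq]; norm_num)
  haveI : Finite K := Module.finite_of_finite F
  letI : Algebra F₀ K := ((algebraMap F K).comp F₀.subtype).toAlgebra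
  set y : K := ⟨(a : F)⁻¹ • c.val, K.smul_mem h.mem _⟩ with hy
  set M : Matrix (Fin 3) (Fin 3) F₀ := (X : Matrix (Fin 3) (Fin 3) F₀) with hM
  have hP : M.map (fun x : F₀ => (x : F)) = (P⁻¹ : GL (Fin 3) F).val * y.val * P.val := by
    have hX' : (P⁻¹ : GL (Fin 3) F).val * c.val * P.val = (a : F) • M.map (fun x : F₀ => (x : F)) := by
      rw [← hX, Units.val_mul, Units.val_mul]
    rw [show y.val = (a : F)⁻¹ • c.val from rfl, Matrix.mul_smul, Matrix.smul_mul, hX', smul_smul,
      inv_mul_cancel₀ a.ne_zero, one_smul]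
  have hroot : Polynomial.aeval y M.charpoly = 0 := by
    apply Subtype.ext
    set pm := M.charpoly.map (F₀.subtype : F₀ →+* F) with hpm
    have h1 : Polynomial.aeval y.val pm = 0 := by
      have h2 : pm = y.val.charpoly := by
        rw [hpm, ← Matrix.charpoly_map]
        show (M.map (fun x : F₀ => (x : F))).charpoly = _
        rw [hP, Matrix.coe_units_inv, Matrix.charpoly_units_conj']
      rw [h2]; exact Matrix.aeval_self_charpoly _
    have h3 : Polynomial.aeval y pm = Polynomial.aeval y M.charpoly := by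
      rw [hpm, Polynomial.aeval_def, Polynomial.aeval_def, Polynomial.eval₂_map]
      rfl
    rw [← h3]
    exact (Polynomial.aeval_subalgebra_coe pm _ y).trans h1
  have hint : IsIntegral F₀ y := ⟨M.charpoly, M.charpoly_monic, by rwa [← Polynomial.aeval_def]⟩
  set L : IntermediateField F₀ K := IntermediateField.adjoin F₀ {y} with hL
  haveI : FiniteDimensional F₀ L := IntermediateField.adjoin.finiteDimensional hint
  haveI : Finite F₀ := Subtype.finite
  haveI : Fintype L := Fintype.ofFinite _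
  refine ⟨Module.finrank F₀ L, Module.finrank_pos, ?_, ?_⟩
  · rw [hL, IntermediateField.adjoin.finrank hint]
    refine le_trans (Polynomial.natDegree_le_of_dvd (minpoly.dvd _ _ hroot) M.charpoly_monic.ne_zero) ?_
    rw [Matrix.charpoly_natDegree_eq_dim, Fintype.card_fin]
  · rw [← Module.natCard_eq_pow_finrank (K := F₀) (V := L), Nat.card_eq_fintype_card]
    set k := Fintype.card L - 1 with hk
    have hy0 : y ≠ 0 := fun e => by
      have := congrArg Subtype.val e
      rw [ZeroMemClass.coe_zero, hy] at this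
      rcases smul_eq_zero.1 this with h' | h'
      · exact inv_ne_zero a.ne_zero h'
      · exact c.ne_zero h'
    have hpow : y ^ k = 1 := by
      have := FiniteField.pow_card_sub_one_eq_one (⟨y, IntermediateField.mem_adjoin_simple_self F₀ y⟩ : L)
        (fun e => hy0 (congrArg Subtype.val e))
      simpa [hk] using congrArg Subtype.val this
    apply h.pow_scalar
    refine (Cfsg.Geo.mem_scalars_iff _).2 ⟨a ^ k, ?_⟩
    have := congrArg Subtype.val hpow
    rw [SubmonoidClass.coe_pow, show y.val = (a : F)⁻¹ • c.val from rfl, smul_pow, OneMemClass.coe_one] at this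
    rw [Units.val_pow_eq_pow_val, Units.val_pow_eq_pow_val, ← this, smul_smul, inv_pow,
      mul_inv_cancel₀ (pow_ne_zero _ a.ne_zero), one_smul]

/-- A non-scalar power of prime order at least five. -/
theorem exists_prime_power :
    ∃ ℓ k : ℕ, ℓ.Prime ∧ 5 ≤ ℓ ∧ (c ^ k) ^ ℓ = 1 ∧ c ^ k ∉ Cfsg.Geo.scalars (Fin 3) F := by
  have hbig := h.big
  obtain ⟨ℓ, hℓ, hdvd, hne⟩ : ∃ ℓ : ℕ, ℓ.Prime ∧ ℓ ∣ m ∧ ℓ ≠ 3 := by
    by_contra hc
    push Not at hc
    have e := Nat.eq_prime_pow_of_unique_prime_dvd (n := m) (p := 3) (by omega) (fun hd hdm => hc _ hd hdm)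
    generalize Nat.primeFactorsList m = l at e
    rcases l with _ | ⟨_, _ | ⟨_, l⟩⟩ <;> simp at e
    · omega
    · omega
    · exact h.nine ⟨3 ^ l.length, by rw [e]; ring⟩
  have h2 : ℓ ≠ 2 := by
    rintro rfl
    exact (Nat.not_even_iff_odd.2 h.odd) (even_iff_two_dvd.2 hdvd)
  have h5 : 5 ≤ ℓ := by
    by_contra hlt
    have := hℓ.two_le
    interval_cases ℓ <;> simp_all +decide
  obtain ⟨j, hj⟩ := hdvd
  refine ⟨ℓ, j, hℓ, h5, ?_, fun hs => ?_⟩
  · rw [← pow_mul, mul_comm, ← hj, ← h.order, pow_orderOf_eq_one]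
  · have h1 := Nat.le_of_dvd (Nat.mul_pos (by norm_num) (Nat.pos_of_ne_zero fun e => by subst e; simp at hj; omega))
      (h.pow_scalar hs)
    have : 5 * j ≤ ℓ * j := Nat.mul_le_mul_right _ h5
    rw [← hj] at this
    omega

theorem card_zpowers : Nat.card (Subgroup.zpowers c) = m := by rw [Nat.card_zpowers, h.order]

end IsSinger

/-- The adjoint on an adjoint-closed field is the identity or the power map of exponent `s`, `s² = q³`. -/
theorem exists_adjoint (hK : Cfsg.Geo.IsFieldSubalgebra 3 K) {σ : F →+* F}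
    {f : (Fin 3 → F) → (Fin 3 → F) → F} (hf : GeomClasses.IsSesq σ f) (hfn : Cfsg.Geo.IsNondegenerateForm f)
    (hσ : ∀ a, σ (σ a) = a) (hherm : ∀ v w, f v w = σ (f w v))
    (hcl : ∀ k ∈ K, ∃ k' ∈ K, ∀ u v, f (k *ᵥ u) v = f u (k' *ᵥ v)) :
    (∀ k ∈ K, ∀ u v, f (k *ᵥ u) v = f u (k *ᵥ v)) ∨
      ∃ s : ℕ, s * s = Fintype.card F ^ 3 ∧ ∀ k ∈ K, ∀ u v, f (k *ᵥ u) v = f u ((k ^ s) *ᵥ v) := by
  classical
  letI : Field K := Geo.FieldTransvection.fieldOf hK
  haveI : FiniteDimensional F K := Module.finite_of_finrank_pos (by rw [hK.finrank_eq]; norm_num)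
  haveI : Finite K := Module.finite_of_finite F
  have huniq : ∀ A B : Matrix (Fin 3) (Fin 3) F, (∀ u v, f u (A *ᵥ v) = f u (B *ᵥ v)) → A = B := by
    intro A B hAB
    refine Matrix.ext_of_mulVec_single fun i => ?_
    by_contra hne
    obtain ⟨u, hu⟩ := (hfn (A *ᵥ Pi.single i 1 - B *ᵥ Pi.single i 1) (sub_ne_zero.2 hne)).1
    apply hu
    rw [sub_eq_add_neg, hf.add_right, ← neg_one_smul F (B *ᵥ _), hf.smul_right, map_neg, map_one, hAB]
    ring
  choose g hg hgk using hcl
  have hu : ∀ (k : K) (B : Matrix (Fin 3) (Fin 3) F), (∀ u v, f (k.val *ᵥ u) v = f u (B *ᵥ v)) → g k.val k.2 = B :=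
    fun k B hB => huniq _ _ fun u v => by rw [← hgk, hB]
  let τ : K →+* K :=
    { toFun := fun k => ⟨g k.val k.2, hg _ _⟩
      map_one' := Subtype.ext (hu 1 1 fun u v => by simp)
      map_zero' := Subtype.ext (hu 0 0 fun u v => by simp [hf.zero_left, hf.zero_right])
      map_add' := fun a b => Subtype.ext (hu (a + b) _ fun u v => by
        simp only [Subalgebra.coe_add, Matrix.add_mulVec, hf.add_left, hf.add_right, ← hgk])
      map_mul' := fun a b => Subtype.ext (hu (a * b) _ fun u v => by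
        show f ((a.val * b.val) *ᵥ u) v = f u ((g a.val a.2 * g b.val b.2) *ᵥ v)
        rw [hK.comm _ (hg _ a.2) _ (hg _ b.2), ← Matrix.mulVec_mulVec, ← Matrix.mulVec_mulVec, hgk _ a.2, hgk _ b.2]) }
  have hτ2 : ∀ k, τ (τ k) = k := fun k => Subtype.ext (hu (τ k) k.val fun u v => by
    show f (g k.val k.2 *ᵥ u) v = _
    rw [hherm, ← hgk k.val k.2, hherm (k.val *ᵥ v), hσ])
  have hcard : Nat.card K = Fintype.card F ^ 3 := by
    rw [Module.natCard_eq_pow_finrank (K := F) (V := K), hK.finrank_eq, Nat.card_eq_fintype_card]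
  rcases finite_involution τ hτ2 with h | ⟨s, hs, h⟩
  · refine Or.inl fun k hk u v => ?_
    rw [hgk k hk, show g k hk = k from congrArg Subtype.val (h ⟨k, hk⟩)]
  · refine Or.inr ⟨s, hs.trans hcard, fun k hk u v => ?_⟩
    have e : g k hk = k ^ s := by
      have := congrArg Subtype.val (h ⟨k, hk⟩)
      rwa [SubmonoidClass.coe_pow] at this
    rw [hgk k hk, e]

/-- A similarity in the field makes it adjoint closed. -/
theorem IsSinger.closed {c : GL (Fin 3) F} {m : ℕ} (h : IsSinger K c m) {σ : F →+* F}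
    {f : (Fin 3 → F) → (Fin 3 → F) → F} (hf : GeomClasses.IsSesq σ f) (hσ : ∀ a, σ (σ a) = a)
    (hc : c ∈ Cfsg.Geo.similarityGroup f) :
    ∀ k ∈ K, ∃ k' ∈ K, ∀ u v, f (k *ᵥ u) v = f u (k' *ᵥ v) := by
  obtain ⟨μ, hμ⟩ := hc
  let L : Subalgebra F (Matrix (Fin 3) (Fin 3) F) :=
    { carrier := {k | k ∈ K ∧ ∃ k' ∈ K, ∀ u v, f (k *ᵥ u) v = f u (k' *ᵥ v)}
      mul_mem' := by
        rintro a b ⟨ha, a', ha', Ha⟩ ⟨hb, b', hb', Hb⟩
        exact ⟨K.mul_mem ha hb, b' * a', K.mul_mem hb' ha', fun u v => by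
          rw [← Matrix.mulVec_mulVec, Ha, Hb, Matrix.mulVec_mulVec]⟩
      one_mem' := ⟨K.one_mem, 1, K.one_mem, fun u v => by simp⟩
      add_mem' := by
        rintro a b ⟨ha, a', ha', Ha⟩ ⟨hb, b', hb', Hb⟩
        exact ⟨K.add_mem ha hb, a' + b', K.add_mem ha' hb', fun u v => by
          rw [Matrix.add_mulVec, Matrix.add_mulVec, hf.add_left, hf.add_right, Ha, Hb]⟩
      zero_mem' := ⟨K.zero_mem, 0, K.zero_mem, fun u v => by simp [hf.zero_left, hf.zero_right]⟩
      algebraMap_mem' := fun r => ⟨K.algebraMap_mem r, algebraMap F _ (σ r), K.algebraMap_mem _, fun u v => by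
        simp only [Algebra.algebraMap_eq_smul_one, Matrix.smul_mulVec, Matrix.one_mulVec]
        rw [hf.smul_left, hf.smul_right, hσ]⟩ }
  have hcL : c.val ^ 1 ∈ L := by
    rw [pow_one]
    refine ⟨h.mem, σ (μ : F) • (c⁻¹ : GL (Fin 3) F).val, K.smul_mem h.inv_mem _, fun u v => ?_⟩
    rw [Matrix.smul_mulVec, hf.smul_right, hσ, ← hμ, GeomClasses.gl_mulVec_inv_mulVec]
  intro k hk
  exact (h.le_of_pow_mem hcL (h.not_dvd (by norm_num)) hk).2

/-- A similarity in the field: its square, or its power of exponent `s + 1`, is scalar. -/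
theorem IsSinger.similitude {c : GL (Fin 3) F} {m : ℕ} (h : IsSinger K c m) {σ : F →+* F}
    {f : (Fin 3 → F) → (Fin 3 → F) → F} (hf : GeomClasses.IsSesq σ f) (hfn : Cfsg.Geo.IsNondegenerateForm f)
    (hσ : ∀ a, σ (σ a) = a) (hherm : ∀ v w, f v w = σ (f w v)) (hc : c ∈ Cfsg.Geo.similarityGroup f) :
    (m ∣ 6 ∧ ∀ a, σ a = a) ∨ ∃ s : ℕ, s * s = Fintype.card F ^ 3 ∧ m ∣ 3 * (s + 1) ∧ ∀ a, σ a = a ^ s := by
  obtain ⟨μ, hμ⟩ := hc
  have hinj : ∀ (A B : Matrix (Fin 3) (Fin 3) F), (∀ u v, f u (A *ᵥ v) = f u (B *ᵥ v)) → A = B := by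
    intro A B hAB
    refine Matrix.ext_of_mulVec_single fun i => ?_
    by_contra hne
    obtain ⟨u, hu⟩ := (hfn (A *ᵥ Pi.single i 1 - B *ᵥ Pi.single i 1) (sub_ne_zero.2 hne)).1
    apply hu
    rw [sub_eq_add_neg, hf.add_right, ← neg_one_smul F (B *ᵥ _), hf.smul_right, map_neg, map_one, hAB]
    ring
  -- the exponent acts as the adjoint on scalars and on `c`
  have fin : ∀ s : ℕ, (∀ k ∈ K, ∀ u v, f (k *ᵥ u) v = f u ((k ^ s) *ᵥ v)) →
      m ∣ 3 * (s + 1) ∧ ∀ a, σ a = a ^ s := by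
    intro s hs
    refine ⟨h.pow_scalar ((Cfsg.Geo.mem_scalars_iff _).2
      ⟨Units.map (σ : F →* F) μ, ?_⟩), fun a => ?_⟩
    · rw [Units.val_pow_eq_pow_val]
      refine hinj _ _ fun u v => ?_
      rw [pow_succ, ← Matrix.mulVec_mulVec, ← hs _ h.mem, hμ, Matrix.smul_mulVec, Matrix.one_mulVec, hf.smul_right]
      simp [hσ]
    · have hk : algebraMap F (Matrix (Fin 3) (Fin 3) F) a ∈ K := K.algebraMap_mem a
      have e := hinj (σ a • (1 : Matrix (Fin 3) (Fin 3) F)) ((a • (1 : Matrix (Fin 3) (Fin 3) F)) ^ s) fun u v => by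
        rw [← Algebra.algebraMap_eq_smul_one a, ← hs _ hk]
        simp only [Algebra.algebraMap_eq_smul_one, Matrix.smul_mulVec, Matrix.one_mulVec]
        rw [hf.smul_left, hf.smul_right, hσ]
      rw [smul_pow, one_pow] at e
      simpa using congrFun (congrFun e 0) 0
  rcases exists_adjoint h.field hf hfn hσ hherm (h.closed hf hσ ⟨μ, hμ⟩) with hl | ⟨s, hs, hr⟩
  · have := fin 1 (fun k hk u v => by rw [pow_one]; exact hl k hk u v)
    exact Or.inl ⟨this.1, fun a => by rw [this.2, pow_one]⟩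
  · exact Or.inr ⟨s, hs, fin s hr⟩

/-- The element of order `q² + q + 1`. -/
theorem exists_singer (hK : Cfsg.Geo.IsFieldSubalgebra 3 K) (hq : 2 ≤ Fintype.card F) :
    ∃ c : GL (Fin 3) F, IsSinger K c (Fintype.card F ^ 2 + Fintype.card F + 1) := by
  classical
  letI : Field K := Geo.FieldTransvection.fieldOf hK
  haveI : FiniteDimensional F K := Module.finite_of_finrank_pos (by rw [hK.finrank_eq]; norm_num)
  haveI : Finite K := Module.finite_of_finite F
  set q := Fintype.card F with hqd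
  have hcard : Nat.card K = q ^ 3 := by
    rw [Module.natCard_eq_pow_finrank (K := F) (V := K), hK.finrank_eq, Nat.card_eq_fintype_card]
  obtain ⟨g, hg⟩ := IsCyclic.exists_generator (α := Kˣ)
  have hord : orderOf g = (q - 1) * (q ^ 2 + q + 1) := by
    rw [orderOf_eq_card_of_forall_mem_zpowers hg, Nat.card_units, hcard]
    obtain ⟨r, hr⟩ : ∃ r, q = r + 1 := ⟨q - 1, by omega⟩
    rw [hr, Nat.add_sub_cancel, Nat.sub_eq_iff_eq_add (Nat.one_le_pow _ _ (by omega))]; ring
  let ι : Kˣ →* GL (Fin 3) F := Units.map (K.val : K →* Matrix (Fin 3) (Fin 3) F)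
  have hι : Function.Injective ι := Units.map_injective Subtype.val_injective
  refine ⟨ι (g ^ (q - 1)), hK, ((g ^ (q - 1) : Kˣ) : K).2, ?_, ?_, ?_, ?_, ?_⟩
  · rw [GeomClasses.mem_specialLinear, map_pow, Units.val_pow_eq_pow_val, Matrix.det_pow]
    exact FiniteField.pow_card_sub_one_eq_one _ (Matrix.GeneralLinearGroup.det_ne_zero (ι g))
  · rw [orderOf_injective ι hι, orderOf_pow' g (by omega), hord,
      Nat.gcd_eq_right (Dvd.intro _ rfl), Nat.mul_div_cancel_left _ (by omega)]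
  · rw [pow_two, show q * q + q + 1 = q * (q + 1) + 1 by ring]
    exact (Nat.even_mul_succ_self q).add_one
  · intro h9
    have h := Nat.mod_eq_zero_of_dvd h9  -- residues modulo nine
    have : q % 9 < 9 := Nat.mod_lt _ (by norm_num)
    rw [Nat.add_mod, Nat.add_mod (q ^ 2), Nat.pow_mod] at h
    interval_cases hr : q % 9 <;> simp at h
  · nlinarith

end CfsgLib.DimThreeMax
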