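import Cfsg.Agent.Lib.DimThreeMax.Obstruct
import Cfsg.Agent.Lib.Geo.AschForms

/-!
Transvections in similarity groups and monomial groups of dimension three.
-/

set_option autoImplicit false

namespace CfsgLib.DimThreeMax

open Matrix GeomClasses
open scoped MatrixGroups

variable {F : Type*} [Field F]

theorem exists_axis_basis {φ : Fin 3 → F} (hφ : φ ≠ 0) :
    ∃ a b, φ ⬝ᵥ a = 0 ∧ φ ⬝ᵥ b = 0 ∧ LinearIndependent F ![a, b] := by
  obtain ⟨k, hk⟩ := Function.ne_iff.1 hφ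
  have hk' : φ k ≠ 0 := hk
  refine ⟨φ k • Pi.single (k + 1) 1 - φ (k + 1) • Pi.single k 1,
    φ k • Pi.single (k + 2) 1 - φ (k + 2) • Pi.single k 1, ?_, ?_, ?_⟩
  · simp [dotProduct_sub, mul_comm]
  · simp [dotProduct_sub, mul_comm]
  · rw [LinearIndependent.pair_iff]
    intro s t hst
    have e1 := congrFun hst (k + 1)
    have e2 := congrFun hst (k + 2)
    fin_cases k <;> simp at e1 e2 <;> exact ⟨e1.resolve_right hk', e2.resolve_right hk'⟩

/-- A similarity which is a transvection is an isometry, so its centre is orthogonal to its axis. -/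
theorem transvection_similarity {σ : F →+* F} {f : (Fin 3 → F) → (Fin 3 → F) → F} (hf : IsSesq σ f)
    (hfn : Cfsg.Geo.IsNondegenerateForm f) {v φ : Fin 3 → F}
    (hv : v ≠ 0) (hφ : φ ≠ 0) (hφv : φ ⬝ᵥ v = 0) (h : tv v φ ∈ Cfsg.Geo.similarityGroup f) :
    (∀ x y, f ((tv v φ : GL (Fin 3) F).val *ᵥ x) ((tv v φ : GL (Fin 3) F).val *ᵥ y) = f x y) ∧
      ∀ a, φ ⬝ᵥ a = 0 → f a v = 0 := by
  obtain ⟨c, hc⟩ := h
  obtain ⟨a, b, ha, hb, hab⟩ := exists_axis_basis hφ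
  obtain ⟨p, q, hp, hq, hpq⟩ : ∃ p q, φ ⬝ᵥ p = 0 ∧ φ ⬝ᵥ q = 0 ∧ f p q ≠ 0 := by
    by_contra hall
    push Not at hall
    obtain ⟨w, hw⟩ : ∃ w, φ ⬝ᵥ w ≠ 0 := by
      obtain ⟨k, hk⟩ := Function.ne_iff.1 hφ
      exact ⟨Pi.single k 1, by simpa using hk⟩
    obtain ⟨x, hxk, hx0, hxw⟩ : ∃ x, φ ⬝ᵥ x = 0 ∧ x ≠ 0 ∧ f x w = 0 := by
      by_cases h1 : f a w = 0
      · exact ⟨a, ha, hab.ne_zero 0, h1⟩
      refine ⟨f b w • a + (-f a w) • b, by simp [dotProduct_add, ha, hb], fun h0 => ?_, ?_⟩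
      · exact h1 (neg_eq_zero.1 (LinearIndependent.pair_iff.1 hab _ _ h0).2)
      · rw [hf.add_left, hf.smul_left, hf.smul_left]; ring
    obtain ⟨y, hy⟩ := (hfn x hx0).2
    apply hy
    have hy' : φ ⬝ᵥ (y - (φ ⬝ᵥ y / φ ⬝ᵥ w) • w) = 0 := by
      rw [dotProduct_sub, dotProduct_smul, smul_eq_mul, div_mul_cancel₀ _ hw, sub_self]
    rw [← sub_add_cancel y ((φ ⬝ᵥ y / φ ⬝ᵥ w) • w), hf.add_right, hall x _ hxk hy', hf.smul_right, hxw,
      mul_zero, add_zero]
  have hval := hc p q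
  rw [tv_mulVec hφv, tv_mulVec hφv, hp, hq, zero_smul, add_zero, add_zero] at hval
  have hc1 : (c : F) = 1 := mul_right_cancel₀ hpq (by rw [one_mul, ← hval])
  have hiso : ∀ x y, f ((tv v φ : GL (Fin 3) F).val *ᵥ x) ((tv v φ : GL (Fin 3) F).val *ᵥ y) = f x y :=
    fun x y => by rw [hc, hc1, one_mul]
  refine ⟨hiso, fun x hx => ?_⟩
  obtain ⟨w, hw⟩ : ∃ w, φ ⬝ᵥ w ≠ 0 := by
    obtain ⟨k, hk⟩ := Function.ne_iff.1 hφ
    exact ⟨Pi.single k 1, by simpa using hk⟩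
  have := hiso x w
  rw [tv_mulVec hφv, tv_mulVec hφv, hx, zero_smul, add_zero, hf.add_right, hf.smul_right, add_eq_left] at this
  exact (mul_eq_zero.1 this).resolve_left (by simpa using hw)

/-- In odd characteristic no transvection is a similarity of a symmetric bilinear form. -/
theorem no_transvection_quad (h2 : (2 : F) ≠ 0) {Q : (Fin 3 → F) → F}
    (hQ : Cfsg.Geo.IsNondegenerateQuadraticForm Q) {v φ : Fin 3 → F}
    (hv : v ≠ 0) (hφ : φ ≠ 0) (hφv : φ ⬝ᵥ v = 0) : tv v φ ∉ Cfsg.Geo.quadSimilarityGroup Q := by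
  intro h
  have hf := CfsgLib.Geo.Asch.polar_isSesq hQ
  obtain ⟨hiso, hperp⟩ := transvection_similarity hf hQ.nondegenerate hv hφ hφv
    (CfsgLib.Geo.Asch.quadSimilarity_le h)
  obtain ⟨x, hx⟩ := (hQ.nondegenerate v hv).1
  apply hx
  by_cases hxk : φ ⬝ᵥ x = 0
  · exact hperp x hxk
  have e := hiso x x
  rw [tv_mulVec hφv, hf.add_left, hf.smul_left, hf.add_right, hf.add_right, hf.smul_right, hf.smul_right,
    hperp v hφv, QuadraticMap.polar_comm Q v x, RingHom.id_apply] at e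
  have : 2 * (φ ⬝ᵥ x) * QuadraticMap.polar Q x v = 0 := by linear_combination e
  exact (mul_eq_zero.1 this).resolve_left (mul_ne_zero h2 hxk)

/-- Two axes with one centre are not both similarities. -/
theorem no_two_axes {σ : F →+* F} {f : (Fin 3 → F) → (Fin 3 → F) → F} (hf : IsSesq σ f)
    (hfn : Cfsg.Geo.IsNondegenerateForm f) {v φ ψ : Fin 3 → F} (hv : v ≠ 0) (hind : LinearIndependent F ![φ, ψ])
    (hφv : φ ⬝ᵥ v = 0) (hψv : ψ ⬝ᵥ v = 0) (h₁ : tv v φ ∈ Cfsg.Geo.similarityGroup f) :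
    tv v ψ ∉ Cfsg.Geo.similarityGroup f := by
  intro h₂
  have hφ : φ ≠ 0 := hind.ne_zero 0
  have hψ : ψ ≠ 0 := hind.ne_zero 1
  have k1 := (transvection_similarity hf hfn hv hφ hφv h₁).2
  have k2 := (transvection_similarity hf hfn hv hψ hψv h₂).2
  obtain ⟨x, hx⟩ := (hfn v hv).1
  apply hx
  -- a vector off the kernel of `φ` but in that of `ψ`
  obtain ⟨w, hwφ, hwψ⟩ : ∃ w, φ ⬝ᵥ w ≠ 0 ∧ ψ ⬝ᵥ w = 0 := by
    by_contra hc
    push Not at hc
    obtain ⟨c, hc'⟩ := exists_smul_of_ker_le (φ := ψ) (ψ := φ) hψ (fun a ha => by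
      by_contra h'
      exact hc a h' ha)
    exact one_ne_zero (LinearIndependent.pair_iff.1 hind 1 (-c) (by rw [hc']; module)).1
  have hy' : φ ⬝ᵥ (x - (φ ⬝ᵥ x / φ ⬝ᵥ w) • w) = 0 := by
    rw [dotProduct_sub, dotProduct_smul, smul_eq_mul, div_mul_cancel₀ _ hwφ, sub_self]
  rw [← sub_add_cancel x ((φ ⬝ᵥ x / φ ⬝ᵥ w) • w), hf.add_left, k1 _ hy', hf.smul_left, k2 w hwψ,
    mul_zero, add_zero]

/-- In odd characteristic no transvection is monomial. -/
theorem no_transvection_monomial (h2 : (2 : F) ≠ 0) {D : Fin 3 → Submodule F (Fin 3 → F)}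
    (hD : Cfsg.Geo.IsMDecomposition 1 D) {v φ : Fin 3 → F} (hv : v ≠ 0) (hφ : φ ≠ 0) (hφv : φ ⬝ᵥ v = 0) :
    tv v φ ∉ Cfsg.Geo.decompositionStabilizer D := by
  intro h
  obtain ⟨b, hb⟩ := lines_basis hD
  obtain ⟨σ, c, hc, hg⟩ := hb _ h
  have hg' : ∀ i, (φ ⬝ᵥ b i) • v = c i • b (σ i) - b i := fun i => by
    rw [← hg i, tv_mulVec hφv, add_sub_cancel_left]
  have hco : ∀ i l, (φ ⬝ᵥ b i) * b.repr v l = c i * (if σ i = l then 1 else 0) - (if i = l then 1 else 0) :=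
    fun i l => by
      have := congrArg (fun z => b.repr z l) (hg' i)
      simpa [Finsupp.single_apply] using this
  have hsum : ∑ i, b.repr v i * (φ ⬝ᵥ b i) = 0 := by
    have := congrArg (φ ⬝ᵥ ·) (b.sum_repr v)
    simpa only [dotProduct_sum, dotProduct_smul, smul_eq_mul, hφv] using this
  by_cases hσ : ∀ i, σ i = i
  · obtain ⟨i, hi⟩ : ∃ i, φ ⬝ᵥ b i ≠ 0 := by
      by_contra hall
      push Not at hall
      apply hφ
      apply dot_right_cancel
      intro x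
      rw [← b.sum_repr x, dotProduct_sum, zero_dotProduct]
      simp [hall]
    have h0 : ∀ l, l ≠ i → b.repr v l = 0 := fun l hl => by
      have := hco i l
      rw [hσ i, if_neg hl.symm, mul_zero, sub_zero] at this
      exact (mul_eq_zero.1 this).resolve_left hi
    rw [Finset.sum_eq_single i (fun l _ hl => by rw [h0 l hl, zero_mul]) (by simp)] at hsum
    have hvi : b.repr v i = 0 := (mul_eq_zero.1 hsum).resolve_right hi
    exact hv (b.repr.map_eq_zero_iff.1 (Finsupp.ext fun l => by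
      by_cases hl : l = i
      · subst hl; simpa using hvi
      · simpa using h0 l hl))
  push Not at hσ
  obtain ⟨i, hi⟩ := hσ
  have e1 := hco i i
  rw [if_neg hi, if_pos rfl, mul_zero, zero_sub] at e1
  have hφi : φ ⬝ᵥ b i ≠ 0 := fun h0 => by rw [h0, zero_mul] at e1; exact one_ne_zero (neg_eq_zero.1 e1.symm)
  obtain ⟨j, hj⟩ : ∃ j, σ i = j := ⟨_, rfl⟩
  rw [hj] at hi
  have e2 := hco i j
  rw [if_pos hj, if_neg hi.symm, mul_one, sub_zero] at e2
  have h0 : ∀ l, l ≠ i → l ≠ j → b.repr v l = 0 := fun l hl hl' => by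
    have := hco i l
    rw [hj, if_neg (Ne.symm hl'), if_neg hl.symm, mul_zero, sub_zero] at this
    exact (mul_eq_zero.1 this).resolve_left hφi
  have hvj : b.repr v j ≠ 0 := fun h' => by rw [h', mul_zero] at e2; exact hc i e2.symm
  have hji : σ j ≠ j := fun h' => hi (σ.injective (hj.trans h'.symm)).symm
  have e3 := hco j j
  rw [if_neg hji, if_pos rfl, mul_zero, zero_sub] at e3
  rw [Finset.sum_eq_add i j hi.symm (fun l _ hl => by rw [h0 l hl.1 hl.2, zero_mul]) (by simp) (by simp)] at hsum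
  exact h2 (by linear_combination e1 + e3 - hsum)

end CfsgLib.DimThreeMax
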