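import Cfsg.Agent.S5775
import Cfsg.Agent.Lib.DimThreeMax.Arith
import Cfsg.Agent.Lib.DimThreeMax.C6Normal
import Cfsg.Agent.Lib.DimThreeMax.LinearWitness
import Cfsg.Agent.Lib.DimThreeMax.ResidualSix
import Cfsg.Agent.Lib.DimThreeMax.Singer
import Cfsg.Agent.Lib.DimThreeMax.Root
import Cfsg.Agent.Lib.DimThreeMax.Transvection
import Cfsg.Agent.Lib.GeomClasses.RationalField
import Cfsg.Agent.Lib.GeomClasses.MaxLinearSubspace

/-!
Geometric maximal subgroups of the three-dimensional special linear group, given the socles of the residual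
maximal subgroups.
-/

set_option autoImplicit false

namespace CfsgLib.DimThreeMax

open Matrix GeomClasses
open scoped MatrixGroups

/-- The socles of the maximal subgroups in the residual class of `SL₃`. -/
def LinearResidual (F : Type*) [Field F] [Fintype F] : Prop :=
  ∀ H : Subgroup (GL (Fin 3) F), Cfsg.Geo.IsMaximalIn (Cfsg.Geo.specialLinear (Fin 3) F) H →
    Cfsg.Geo.InLinearResidualClass H →
    ∃ (P : Subgroup (GL (Fin 3) F)) (p : ℕ), Cfsg.Geo.IsResidualCore H P ∧ p.Prime ∧ CharP F p ∧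
    ((Nonempty ((P ⧸ (Cfsg.Geo.scalars (Fin 3) F).subgroupOf P) ≃* Matrix.ProjectiveSpecialLinearGroup (Fin 3) (ZMod 2)) ∧
        Fintype.card F = p ∧ p ≠ 2 ∧ (p % 7 = 1 ∨ p % 7 = 2 ∨ p % 7 = 4)) ∨
     (Nonempty ((P ⧸ (Cfsg.Geo.scalars (Fin 3) F).subgroupOf P) ≃* alternatingGroup (Fin 6)) ∧
        ((Fintype.card F = p ∧ (p % 15 = 1 ∨ p % 15 = 4)) ∨ (Fintype.card F = p ^ 2 ∧ p ≠ 3 ∧ (p % 5 = 2 ∨ p % 5 = 3)))))

variable {F : Type*} [Field F] [Fintype F]

local notation "SL₃" => Cfsg.Geo.specialLinear (Fin 3) F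

/-- The residual maximal subgroups as almost simple groups. -/
theorem residual_cases (hres : LinearResidual F) {H : Subgroup (GL (Fin 3) F)}
    (hH : Cfsg.Geo.IsMaximalIn SL₃ H) (hR : Cfsg.Geo.InLinearResidualClass H) :
    ∃ p : ℕ, p.Prime ∧ CharP F p ∧
      ((Nonempty (AlmostSimple H L32) ∧ Fintype.card F = p ∧ 11 ≤ p ∧ (p % 7 = 1 ∨ p % 7 = 2 ∨ p % 7 = 4)) ∨
       (Nonempty (AlmostSimple H (alternatingGroup (Fin 6))) ∧
        ((Fintype.card F = p ∧ 16 ≤ p ∧ (p % 15 = 1 ∨ p % 15 = 4)) ∨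
         (Fintype.card F = p ^ 2 ∧ (p = 2 ∨ 7 ≤ p))))) := by
  obtain ⟨P, p, hc, hp, hchar, h⟩ := hres H hH hR
  refine ⟨p, hp, hchar, ?_⟩
  have h2 := hp.two_le
  rcases h with ⟨⟨e⟩, hq, hp2, hmod⟩ | ⟨⟨e⟩, h'⟩
  · refine Or.inl ⟨nonempty_almostSimple hc e, hq, ?_, hmod⟩
    by_contra hlt
    push Not at hlt
    interval_cases p <;> simp_all (config := { decide := true })
  · refine Or.inr ⟨nonempty_almostSimple hc e, ?_⟩
    rcases h' with ⟨hq, hmod⟩ | ⟨hq, h3, hmod⟩
    · refine Or.inl ⟨hq, ?_, hmod⟩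
      by_contra hlt
      push Not at hlt
      interval_cases p <;> simp_all (config := { decide := true })
    · refine Or.inr ⟨hq, or_iff_not_imp_left.2 fun hp2 => ?_⟩
      by_contra hlt
      push Not at hlt
      interval_cases p <;> simp_all (config := { decide := true })

/-- Order bounds in a residual maximal subgroup. -/
theorem residual_dvd {H T : Subgroup (GL (Fin 3) F)} (hH : Cfsg.Geo.IsMaximalIn SL₃ H) (hT : T ≤ H) :
    (∀ _ : AlmostSimple H L32, Nat.card T ∣ 1008) ∧
      (∀ _ : AlmostSimple H (alternatingGroup (Fin 6)), Nat.card T ∣ 4320) := by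
  refine ⟨fun S => ?_, fun S => ?_⟩
  · haveI : Finite L32 := Nat.finite_of_card_ne_zero (by rw [card_l32]; norm_num)
    have := S.card_dvd hH.1.le hT
    rwa [card_mulAut_l32] at this
  · have := S.card_dvd hH.1.le hT
    rwa [card_mulAut_alt_six] at this

/-- The subfield of a group of rational transvections. -/
theorem le_subfield_of_elementary {E F₀ : Subfield F} {P : GL (Fin 3) F}
    (h : ∀ a ∈ E, tv (Pi.single 0 1) (a • Pi.single 1 1) ∈ Cfsg.Geo.subfieldSubgroup F₀ P) : E ≤ F₀ := by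
  intro a ha
  have key : ∀ b ∈ E, IsRat F₀ P (b • vecMulVec (Pi.single 0 1 : Fin 3 → F) (Pi.single 1 1)) := by
    intro b hb
    have hd : (b • Pi.single 1 1 : Fin 3 → F) ⬝ᵥ Pi.single 0 1 = 0 := by simp
    have hv : (tv (Pi.single 0 1) (b • Pi.single 1 1) : GL (Fin 3) F).val - 1 =
        b • vecMulVec (Pi.single 0 1 : Fin 3 → F) (Pi.single 1 1) := by
      rw [tv_val hd, add_sub_cancel_left, vecMulVec_smul]
    rw [← hv]
    refine unipotent_rat (h b hb) ?_
    rw [hv, pow_succ, pow_two, smul_mul_smul_comm, vecMulVec_mul_vecMulVec]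
    simp
  have h1 := key 1 E.one_mem
  rw [one_smul] at h1
  refine h1.ratio (key a ha) fun h0 => ?_
  have := congrFun (congrFun h0 0) 1
  simp [vecMulVec_apply] at this

theorem card_map_inf (P : GL (Fin 3) F) (X : Subgroup (GL (Fin 3) F)) :
    Nat.card (X.map (conjMap P) ⊓ SL₃ : Subgroup (GL (Fin 3) F)) = Nat.card (X ⊓ SL₃ : Subgroup (GL (Fin 3) F)) := by
  rw [map_inf_specialLinear, card_map_conjMap]

theorem maximal_of_std {X Y : Subgroup (GL (Fin 3) F)} {P : GL (Fin 3) F} (h : Y = X.map (conjMap P))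
    (hX : Cfsg.Geo.IsMaximalIn SL₃ (X ⊓ SL₃)) : Cfsg.Geo.IsMaximalIn SL₃ (Y ⊓ SL₃) := by
  have h1 := isMaximalIn_map (MulAut.conj P) hX
  rw [map_conj_specialLinear] at h1
  rw [h, map_inf_specialLinear]
  exact h1

/-- Maximality of the monomial group. -/
theorem monomial_maximal (hres : LinearResidual F) (hq : 5 ≤ Fintype.card F) :
    Cfsg.Geo.IsMaximalIn SL₃ (Cfsg.Geo.decompositionStabilizer (axes F) ⊓ SL₃) := by
  classical
  set q := Fintype.card F with hqd
  have htopcard : Nat.card (⊤ : Subfield F) = q := by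
    rw [hqd, ← Nat.card_eq_fintype_card]; exact Nat.card_congr Subfield.topEquiv.toEquiv
  set N := Cfsg.Geo.decompositionStabilizer (axes F) ⊓ SL₃ with hN
  obtain ⟨u, hu⟩ := IsCyclic.exists_ofOrder_eq_natCard (α := Fˣ)
  have hord : orderOf u = q - 1 := by rw [hu, Nat.card_units, Nat.card_eq_fintype_card]
  have hdvd : ∀ k, u ^ k = 1 → q - 1 ∣ k := fun k hk => hord ▸ orderOf_dvd_of_pow_eq_one hk
  have hu2 : (u : F) ^ 2 ≠ 1 := fun h => by
    have := Nat.le_of_dvd (by norm_num) (hdvd 2 (Units.ext (by simpa using h)))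
    omega
  have hT : HasTorus N u := axes_hasTorus u
  refine isMaximalIn_of_forall (lt_of_le_of_ne inf_le_right fun heq => ?_) fun H hH hle => ?_
  · have h := monomial_unipotent axes_decomposition (T := upperGroup ⊤)
      (le_trans (le_of_le_of_eq (upperGroup_le_specialLinear _) heq.symm) inf_le_left)
      (upperGroup_unipotent _)
    rw [card_upperGroup, htopcard] at h
    have := Nat.le_of_dvd (by norm_num) h
    nlinarith
  have hTH := hT.mono hle
  rcases Cfsg.Agent.S5775.result H hH with ⟨W, hW0, hW1, rfl⟩ | ⟨-, D, hD, rfl⟩ | ⟨-, K, hK, rfl⟩ |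
    ⟨F₀, r, P, hr, hcard, rfl⟩ | ⟨p, R, hp, hcard, hp3, hR, rfl⟩ | ⟨hodd, Q, hQ, rfl⟩ |
    ⟨σ, f, hf, rfl⟩ | hR
  · exact absurd ((hTH.mono inf_le_left).irreducible hu2 le_rfl hW0) hW1
  · obtain ⟨P, hP⟩ := exists_axes_map hD
    exact eq_of_le_of_card hle (by rw [hP, card_map_inf])
  · exfalso
    have h3 := field_cube hK hTH.base.1
    rw [← Units.val_pow_eq_pow_val, dg_pow] at h3
    set M := (dg ((![u, u⁻¹, 1] : Fin 3 → Fˣ) ^ 3) : GL (Fin 3) F).val with hM
    have hMv : M *ᵥ Pi.single 2 1 = Pi.single 2 1 := by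
      rw [hM, dg_mulVec]; funext i; fin_cases i <;> simp
    have hM1 : M = 1 := by
      by_contra hne
      obtain ⟨y, hy, hxy⟩ := hK.inv _ (K.sub_mem h3 K.one_mem) (sub_ne_zero.2 hne)
      rw [hK.comm _ (K.sub_mem h3 K.one_mem) _ hy] at hxy
      have := congrArg (· *ᵥ (Pi.single 2 1 : Fin 3 → F)) hxy
      simp only [← Matrix.mulVec_mulVec, Matrix.sub_mulVec, hMv, Matrix.one_mulVec, sub_self,
        Matrix.mulVec_zero] at this
      simpa using congrFun this 2
    have := congrFun (congrFun hM1 0) 0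
    rw [hM, dg_val] at this
    have := Nat.le_of_dvd (by norm_num) (hdvd 3 (Units.ext (by simpa using this)))
    omega
  · exfalso
    obtain ⟨h1, h2, -, -⟩ := subfield_facts hr hcard
    haveI : Finite F₀ := Subtype.finite
    rcases (hTH.mono inf_le_left).subfield le_rfl with h | h
    · have hk : u ^ (Nat.card F₀ - 1) = 1 := by
        apply Units.ext
        rw [Units.val_pow_eq_pow_val, Units.val_one]
        apply mul_right_cancel₀ u.ne_zero
        rw [one_mul, ← pow_succ, Nat.sub_add_cancel (by omega), h]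
      have := Nat.le_of_dvd (by omega) (hdvd _ hk)
      have : q ≤ Nat.card F₀ := by omega
      nlinarith
    · have hk : u ^ (Nat.card F₀ + 1) = 1 := by
        apply Units.ext
        rw [Units.val_pow_eq_pow_val, Units.val_one, pow_succ, h, inv_mul_cancel₀ u.ne_zero]
      have := Nat.le_of_dvd (by omega) (hdvd _ hk)
      have : q ≤ Nat.card F₀ + 2 := by omega
      have : Nat.card F₀ ≤ 2 := by nlinarith
      omega
  · exfalso
    obtain ⟨hE, -⟩ := extra27_of_data hR
    have h2 : (2 : F) ≠ 0 := two_ne_zero_of_odd (by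
      rw [hcard]; exact hp.odd_of_ne_two (by rintro rfl; norm_num at hp3))
    have hne : (-1 : Fˣ) ≠ 1 := fun h => h2 (by
      have := congrArg Units.val h
      simp at this
      linear_combination -this)
    have hmem : ∀ v : Fin 3 → Fˣ, v 0 * v 1 * v 2 = 1 → dg v ∈ Cfsg.Geo.subgroupNormalizer R := fun v hv =>
      (hle (dg_det_one_mem hv)).1
    have hns : ∀ v : Fin 3 → Fˣ, ¬ (v 0 = v 1 ∧ v 1 = v 2) → dg v ∉ Cfsg.Geo.scalars (Fin 3) F := fun v hv h =>
      hv (dg_mem_scalars h)
    refine hE.no_four_group (hmem ![-1, -1, 1] (by simp)) (hmem ![1, -1, -1] (by simp)) ?_ ?_ ?_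
      (hns _ (by simp [hne, hne.symm])) (hns _ (by simp [hne, hne.symm])) ?_
    · rw [dg_pow, ← dg_one]; congr 1; funext i; fin_cases i <;> simp
    · rw [dg_pow, ← dg_one]; congr 1; funext i; fin_cases i <;> simp
    · rw [dg_mul, dg_mul, mul_comm]
    · rw [dg_mul]; exact hns _ (by simp [hne, hne.symm])
  · exfalso
    have hf := hermLike_polar hQ
    have hle' : N ≤ Cfsg.Geo.similarityGroup (QuadraticMap.polar Q) := fun g hg => by
      obtain ⟨c, hc⟩ := (hle hg).1
      refine ⟨c, fun x y => ?_⟩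
      simp only [QuadraticMap.polar, ← Matrix.mulVec_add, hc]
      ring
    exact hT.form_false hf.sesq hf.nondeg hle' (by
      show (u : F) * u ≠ 1
      rwa [← pow_two])
  · exfalso
    have hh := hermLike_unitary hf
    refine (hTH.mono inf_le_left).form_false hh.sesq hh.nondeg le_rfl fun h => ?_
    rcases finite_involution (σ : F →+* F) hf.involutive with h1 | ⟨s, hs, hpow⟩
    · exact hf.ne_refl (RingEquiv.ext h1)
    · rw [Nat.card_eq_fintype_card, ← hqd] at hs
      have hk : u ^ (s + 1) = 1 := by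
        apply Units.ext
        rw [Units.val_pow_eq_pow_val, Units.val_one, pow_succ', ← hpow]
        exact h
      have := Nat.le_of_dvd (by omega) (hdvd _ hk)
      have : q ≤ s + 2 := by omega
      have hs2 : s ≤ 2 := by nlinarith
      omega
  · exfalso
    obtain ⟨p, hp, -, hc⟩ := residual_cases hres hH hR
    obtain ⟨hL, hA⟩ := residual_dvd hH (torus_le.trans hle)
    rw [card_torus, ← hqd] at hL hA
    rcases hc with ⟨⟨S⟩, hcard, h11, hmod⟩ | ⟨⟨S⟩, h'⟩
    · have h12 := dvd_of_sq_dvd_1008 (hL S)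
      rw [← hqd] at hcard
      have := Nat.le_of_dvd (by norm_num) h12
      have hp13 : p = 13 := by
        have : p ≤ 13 := by omega
        interval_cases p
        · exact absurd h12 (by rw [hcard]; decide)
        · exact absurd hp (by norm_num)
        · rfl
      subst hp13
      omega
    · have h12 := Nat.le_of_dvd (by norm_num) (dvd_of_sq_dvd_4320 (hA S))
      rw [← hqd] at h'
      rcases h' with ⟨hcard, h16, -⟩ | ⟨hcard, rfl | h7⟩
      · omega
      · omega
      · have : q ≤ 13 := by omega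
        nlinarith

/-- Maximality of the field normalisers. -/
theorem field_maximal (hres : LinearResidual F) (hq4 : Fintype.card F ≠ 4)
    {K : Subalgebra F (Matrix (Fin 3) (Fin 3) F)} (hK : Cfsg.Geo.IsFieldSubalgebra 3 K) :
    Cfsg.Geo.IsMaximalIn SL₃ (Cfsg.Geo.subalgebraNormalizer K ⊓ SL₃) := by
  classical
  set q := Fintype.card F with hqd
  have hq2 : 2 ≤ q := Fintype.one_lt_card
  have htopcard : Nat.card (⊤ : Subfield F) = q := by
    rw [hqd, ← Nat.card_eq_fintype_card]; exact Nat.card_congr Subfield.topEquiv.toEquiv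
  obtain ⟨c, hc⟩ := exists_singer hK hq2
  refine isMaximalIn_of_forall (lt_of_le_of_ne inf_le_right fun heq => ?_) fun H hH hle => ?_
  · have h := field_unipotent hK (T := upperGroup ⊤)
      (le_trans (le_of_le_of_eq (upperGroup_le_specialLinear _) heq.symm) inf_le_left)
      (upperGroup_unipotent _)
    rw [card_upperGroup, htopcard] at h
    have := Nat.le_of_dvd (by norm_num) h
    nlinarith
  have hcH : c ∈ H := hle ⟨hc.normalizes, hc.det⟩
  rcases Cfsg.Agent.S5775.result H hH with ⟨W, hW0, hW1, rfl⟩ | ⟨-, D, hD, rfl⟩ | ⟨-, L, hL, rfl⟩ |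
    ⟨F₀, r, P, hr, hcard, rfl⟩ | ⟨p, R, hp, hcard, hp3, hR, rfl⟩ | ⟨hodd, Q, hQ, rfl⟩ |
    ⟨σ, f, hf, rfl⟩ | hR
  · exact absurd (hc.irreducible hcH.1 hW0) hW1
  · exact absurd hcH.1 (hc.not_monomial hD)
  · rw [hc.field_unique hL hcH.1]
  · exfalso
    obtain ⟨h1, h2, -, -⟩ := subfield_facts hr hcard
    obtain ⟨d, hd1, hd3, hdvd⟩ := hc.subfield_bound hcH.1
    rw [← hqd] at hcard hdvd h2
    have hpos : 0 < Nat.card F₀ ^ d - 1 := by
      have := Nat.le_self_pow (show d ≠ 0 by omega) (Nat.card F₀)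
      omega
    have hle3 := Nat.le_of_dvd (by omega) hdvd
    have hd3' : Nat.card F₀ ^ d ≤ Nat.card F₀ ^ 3 := Nat.pow_le_pow_right (by omega) hd3
    set t := Nat.card F₀
    rcases hr.eq_two_or_odd' with rfl | ho
    · have ht : 3 ≤ t := by
        by_contra ht
        push Not at ht
        have : t = 2 := by omega
        rw [this] at hcard
        omega
      have h4 : 3 * t ^ 3 ≤ t ^ 4 := by
        rw [pow_succ t 3, mul_comm]; exact Nat.mul_le_mul_left _ ht
      have hqq : q ^ 2 = t ^ 4 := by rw [hcard, ← pow_mul]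
      omega
    · have hr3 : 3 ≤ r := by
        rcases ho with ⟨k, rfl⟩
        have := hr.two_le
        omega
      have h6 : t ^ 3 ≤ q := hcard ▸ Nat.pow_le_pow_right (by omega) hr3
      have h8 : 8 ≤ t ^ 3 := le_trans (by norm_num) (Nat.pow_le_pow_left h1 3)
      have : 3 * t ^ 3 ≤ q ^ 2 := by
        rw [pow_two]; exact Nat.mul_le_mul (by omega) h6
      omega
  · exfalso
    obtain ⟨hE, -⟩ := extra27_of_data hR
    obtain ⟨ℓ, k, hℓ, h5, hpow, hns⟩ := hc.exists_prime_power
    exact hns (hE.prime_scalar (Subgroup.pow_mem _ hcH.1 k) hℓ h5 hpow)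
  · exfalso
    have hf := hermLike_polar hQ
    have hc' : c ∈ Cfsg.Geo.similarityGroup (QuadraticMap.polar Q) := by
      obtain ⟨a, ha⟩ := hcH.1
      refine ⟨a, fun x y => ?_⟩
      simp only [QuadraticMap.polar, ← Matrix.mulVec_add, ha]
      ring
    rcases hc.similitude hf.sesq hf.nondeg hf.inv hf.herm hc' with ⟨h6, -⟩ | ⟨s, hs, -, hid⟩
    · exact hc.not_dvd (k := 18) dvd_rfl (h6.trans (by norm_num))
    · obtain ⟨u, hu⟩ := IsCyclic.exists_ofOrder_eq_natCard (α := Fˣ)
      have hs1 : 1 ≤ s := Nat.one_le_iff_ne_zero.2 fun h0 => by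
        rw [h0, mul_zero] at hs
        exact absurd hs.symm (pow_ne_zero _ (by omega))
      have hk : u ^ (s - 1) = 1 := by
        apply Units.ext
        rw [Units.val_pow_eq_pow_val, Units.val_one]
        apply mul_right_cancel₀ u.ne_zero
        rw [one_mul, ← pow_succ, Nat.sub_add_cancel hs1]
        exact (hid u).symm
      have hdv : q - 1 ∣ s - 1 := by
        have := orderOf_dvd_of_pow_eq_one hk
        rwa [hu, Nat.card_units, Nat.card_eq_fintype_card] at this
      rw [← hqd] at hs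
      obtain ⟨t, htq, rfl⟩ := exists_sq_of_sq_eq_cube hs
      rw [htq] at hdv hq2
      -- t² - 1 does not divide t³ - 1
      have ht : 2 ≤ t := by
        by_contra ht
        push Not at ht
        interval_cases t <;> simp at hq2
      have e : t ^ 3 - 1 = t * (t ^ 2 - 1) + (t - 1) := by
        have h4 : 4 ≤ t ^ 2 := le_trans (by norm_num) (Nat.pow_le_pow_left ht 2)
        have h5 : t * (t ^ 2 - 1) = t ^ 3 - t := by rw [Nat.mul_sub, ← pow_succ', mul_one]
        have h6 : t ≤ t ^ 3 := Nat.le_self_pow (by norm_num) t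
        omega
      have hd2 : t ^ 2 - 1 ∣ t - 1 := by
        rw [e] at hdv
        exact (Nat.dvd_add_right (Dvd.intro_left _ rfl)).1 hdv
      have := Nat.le_of_dvd (by omega) hd2
      have : 2 * t ≤ t ^ 2 := by rw [pow_two]; exact Nat.mul_le_mul_right _ ht
      omega
  · exfalso
    have hh := hermLike_unitary hf
    rcases hc.similitude hh.sesq hh.nondeg hh.inv hh.herm hcH.1 with ⟨-, hid⟩ | ⟨s, hs, hdv, -⟩
    · exact hf.ne_refl (RingEquiv.ext hid)
    · rw [← hqd] at hs hdv
      obtain ⟨t, ht', rfl⟩ := exists_sq_of_sq_eq_cube hs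
      have ht : 3 ≤ t := by
        by_contra ht
        push Not at ht
        interval_cases t <;> omega
      have hle3 := Nat.le_of_dvd (by omega) hdv
      have h4 : 3 * t ^ 3 ≤ t ^ 4 := by
        rw [pow_succ t 3, mul_comm]; exact Nat.mul_le_mul_left _ ht
      have hqq : q ^ 2 = t ^ 4 := by rw [ht', ← pow_mul]
      have : 9 ≤ t ^ 2 := le_trans (by norm_num) (Nat.pow_le_pow_left ht 2)
      omega
  · exfalso
    obtain ⟨p, hp, -, hc'⟩ := residual_cases hres hH hR
    obtain ⟨hL, hA⟩ := residual_dvd hH ((Subgroup.zpowers_le).2 hcH)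
    rw [hc.card_zpowers, ← hqd] at hL hA
    have hodd : Odd (q ^ 2 + q + 1) := hc.odd
    rcases hc' with ⟨⟨S⟩, hcard, h11, -⟩ | ⟨⟨S⟩, h'⟩
    · have hcop : Nat.Coprime (q ^ 2 + q + 1) 16 :=
        Nat.Coprime.pow_right 4 (Nat.coprime_two_right.2 hodd)
      have h63 : q ^ 2 + q + 1 ∣ 63 := hcop.dvd_of_dvd_mul_left (hL S)
      have := Nat.le_of_dvd (by norm_num) h63
      rw [← hqd] at hcard
      nlinarith
    · have hcop : Nat.Coprime (q ^ 2 + q + 1) 32 :=
        Nat.Coprime.pow_right 5 (Nat.coprime_two_right.2 hodd)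
      have h135 : q ^ 2 + q + 1 ∣ 135 := hcop.dvd_of_dvd_mul_left (hA S)
      have := Nat.le_of_dvd (by norm_num) h135
      rw [← hqd] at h'
      rcases h' with ⟨hcard, h16, -⟩ | ⟨hcard, rfl | h7⟩
      · nlinarith
      · omega
      · nlinarith

/-- Maximality of the standard subfield group. -/
theorem subfield_maximal_std (hres : LinearResidual F) {F₀ : Subfield F} {r : ℕ} (hr : r.Prime)
    (hcard : Fintype.card F = Nat.card F₀ ^ r) :
    Cfsg.Geo.IsMaximalIn SL₃ (Cfsg.Geo.subfieldSubgroup F₀ (1 : GL (Fin 3) F) ⊓ SL₃) := by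
  classical
  obtain ⟨h1, h2, htop, hnp⟩ := subfield_facts hr hcard
  haveI : Finite F₀ := Subtype.finite
  have hU2 : 4 ≤ Nat.card F₀ ^ 2 := le_trans (by norm_num) (Nat.pow_le_pow_left h1 2)
  refine isMaximalIn_of_forall (lt_of_le_of_ne inf_le_right fun heq => ?_) fun H hH hle => ?_
  · refine htop (top_le_iff.1 (le_subfield_of_elementary (P := 1) fun a _ => ?_))
    exact ((le_of_eq heq.symm) (tv_mem_specialLinear _ _)).1
  have hel : ∀ i j : Fin 3, i ≠ j → tv (Pi.single i (1 : F)) (Pi.single j 1) ∈ H := fun i j hij => by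
    have := hle (elementary_mem_subfield F₀ hij F₀.one_mem)
    rwa [one_smul] at this
  have hU := (upperGroup_le F₀).trans hle
  rcases Cfsg.Agent.S5775.result H hH with ⟨W, hW0, hW1, rfl⟩ | ⟨-, D, hD, rfl⟩ | ⟨-, K, hK, rfl⟩ |
    ⟨F₁, r₁, P, hr₁, hcard₁, rfl⟩ | ⟨p, R, hp, hcard₁, hp3, hR, rfl⟩ | ⟨hodd, Q, hQ, rfl⟩ |
    ⟨σ, f, hf, rfl⟩ | hR
  · exact absurd (elementary_irreducible (fun i j hij => (hel i j hij).1) hW0) hW1
  · exfalso
    have h := monomial_unipotent hD (hU.trans inf_le_left) (upperGroup_unipotent _)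
    rw [card_upperGroup] at h
    have := Nat.le_of_dvd (by norm_num) h
    have : Nat.card F₀ = 2 := by nlinarith
    rw [this] at h
    norm_num at h
  · exfalso
    have h := field_unipotent hK (hU.trans inf_le_left) (upperGroup_unipotent _)
    rw [card_upperGroup] at h
    have := Nat.le_of_dvd (by norm_num) h
    omega
  · have hsub : F₀ ≤ F₁ := le_subfield_of_elementary fun a ha =>
      (hle (elementary_mem_subfield F₀ (by decide) ha)).1
    have heq : F₀ = F₁ := by
      by_contra hne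
      exact (subfield_facts hr₁ hcard₁).2.2.1
        (Rational.subfield_eq_top_of_lt hr hcard (lt_of_le_of_ne hsub hne))
    subst heq
    exact eq_of_le_of_card hle (by rw [subfieldSubgroup_map F₀ P, card_map_inf])
  · exact absurd (hcard₁ ▸ hp) hnp
  · exfalso
    exact no_transvection_quad (two_ne_zero_of_odd hodd) hQ (by simp) (by simp) (by simp)
      (hel 0 1 (by decide)).1
  · exfalso
    have hh := hermLike_unitary hf
    have hind : LinearIndependent F ![(Pi.single 1 1 : Fin 3 → F), Pi.single 2 1] := by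
      rw [LinearIndependent.pair_iff]
      intro s t h
      exact ⟨by simpa using congrFun h 1, by simpa using congrFun h 2⟩
    exact no_two_axes hh.sesq hh.nondeg (v := Pi.single 0 1) (by simp) hind (by simp) (by simp)
      (hel 0 1 (by decide)).1 (hel 0 2 (by decide)).1
  · exfalso
    obtain ⟨p, hp, hchar, hc⟩ := residual_cases hres hH hR
    rcases hc with ⟨-, hc, -⟩ | ⟨⟨S⟩, h'⟩
    · exact hnp (hc ▸ hp)
    rcases h' with ⟨hc, -⟩ | ⟨hc, hp'⟩
    · exact hnp (hc ▸ hp)
    obtain ⟨k, -, hk⟩ := (Nat.dvd_prime_pow hp).1 (show Nat.card F₀ ∣ p ^ 2 by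
      rw [← hc, hcard]; exact dvd_pow_self _ hr.ne_zero)
    have hkr : 2 = k * r := Nat.pow_right_injective hp.two_le (show p ^ 2 = p ^ (k * r) by
      rw [← hc, pow_mul, ← hk]; exact hcard)
    have hk1 : k = 1 := by
      have := hr.two_le
      rcases Nat.lt_or_ge k 2 with h | h
      · interval_cases k <;> omega
      · nlinarith
    rw [hk1, pow_one] at hk
    have h12 := dvd_of_sq_dvd_4320 (show p ^ 2 ∣ 4320 by
      have := (residual_dvd hH hU).2 S
      rwa [card_upperGroup, hk] at this)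
    rcases hp' with rfl | h7
    · haveI := hchar
      have := (residual_dvd hH ((Subgroup.zpowers_le).2 (hle (seven_mem F₀)))).2 S
      rw [Nat.card_zpowers, seven_order] at this
      norm_num at this
    · have := Nat.le_of_dvd (by norm_num) h12
      interval_cases p <;> first | omega | exact absurd hp (by norm_num) | exact absurd h12 (by decide)

/-- Maximality of the standard orthogonal group. -/
theorem orthogonal_maximal_std (hres : LinearResidual F) (hodd : Odd (Fintype.card F)) :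
    Cfsg.Geo.IsMaximalIn SL₃ (Cfsg.Geo.quadSimilarityGroup (stdQuad F) ⊓ SL₃) := by
  classical
  have h2 := two_ne_zero_of_odd hodd
  set q := Fintype.card F with hqd
  have hQ := stdQuad_nondegenerate (F := F) h2
  have hh := hermLike_polar hQ
  have htopcard : Nat.card (⊤ : Subfield F) = q := by
    rw [hqd, ← Nat.card_eq_fintype_card]; exact Nat.card_congr Subfield.topEquiv.toEquiv
  obtain ⟨p, hchar⟩ := CharP.exists F
  haveI hpf : Fact p.Prime := ⟨CharP.char_is_prime F p⟩
  have mk : ∀ u : Fin 3 → F, u ≠ 0 → QuadraticMap.polar (stdQuad F) u u = 0 →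
      QuadraticMap.polar (stdQuad F) (Pi.single 1 1) u = 0 →
      RootData (RingHom.id F) (QuadraticMap.polar (stdQuad F)) (⊤ : Subfield F) u (Pi.single 1 1) :=
    fun u hu huu hwu =>
    { toHermLike := hh
      stable := fun x _ => Subfield.mem_top _
      trace_ne := ⟨1, Subfield.mem_top _, by simpa [one_add_one_eq_two] using h2⟩
      rat := fun x y _ _ => Subfield.mem_top _
      u_rat := fun i => Subfield.mem_top _
      w_rat := fun i => Subfield.mem_top _
      u_ne := hu
      iso := huu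
      orth := hwu
      aniso := by simp [polar_stdQuad, h2] }
  have D := mk (Pi.single 0 1) (by simp) (by simp [polar_stdQuad]) (by simp [polar_stdQuad])
  have D' := mk (Pi.single 2 1) (by simp) (by simp [polar_stdQuad]) (by simp [polar_stdQuad])
  have hmem : ∀ {u w : Fin 3 → F}
      (E : RootData (RingHom.id F) (QuadraticMap.polar (stdQuad F)) (⊤ : Subfield F) u w),
      E.group ≤ Cfsg.Geo.quadSimilarityGroup (stdQuad F) ⊓ SL₃ := by
    intro u w E g hg
    refine ⟨⟨1, fun x => ?_⟩, E.group_le_specialLinear hg⟩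
    have h := E.group_isometry g hg x x
    rw [polar_stdQuad, polar_stdQuad] at h
    rw [Units.val_one, one_mul]
    apply mul_left_cancel₀ h2
    simp only [stdQuad]
    linear_combination h
  have hcardT : q ≤ Nat.card D.group := htopcard ▸ D.card_group_ge
  have hq3 : 3 ≤ q := by
    have := Fintype.one_lt_card (α := F)
    rcases hodd with ⟨k, hk⟩
    omega
  refine isMaximalIn_of_forall (lt_of_le_of_ne inf_le_right fun heq => ?_) fun H hH hle => ?_
  · exact no_transvection_quad h2 hQ (v := Pi.single 0 1) (φ := Pi.single 1 1) (by simp) (by simp) (by simp)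
      (heq.symm.le (tv_mem_specialLinear _ _)).1
  have hD := (hmem D).trans hle
  have hD' := (hmem D').trans hle
  rcases Cfsg.Agent.S5775.result H hH with ⟨W, hW0, hW1, rfl⟩ | ⟨hq5, E, hE, rfl⟩ | ⟨-, K, hK, rfl⟩ |
    ⟨F₀, r, P, hr, hcard, rfl⟩ | ⟨p₁, R, hp, hcard, hp3, hR, rfl⟩ | ⟨-, Q, hQ', rfl⟩ |
    ⟨σ, f, hf, rfl⟩ | hR
  · exact absurd (D.irreducible D' (by simp [polar_stdQuad]) (hD.trans inf_le_left) (hD'.trans inf_le_left) hW0) hW1
  · exfalso
    have h := monomial_unipotent hE (hD.trans inf_le_left) D.group_unipotent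
    obtain ⟨k, hk⟩ := IsPGroup.iff_card.1 (D.group_isPGroup p)
    have := Nat.le_of_dvd (by norm_num) h
    have h6 : Nat.card D.group = 6 := by
      have h0 : Nat.card D.group ∈ Nat.divisors 6 := Nat.mem_divisors.2 ⟨h, by norm_num⟩
      rw [show Nat.divisors 6 = {1, 2, 3, 6} by decide] at h0
      simp only [Finset.mem_insert, Finset.mem_singleton] at h0
      omega
    rw [h6] at hk
    have h2d : 2 ∣ p ^ k := hk ▸ (by norm_num)
    have h3d : 3 ∣ p ^ k := hk ▸ (by norm_num)
    have e2 := (Nat.prime_dvd_prime_iff_eq Nat.prime_two hpf.out).1 (Nat.prime_two.dvd_of_dvd_pow h2d)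
    have e3 := (Nat.prime_dvd_prime_iff_eq Nat.prime_three hpf.out).1 (Nat.prime_three.dvd_of_dvd_pow h3d)
    omega
  · exfalso
    set v : Fin 3 → Fˣ := ![-1, 1, -1]
    have hs : dg v ∈ Cfsg.Geo.quadSimilarityGroup (stdQuad F) ⊓ SL₃ := by
      refine ⟨⟨1, fun x => ?_⟩, mem_specialLinear.2 ?_⟩
      · rw [dg_mulVec]; simp [v, stdQuad]
      · rw [dg_det]; simp [v]
    have h3 := field_cube hK (hle hs).1
    have e : dg v ^ 3 = dg v := by
      rw [dg_pow]; congr 1; funext i; fin_cases i <;> simp [v, pow_succ]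
    rw [← Units.val_pow_eq_pow_val, e] at h3
    have hv : (dg v).val *ᵥ Pi.single 1 1 = Pi.single 1 1 := by
      rw [dg_mulVec]; funext i; fin_cases i <;> simp [v]
    have hM1 : (dg v).val = 1 := by
      by_contra hne
      obtain ⟨y, hy, hxy⟩ := hK.inv _ (K.sub_mem h3 K.one_mem) (sub_ne_zero.2 hne)
      rw [hK.comm _ (K.sub_mem h3 K.one_mem) _ hy] at hxy
      have := congrArg (· *ᵥ (Pi.single 1 1 : Fin 3 → F)) hxy
      simp only [← Matrix.mulVec_mulVec, Matrix.sub_mulVec, hv, Matrix.one_mulVec, sub_self,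
        Matrix.mulVec_zero] at this
      simpa using congrFun this 1
    have := congrFun (congrFun hM1 0) 0
    rw [dg_val] at this
    simp [v] at this
    exact h2 (by linear_combination -this)
  · exfalso
    exact (subfield_facts hr hcard).2.2.1 (top_le_iff.1 (D.le_subfield (hD.trans inf_le_left)))
  · exfalso
    obtain ⟨hE, -⟩ := extra27_of_data hR
    have hpp : p₁ = p := by
      have h0 : (p₁ : F) = 0 := by rw [← hcard]; exact FiniteField.cast_card_eq_zero F
      exact ((Nat.prime_dvd_prime_iff_eq hpf.out hp).1 ((CharP.cast_eq_zero_iff F p p₁).1 h0)).symm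
    have h5 : 5 ≤ p₁ := by
      have := hp.two_le
      by_contra hlt
      push Not at hlt
      interval_cases p₁ <;> first | omega | exact absurd hp (by norm_num)
    obtain ⟨γ, -, hp', hg⟩ := D.exists_param (Subfield.mem_top (1 : F))
    set g := rootEl (QuadraticMap.polar (stdQuad F)) (Pi.single 0 1) ((1 : F) • Pi.single 1 1) γ
    have hgp : g ^ p₁ = 1 := by
      apply Units.ext
      rw [Units.val_pow_eq_pow_val, Units.val_one, ← sub_eq_zero]
      have hc : (g.val - 1) ^ p₁ = g.val ^ p₁ - 1 := by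
        subst hpp
        haveI : CharP (Matrix (Fin 3) (Fin 3) F) p₁ := Matrix.charP p₁
        rw [sub_pow_char_of_commute _ (Commute.one_right _), one_pow]
      rw [← hc, ← Nat.sub_add_cancel (show 3 ≤ p₁ by omega), pow_add, D.group_unipotent g hg, mul_zero]
    obtain ⟨c, hc⟩ := (Cfsg.Geo.mem_scalars_iff _).1 (hE.prime_scalar (hD hg).1 hp h5 hgp)
    have hu := D.group_unipotent g hg
    rw [hc] at hu
    have hc1 : (c : F) = 1 := by
      have := congrFun (congrFun hu 0) 0
      rw [show ((c : F) • (1 : Matrix (Fin 3) (Fin 3) F)) - 1 = ((c : F) - 1) • 1 by rw [sub_smul, one_smul],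
        smul_pow, one_pow] at this
      simpa [sub_eq_zero] using this
    obtain ⟨x, hx⟩ := (hh.nondeg _ D.u_ne).1
    have e := D.toHermLike.root_sub_one D.iso hp'.orth γ x
    rw [hc, hc1, one_smul, sub_self, Matrix.zero_mulVec] at e
    have e' := congrArg (fun z => QuadraticMap.polar (stdQuad F) z (Pi.single 1 1)) e
    simp only [hh.sesq.add_left, hh.sesq.smul_left, hh.sesq.zero_left, D.toHermLike.eq_zero_comm D.orth,
      mul_zero, add_zero, one_mul] at e'
    exact mul_ne_zero hx D.aniso e'.symm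
  · obtain ⟨P, d, hd, hP⟩ := exists_stdQuad h2 hQ'
    exact eq_of_le_of_card hle (by rw [quadSimilarity_eq_map hd hP, card_map_inf])
  · exact absurd (hD.trans inf_le_left) (D.no_hermitian (fun _ => rfl) (fun x => Subfield.mem_top x) hf)
  · exfalso
    obtain ⟨p₁, hp, hchar₁, hc⟩ := residual_cases hres hH hR
    obtain rfl : p₁ = p := CharP.eq F hchar₁ hchar
    obtain ⟨hL, hA⟩ := residual_dvd hH hD
    have hpn : ∀ N, ¬ p₁ ∣ N → ¬ Nat.card D.group ∣ N := fun N hN =>
      pgroup_not_dvd hp (D.group_isPGroup p₁) (by omega) hN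
    have hdiv : ∀ {N : ℕ}, (N = 1008 ∨ N = 4320) → p₁ ∣ N → p₁ ∈ ({2, 3, 5, 7} : Finset ℕ) := by
      intro N hN hd
      have hd' : p₁ ∣ 2 ^ 5 * 3 ^ 3 * 5 * 7 := hd.trans (by rcases hN with rfl | rfl <;> norm_num)
      simp only [Finset.mem_insert, Finset.mem_singleton]
      rcases (Nat.Prime.dvd_mul hp).1 hd' with h | h
      rcases (Nat.Prime.dvd_mul hp).1 h with h | h
      rcases (Nat.Prime.dvd_mul hp).1 h with h | h
      · exact Or.inl ((Nat.prime_dvd_prime_iff_eq hp Nat.prime_two).1 (hp.dvd_of_dvd_pow h))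
      · exact Or.inr (Or.inl ((Nat.prime_dvd_prime_iff_eq hp Nat.prime_three).1 (hp.dvd_of_dvd_pow h)))
      · exact Or.inr (Or.inr (Or.inl ((Nat.prime_dvd_prime_iff_eq hp (by norm_num)).1 h)))
      · exact Or.inr (Or.inr (Or.inr ((Nat.prime_dvd_prime_iff_eq hp (by norm_num)).1 h)))
    rcases hc with ⟨⟨S⟩, -, h11, -⟩ | ⟨⟨S⟩, h'⟩
    · exact hpn _ (fun hd => by have := hdiv (Or.inl rfl) hd; simp at this; omega) (hL S)
    · refine hpn _ (fun hd => ?_) (hA S)
      have := hdiv (Or.inr rfl) hd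
      simp at this
      rw [← hqd] at h'
      rcases h' with ⟨-, h16, -⟩ | ⟨hcq, rfl | h7⟩
      · omega
      · rw [hcq] at hodd; norm_num at hodd
      · rcases this with rfl | rfl | rfl | rfl <;> omega

/-- Maximality of the normaliser of a group of order 27. -/
theorem symplecticType_maximal (hres : LinearResidual F) {p : ℕ} {R : Subgroup (GL (Fin 3) F)} (hp : p.Prime)
    (hcard : Fintype.card F = p) (hp3 : p % 3 = 1) (hR : Cfsg.Geo.IsLinearSymplecticTypeData 3 R) :
    Cfsg.Geo.IsMaximalIn SL₃ (Cfsg.Geo.subgroupNormalizer R ⊓ SL₃) := by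
  classical
  obtain ⟨hE, hexp⟩ := extra27_of_data hR
  obtain ⟨u, hu, P, hP⟩ := hE.normal_form hexp
  have hp7 : 7 ≤ p := by
    have := hp.two_le
    by_contra hlt
    push Not at hlt
    interval_cases p <;> first | omega | exact absurd hp (by norm_num)
  haveI hchar : CharP F p := by
    obtain ⟨p', hc'⟩ := CharP.exists F
    have hp' := CharP.char_is_prime F p'
    have h0 : (p : F) = 0 := by rw [← hcard]; exact FiniteField.cast_card_eq_zero F
    rwa [← (Nat.prime_dvd_prime_iff_eq hp' hp).1 ((CharP.cast_eq_zero_iff F p' p).1 h0)]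
  have hnum : ∀ k : ℕ, 0 < k → k < p → (k : F) ≠ 0 := fun k hk hkp h0 => by
    have := Nat.le_of_dvd hk ((CharP.cast_eq_zero_iff F p k).1 h0)
    omega
  have hC := c6_witness hu P
  rw [← hP] at hC
  refine isMaximalIn_of_forall (lt_of_le_of_ne inf_le_right fun heq => ?_) fun H hH hle => ?_
  · have hd : (Pi.single 1 1 : Fin 3 → F) ⬝ᵥ Pi.single 0 1 = 0 := by simp
    set g := tv (Pi.single 0 1 : Fin 3 → F) (Pi.single 1 1)
    have hg1 : g.val - 1 = vecMulVec (Pi.single 0 1 : Fin 3 → F) (Pi.single 1 1) := by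
      rw [tv_val hd, add_sub_cancel_left]
    have hgp : g ^ p = 1 := by
      apply Units.ext
      rw [Units.val_pow_eq_pow_val, Units.val_one, ← sub_eq_zero]
      have hc : (g.val - 1) ^ p = g.val ^ p - 1 := by
        haveI : Fact p.Prime := ⟨hp⟩
        haveI : CharP (Matrix (Fin 3) (Fin 3) F) p := Matrix.charP p
        rw [sub_pow_char_of_commute _ (Commute.one_right _), one_pow]
      rw [← hc, ← Nat.sub_add_cancel (show 2 ≤ p by omega), pow_add, hg1, pow_two, vecMulVec_mul_vecMulVec, hd,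
        zero_smul]
      simp
    obtain ⟨c, hc⟩ := (Cfsg.Geo.mem_scalars_iff _).1 (hE.prime_scalar
      (heq.symm.le (tv_mem_specialLinear _ _)).1 hp (by omega) hgp)
    have := congrFun (congrFun hc 0) 1
    rw [tv_val hd] at this
    simp [vecMulVec_apply] at this
  have hCH := hC.mono hle
  rcases Cfsg.Agent.S5775.result H hH with ⟨W, hW0, hW1, rfl⟩ | ⟨-, D, hD, rfl⟩ | ⟨-, K, hK, rfl⟩ |
    ⟨F₀, r, Q, hr, hcard₁, rfl⟩ | ⟨p₁, R₁, hp₁, -, -, hR₁, rfl⟩ | ⟨hodd, Q, hQ, rfl⟩ |
    ⟨σ, f, hf, rfl⟩ | hres'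
  · exact absurd ((hCH.mono inf_le_left).irreducible le_rfl hW0) hW1
  · exact absurd le_rfl ((hCH.mono inf_le_left).not_monomial hD)
  · exact absurd le_rfl ((hCH.mono inf_le_left).not_field hK)
  · exact absurd (hcard ▸ hp) (subfield_facts hr hcard₁).2.2.2
  · obtain ⟨hE₁, hexp₁⟩ := extra27_of_data hR₁
    obtain ⟨v, hv, P₁, hP₁⟩ := hE₁.normal_form hexp₁
    refine eq_of_le_of_card hle ?_
    rw [hP₁, hP, normalizer_map, normalizer_map, card_map_inf, card_map_inf, heis_eq hu hv]
  · exfalso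
    have hf := hermLike_polar hQ
    refine hCH.not_similarity hf.sesq hf.nondeg (fun h => hu.sq_ne (by rw [pow_two]; exact h)) ?_
    intro g hg
    obtain ⟨c, hc⟩ := hg.1
    refine ⟨c, fun x y => ?_⟩
    simp only [QuadraticMap.polar, ← Matrix.mulVec_add, hc]
    ring
  · exfalso
    rcases finite_involution (σ : F →+* F) hf.involutive with h1 | ⟨s, hs, -⟩
    · exact hf.ne_refl (RingEquiv.ext h1)
    · rw [Nat.card_eq_fintype_card, hcard] at hs
      rw [← hs, ← pow_two] at hp
      exact Nat.Prime.not_prime_pow le_rfl hp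
  · exfalso
    obtain ⟨p₁, hp₁, -, hc⟩ := residual_cases hres hH hres'
    rcases hc with ⟨⟨S⟩, -⟩ | ⟨⟨S⟩, -⟩
    · have hRH : R ≤ H := (le_inf Subgroup.le_normalizer (hE.primeType hexp).le_sl).trans hle
      have h27 := (residual_dvd hH hRH).1 S
      rw [hE.card] at h27
      norm_num at h27
    · exact hCH.not_alt_six hH.1.le (by exact_mod_cast hnum 5 (by norm_num) (by omega)) S

/-- The seven clauses, given the residual socles. -/
theorem linear_clauses (hres : LinearResidual F) :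
    (∀ W : Submodule F (Fin 3 → F), W ≠ ⊥ → W ≠ ⊤ → Cfsg.Geo.IsMaximalIn SL₃ (Cfsg.Geo.subspaceStabilizer W ⊓ SL₃)) ∧
    (5 ≤ Fintype.card F → ∀ D : Fin 3 → Submodule F (Fin 3 → F), Cfsg.Geo.IsMDecomposition 1 D →
      Cfsg.Geo.IsMaximalIn SL₃ (Cfsg.Geo.decompositionStabilizer D ⊓ SL₃)) ∧
    (Fintype.card F ≠ 4 → ∀ K : Subalgebra F (Matrix (Fin 3) (Fin 3) F), Cfsg.Geo.IsFieldSubalgebra 3 K →
      Cfsg.Geo.IsMaximalIn SL₃ (Cfsg.Geo.subalgebraNormalizer K ⊓ SL₃)) ∧
    (∀ (F₀ : Subfield F) (r : ℕ) (P : GL (Fin 3) F), r.Prime → Fintype.card F = Nat.card F₀ ^ r →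
      Cfsg.Geo.IsMaximalIn SL₃ (Cfsg.Geo.subfieldSubgroup F₀ P ⊓ SL₃)) ∧
    (∀ (p : ℕ) (R : Subgroup (GL (Fin 3) F)), p.Prime → Fintype.card F = p → p % 3 = 1 →
      Cfsg.Geo.IsLinearSymplecticTypeData 3 R →
      Cfsg.Geo.IsMaximalIn SL₃ (Cfsg.Geo.subgroupNormalizer R ⊓ SL₃)) ∧
    (Odd (Fintype.card F) → ∀ Q : (Fin 3 → F) → F, Cfsg.Geo.IsNondegenerateQuadraticForm Q →
      Cfsg.Geo.IsMaximalIn SL₃ (Cfsg.Geo.quadSimilarityGroup Q ⊓ SL₃)) := by
  refine ⟨fun W h0 h1 => MaxLinear.SubspaceCase.maximal_subspace 3 W h0 h1, fun hq D hD => ?_,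
    fun hq K hK => field_maximal hres hq hK,
    fun F₀ r P hr hcard => maximal_of_std (subfieldSubgroup_map F₀ P) (subfield_maximal_std hres hr hcard),
    fun p R hp hcard hp3 hR => symplecticType_maximal hres hp hcard hp3 hR, fun hodd Q hQ => ?_⟩
  · obtain ⟨P, hP⟩ := exists_axes_map hD
    exact maximal_of_std hP (monomial_maximal hres hq)
  · obtain ⟨P, d, hd, hP⟩ := exists_stdQuad (two_ne_zero_of_odd hodd) hQ
    exact maximal_of_std (quadSimilarity_eq_map hd hP) (orthogonal_maximal_std hres hodd)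

end CfsgLib.DimThreeMax
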