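import Cfsg.Agent.Lib.DimThreeMax.Torus
import Cfsg.Agent.Lib.Geo.AschForms

/-!
Consequences of membership in a subfield group in dimension three.
-/

set_option autoImplicit false

namespace CfsgLib.DimThreeMax

open Matrix GeomClasses
open scoped MatrixGroups

variable {F : Type*} [Field F] {F₀ : Subfield F} {P : GL (Fin 3) F}

/-- A matrix with entries in `F₀` in the basis given by `P`. -/
def IsRat (F₀ : Subfield F) (P : GL (Fin 3) F) (M : Matrix (Fin 3) (Fin 3) F) : Prop :=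
  ∀ i j, ((P⁻¹ : GL (Fin 3) F).val * M * P.val) i j ∈ F₀

theorem IsRat.mul {A B : Matrix (Fin 3) (Fin 3) F} (hA : IsRat F₀ P A) (hB : IsRat F₀ P B) :
    IsRat F₀ P (A * B) := by
  intro i j
  have e : (P⁻¹ : GL (Fin 3) F).val * (A * B) * P.val =
      ((P⁻¹ : GL (Fin 3) F).val * A * P.val) * ((P⁻¹ : GL (Fin 3) F).val * B * P.val) := by
    have h : P.val * (P⁻¹ : GL (Fin 3) F).val = 1 := Units.mul_inv P
    calc _ = (P⁻¹ : GL (Fin 3) F).val * A * 1 * B * P.val := by rw [mul_one]; simp only [mul_assoc]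
      _ = _ := by rw [← h]; simp only [mul_assoc]
  rw [e, Matrix.mul_apply]
  exact F₀.sum_mem fun k _ => F₀.mul_mem (hA i k) (hB k j)

theorem IsRat.ratio {A : Matrix (Fin 3) (Fin 3) F} (hA : IsRat F₀ P A) {a : F} (haA : IsRat F₀ P (a • A))
    (h0 : A ≠ 0) : a ∈ F₀ := by
  obtain ⟨i, j, hij⟩ : ∃ i j, ((P⁻¹ : GL (Fin 3) F).val * A * P.val) i j ≠ 0 := by
    by_contra hc
    push Not at hc
    apply h0
    have h : (P⁻¹ : GL (Fin 3) F).val * A * P.val = 0 := by ext i j; simpa using hc i j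
    have := congrArg (fun M => P.val * M * (P⁻¹ : GL (Fin 3) F).val) h
    have h' : P.val * (P⁻¹ : GL (Fin 3) F).val = 1 := Units.mul_inv P
    simp only [mul_zero, zero_mul] at this
    rwa [← mul_assoc, ← mul_assoc, h', one_mul, mul_assoc, h', mul_one] at this
  have h := haA i j
  rw [Matrix.mul_smul, Matrix.smul_mul, Matrix.smul_apply, smul_eq_mul] at h
  have := F₀.div_mem h (hA i j)
  rwa [mul_div_assoc, div_self hij, mul_one] at this

/-- Unipotent elements of a subfield group are rational, without a scalar factor. -/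
theorem unipotent_rat [Finite F] {g : GL (Fin 3) F} (hg : g ∈ Cfsg.Geo.subfieldSubgroup F₀ P)
    (hu : (g.val - 1) ^ 3 = 0) : IsRat F₀ P (g.val - 1) := by
  obtain ⟨X, c, hX⟩ := mem_subfieldSubgroup hg
  have hcp : g.val.charpoly = (Polynomial.X - Polynomial.C 1) ^ 3 := by
    have h : ((g.val - 1).charpoly) = Polynomial.X ^ 3 := by
      have := Matrix.isNilpotent_charpoly_sub_pow_of_isNilpotent ⟨3, hu⟩
      rw [Fintype.card_fin] at this
      exact sub_eq_zero.1 (IsNilpotent.eq_zero this)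
    have h2 := Matrix.charpoly_sub_scalar g.val 1
    rw [map_one] at h2
    rw [h2] at h
    have h3 := congrArg (fun p => Polynomial.comp p (Polynomial.X - Polynomial.C 1)) h
    simpa [Polynomial.comp_assoc] using h3
  have hc : (c : F) ∈ F₀ := by
    have hcoef := fun k => charpoly_scalar_rat (X : Matrix (Fin 3) (Fin 3) F₀) c.ne_zero k
    rw [← hX, Units.val_mul, Units.val_mul, Matrix.coe_units_inv, Matrix.charpoly_units_conj', hcp] at hcoef
    set m := fun k => (((X : Matrix (Fin 3) (Fin 3) F₀).charpoly.coeff k : F₀) : F) with hm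
    have e : (Polynomial.X - Polynomial.C (1 : F)) ^ 3 =
        Polynomial.X ^ 3 - Polynomial.C 3 * Polynomial.X ^ 2 + Polynomial.C 3 * Polynomial.X - 1 := by
      rw [show (Polynomial.C (3 : F)) = 3 from rfl, map_one]; ring
    rw [e] at hcoef
    have e0 : (-1 : F) = (c : F) ^ 3 * m 0 := by simpa [Polynomial.coeff_one, hm] using hcoef 0
    have hm0 : m 0 ≠ 0 := fun h0 => by rw [h0, mul_zero] at e0; exact one_ne_zero (neg_eq_zero.1 e0)
    have hc3 : (c : F) ^ 3 ∈ F₀ := by
      rw [show (c : F) ^ 3 = -1 / m 0 by rw [e0, mul_div_assoc, div_self hm0, mul_one]]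
      exact F₀.div_mem (F₀.neg_mem F₀.one_mem) (SetLike.coe_mem _)
    by_cases h3 : (3 : F) = 0
    · obtain ⟨p, hchar⟩ := CharP.exists F
      have hp3 : p = 3 := by
        have : p ∣ 3 := (CharP.cast_eq_zero_iff F p 3).1 (by simpa using h3)
        exact ((Nat.dvd_prime Nat.prime_three).1 this).resolve_left (CharP.char_ne_one F p)
      subst hp3
      haveI : Fact (Nat.Prime 3) := ⟨Nat.prime_three⟩
      haveI : CharP F₀ 3 := (F₀.subtype).charP F₀.subtype.injective 3
      haveI : Finite F₀ := Subtype.finite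
      obtain ⟨d, hd⟩ := (bijective_frobenius F₀ 3).2 ⟨(c : F) ^ 3, hc3⟩
      have hd' : ((d : F)) ^ 3 = (c : F) ^ 3 := by
        have := congrArg Subtype.val hd
        simpa [frobenius_def] using this
      have : ((d : F) - c) ^ 3 = 0 := by rw [sub_pow_char, hd', sub_self]
      rw [← sub_eq_zero.1 (pow_eq_zero_iff (by norm_num) |>.1 this)]
      exact d.2
    · have e2 : (-3 : F) * (c : F) ^ 2 = (c : F) ^ 3 * m 2 := by
        simpa [Polynomial.coeff_one, Polynomial.coeff_X, hm] using hcoef 2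
      have h2 : (c : F) * m 2 = -3 := by
        apply mul_left_cancel₀ (pow_ne_zero 2 c.ne_zero)
        linear_combination -e2
      have hm2 : m 2 ≠ 0 := fun h0 => by rw [h0, mul_zero] at h2; exact h3 (neg_eq_zero.1 h2.symm)
      rw [show (c : F) = -3 / m 2 by rw [← h2, mul_div_assoc, div_self hm2, mul_one]]
      exact F₀.div_mem (F₀.neg_mem (ofNat_mem F₀ 3)) (SetLike.coe_mem _)
  intro i j
  rw [mul_sub, sub_mul, mul_one, Units.inv_mul, Matrix.sub_apply, ← Units.val_mul, ← Units.val_mul, hX]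
  refine F₀.sub_mem (F₀.mul_mem hc (SetLike.coe_mem _)) ?_
  by_cases hij : i = j
  · subst hij; simp [F₀.one_mem]
  · simp [Matrix.one_apply_ne hij]

/-- No transvection with skew coefficient lies in a subfield group over the fixed field whose rational structure
carries the form. -/
theorem no_skew_transvection [Finite F] (h2 : (2 : F) ≠ 0) {σ : F ≃+* F} {f : (Fin 3 → F) → (Fin 3 → F) → F}
    (hf : Cfsg.Geo.IsUnitaryForm σ f) (hfix : ∀ x ∈ F₀, σ x = x)
    (hrat : Cfsg.Geo.IsFormRationalStructure f F₀ 1 P) {g : GL (Fin 3) F} {v : Fin 3 → F} {l : F}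
    (hv : v ≠ 0) (hvv : f v v = 0) (hl : l + σ l = 0) (hl0 : l ≠ 0)
    (hg : ∀ x, g.val *ᵥ x = x + (l * f x v) • v) : g ∉ Cfsg.Geo.subfieldSubgroup F₀ P := by
  intro hmem
  have hs := CfsgLib.Geo.Asch.unitary_isSesq hf
  have hgv : g.val *ᵥ v = v := by rw [hg, hvv, mul_zero, zero_smul, add_zero]
  have hN1 : ∀ x, (g.val - 1) *ᵥ x = (l * f x v) • v := fun x => by
    rw [Matrix.sub_mulVec, hg, Matrix.one_mulVec, add_sub_cancel_left]
  have hu : (g.val - 1) ^ 3 = 0 := by
    refine Matrix.ext_of_mulVec_single fun i => ?_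
    rw [pow_succ, pow_two, ← Matrix.mulVec_mulVec, ← Matrix.mulVec_mulVec, hN1 (Pi.single i 1),
      Matrix.mulVec_smul, hN1 v, hvv, mul_zero, zero_smul, smul_zero, Matrix.mulVec_zero, Matrix.zero_mulVec]
  have hr := unipotent_rat hmem hu
  obtain ⟨y, hy⟩ := (hf.nondegenerate v hv).1
  have key : ∀ x : Fin 3 → F, (∀ i, x i ∈ F₀) → f (P.val *ᵥ x) v = 0 := by
    intro x hx
    set N := (P⁻¹ : GL (Fin 3) F).val * (g.val - 1) * P.val with hN
    have hNx : ∀ i, (N *ᵥ x) i ∈ F₀ := fun i => by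
      simp only [Matrix.mulVec, dotProduct]
      exact F₀.sum_mem fun k _ => F₀.mul_mem (hr i k) (hx k)
    have hP : P.val *ᵥ (N *ᵥ x) = (l * f (P.val *ᵥ x) v) • v := by
      rw [hN, Matrix.mulVec_mulVec, ← mul_assoc, ← mul_assoc, Units.mul_inv, one_mul, ← Matrix.mulVec_mulVec, hN1]
    have h1 := hrat _ x hNx hx
    rw [hP, one_mul, hs.smul_left, hf.herm v] at h1
    have h4 := hfix _ h1
    rw [map_mul, map_mul, hf.involutive] at h4
    have h5 : 2 * l * (f (P.val *ᵥ x) v * σ (f (P.val *ᵥ x) v)) = 0 := by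
      linear_combination -h4 + (σ (f (P.val *ᵥ x) v) * f (P.val *ᵥ x) v) * hl
    rcases mul_eq_zero.1 h5 with h | h
    · exact absurd h (mul_ne_zero h2 hl0)
    · rcases mul_eq_zero.1 h with h | h
      · exact h
      · simpa using h
  apply hy
  obtain ⟨z, rfl⟩ : ∃ z, y = P.val *ᵥ z := ⟨_, (gl_mulVec_inv_mulVec P y).symm⟩
  rw [pi_eq_sum_univ' z, Matrix.mulVec_sum, hs.sum_left]
  refine Finset.sum_eq_zero fun i _ => ?_
  rw [Matrix.mulVec_smul, hs.smul_left, key _ (fun k => ?_), mul_zero]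
  by_cases hk : k = i
  · subst hk; simp [F₀.one_mem]
  · simp [Pi.single_eq_of_ne hk]

/-- A diagonal element with one repeated eigenvalue in a subfield group has rational eigenvalue ratio. -/
theorem repeated_ratio (h2 : (2 : F) ≠ 0) {a b : Fˣ} (hab : a ≠ b)
    (hg : dg ![a, a, b] ∈ Cfsg.Geo.subfieldSubgroup F₀ P) : (a : F) / b ∈ F₀ := by
  obtain ⟨X, c, hX⟩ := mem_subfieldSubgroup hg
  have hcoef := fun k => charpoly_scalar_rat (X : Matrix (Fin 3) (Fin 3) F₀) c.ne_zero k
  rw [← hX, Units.val_mul, Units.val_mul, Matrix.coe_units_inv, Matrix.charpoly_units_conj'] at hcoef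
  have hcp : (dg ![a, a, b]).val.charpoly = Polynomial.X ^ 3 - Polynomial.C (2 * (a : F) + b) * Polynomial.X ^ 2 +
      Polynomial.C ((a : F) ^ 2 + 2 * a * b) * Polynomial.X - Polynomial.C ((a : F) ^ 2 * b) := by
    rw [dg_val, Matrix.charpoly_diagonal, Fin.prod_univ_three]
    simp [map_add, map_mul, map_ofNat]
    ring
  rw [hcp] at hcoef
  generalize ht : 2 * (a : F) + b = t at hcoef
  generalize hs : (a : F) ^ 2 + 2 * a * b = s at hcoef
  generalize hn : (a : F) ^ 2 * b = n at hcoef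
  have e0 : -n = (c : F) ^ 3 * (((X : Matrix (Fin 3) (Fin 3) F₀).charpoly.coeff 0 : F₀) : F) := by
    simpa [Polynomial.coeff_one] using hcoef 0
  have e1 : s * c = (c : F) ^ 3 * (((X : Matrix (Fin 3) (Fin 3) F₀).charpoly.coeff 1 : F₀) : F) := by
    simpa [Polynomial.coeff_one, Polynomial.coeff_X, Polynomial.coeff_C] using hcoef 1
  have e2 : -t * (c : F) ^ 2 = (c : F) ^ 3 * (((X : Matrix (Fin 3) (Fin 3) F₀).charpoly.coeff 2 : F₀) : F) := by
    simpa [Polynomial.coeff_one, Polynomial.coeff_X, Polynomial.coeff_C] using hcoef 2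
  set A : F := (a : F) / c with hA
  set B : F := (b : F) / c with hB
  have hc0 := c.ne_zero
  have ht' : 2 * A + B ∈ F₀ := by
    have : 2 * A + B = -(((X : Matrix (Fin 3) (Fin 3) F₀).charpoly.coeff 2 : F₀) : F) := by
      rw [hA, hB]; field_simp
      apply mul_left_cancel₀ (pow_ne_zero 2 hc0)
      linear_combination -e2 + (c : F) ^ 2 * ht
    rw [this]; exact F₀.neg_mem (SetLike.coe_mem _)
  have hs' : A ^ 2 + 2 * A * B ∈ F₀ := by
    have : A ^ 2 + 2 * A * B = (((X : Matrix (Fin 3) (Fin 3) F₀).charpoly.coeff 1 : F₀) : F) := by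
      rw [hA, hB]; field_simp
      apply mul_left_cancel₀ hc0
      linear_combination e1 + (c : F) * hs
    rw [this]; exact SetLike.coe_mem _
  have hn' : A ^ 2 * B ∈ F₀ := by
    have : A ^ 2 * B = -(((X : Matrix (Fin 3) (Fin 3) F₀).charpoly.coeff 0 : F₀) : F) := by
      rw [hA, hB]; field_simp
      linear_combination -e0 + hn
    rw [this]; exact F₀.neg_mem (SetLike.coe_mem _)
  have hne : A - B ≠ 0 := by
    rw [hA, hB, ← sub_div]
    exact div_ne_zero (sub_ne_zero.2 fun e => hab (Units.ext e)) hc0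
  have hAF : A ∈ F₀ := by
    have : A = ((2 * A + B) * (A ^ 2 + 2 * A * B) - 9 * (A ^ 2 * B)) /
        (2 * ((2 * A + B) ^ 2 - 3 * (A ^ 2 + 2 * A * B))) := by
      rw [show (2 * A + B) ^ 2 - 3 * (A ^ 2 + 2 * A * B) = (A - B) ^ 2 by ring, eq_div_iff (mul_ne_zero h2 (pow_ne_zero 2 hne))]
      ring
    rw [this]
    refine F₀.div_mem (F₀.sub_mem (F₀.mul_mem ht' hs') (F₀.mul_mem (ofNat_mem F₀ 9) hn'))
      (F₀.mul_mem (ofNat_mem F₀ 2) (F₀.sub_mem (pow_mem ht' 2) (F₀.mul_mem (ofNat_mem F₀ 3) hs')))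
  have hBF : B ∈ F₀ := by
    have := F₀.sub_mem ht' (F₀.mul_mem (ofNat_mem F₀ 2) hAF)
    rwa [add_sub_cancel_left] at this
  have := F₀.div_mem hAF hBF
  rwa [hA, hB, div_div_div_cancel_right₀ hc0] at this

end CfsgLib.DimThreeMax
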