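import Cfsg.Agent.Lib.DimThreeMax.Basic
import Cfsg.Agent.Lib.DimThreeMax.AltSix
import Cfsg.Agent.Lib.DimThreeMax.AutCard

/-!
Almost simple subgroups: the map to the automorphisms of the socle and its consequences.
-/

set_option autoImplicit false

namespace CfsgLib.DimThreeMax

open Matrix
open scoped MatrixGroups

variable {F : Type*} [Field F]

local notation "Z₃" => Cfsg.Geo.scalars (Fin 3) F

theorem scalar_comm {s : GL (Fin 3) F} (hs : s ∈ Z₃) (g : GL (Fin 3) F) : s * g = g * s := by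
  obtain ⟨c, hc⟩ := (Cfsg.Geo.mem_scalars_iff s).1 hs
  apply Units.ext
  simp [hc]

theorem scalar_cube {s : GL (Fin 3) F} (hs : s ∈ Z₃) (hdet : s ∈ Cfsg.Geo.specialLinear (Fin 3) F) :
    s ^ 3 = 1 := by
  obtain ⟨c, hc⟩ := (Cfsg.Geo.mem_scalars_iff s).1 hs
  have h := det_eq_one_of_mem hdet
  rw [hc, Matrix.det_smul, Matrix.det_one, mul_one, Fintype.card_fin] at h
  apply Units.ext
  rw [Units.val_pow_eq_pow_val, hc, smul_pow, one_pow, h, one_smul, Units.val_one]

/-- `H` is almost simple modulo scalars with socle of type `A`: the map to the automorphisms. -/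
structure AlmostSimple (H : Subgroup (GL (Fin 3) F)) (A : Type) [Group A] where
  core : Subgroup (GL (Fin 3) F)
  core_le : core ≤ H
  toAut : H →* MulAut A
  proj : core →* A
  proj_surj : Function.Surjective proj
  kernel : ∀ h : H, toAut h = 1 → (h : GL (Fin 3) F) ∈ Z₃
  proj_kernel : ∀ x : core, proj x = 1 → (x : GL (Fin 3) F) ∈ Z₃
  scalar : ∀ h : H, (h : GL (Fin 3) F) ∈ Z₃ → toAut h = 1
  inner : ∀ x : core, toAut ⟨x, core_le x.2⟩ = MulAut.conj (proj x)
  conj_injective : Function.Injective (MulAut.conj : A →* MulAut A)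

/-- The almost simple structure of a subgroup with a residual core. -/
theorem nonempty_almostSimple {H P : Subgroup (GL (Fin 3) F)} (hc : Cfsg.Geo.IsResidualCore H P) {A : Type}
    [Group A] (e : (P ⧸ (Z₃).subgroupOf P) ≃* A) : Nonempty (AlmostSimple H A) := by
  haveI hZn : (Z₃).Normal := Cfsg.Geo.scalars_normal
  set N := (Z₃).subgroupOf P with hN
  haveI : N.Normal := Subgroup.Normal.comap hZn P.subtype
  have hsimple : IsSimpleGroup A := by
    haveI := hc.simple
    haveI : Nontrivial A := e.symm.toEquiv.nontrivial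
    exact IsSimpleGroup.isSimpleGroup_of_surjective e.toMonoidHom e.surjective
  let cP : H → (P ≃* P) := fun h =>
    { toFun := fun x => ⟨(h : GL (Fin 3) F) * x * (h : GL (Fin 3) F)⁻¹, hc.normal _ h.2 _ x.2⟩
      invFun := fun x => ⟨((h⁻¹ : H) : GL (Fin 3) F) * x * ((h⁻¹ : H) : GL (Fin 3) F)⁻¹, hc.normal _ (h⁻¹).2 _ x.2⟩
      left_inv := fun x => Subtype.ext (by
        show ((h⁻¹ : H) : GL (Fin 3) F) * ((h : GL (Fin 3) F) * x * (h : GL (Fin 3) F)⁻¹) *
          ((h⁻¹ : H) : GL (Fin 3) F)⁻¹ = x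
        rw [Subgroup.coe_inv]; group)
      right_inv := fun x => Subtype.ext (by
        show (h : GL (Fin 3) F) * (((h⁻¹ : H) : GL (Fin 3) F) * x * ((h⁻¹ : H) : GL (Fin 3) F)⁻¹) *
          (h : GL (Fin 3) F)⁻¹ = x
        rw [Subgroup.coe_inv]; group)
      map_mul' := fun x y => Subtype.ext (by
        show (h : GL (Fin 3) F) * ((x : GL (Fin 3) F) * y) * (h : GL (Fin 3) F)⁻¹ =
          (h : GL (Fin 3) F) * x * (h : GL (Fin 3) F)⁻¹ * ((h : GL (Fin 3) F) * y * (h : GL (Fin 3) F)⁻¹)
        group) }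
  have hcN : ∀ h, N.map (cP h).toMonoidHom = N := by
    intro h
    ext x
    constructor
    · rintro ⟨y, hy, rfl⟩
      exact hZn.conj_mem _ hy _
    · intro hx
      refine ⟨(cP h).symm x, ?_, (cP h).apply_symm_apply x⟩
      exact hZn.conj_mem _ hx _
  let τ : H → MulAut A := fun h => MulAut.congr e (QuotientGroup.congr N N (cP h) (hcN h))
  have hτ : ∀ (h : H) (x : P), τ h (e (QuotientGroup.mk x)) = e (QuotientGroup.mk (cP h x)) := by
    intro h x
    show e (QuotientGroup.congr N N (cP h) (hcN h) (e.symm (e (QuotientGroup.mk x)))) = _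
    rw [MulEquiv.symm_apply_apply]
    rfl
  have hsurj : ∀ a : A, ∃ x : P, e (QuotientGroup.mk x) = a := by
    intro a
    obtain ⟨x, hx⟩ := QuotientGroup.mk_surjective (e.symm a)
    exact ⟨x, by rw [hx, MulEquiv.apply_symm_apply]⟩
  let T : H →* MulAut A :=
    { toFun := τ
      map_one' := by
        refine MulEquiv.ext fun a => ?_
        obtain ⟨x, rfl⟩ := hsurj a
        rw [hτ, MulAut.one_apply]
        congr 2
        exact Subtype.ext (by simp [cP])
      map_mul' := fun g h => by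
        refine MulEquiv.ext fun a => ?_
        obtain ⟨x, rfl⟩ := hsurj a
        rw [MulAut.mul_apply, hτ, hτ, hτ]
        congr 2
        exact Subtype.ext (by simp [cP]; group) }
  let π : P →* A := e.toMonoidHom.comp (QuotientGroup.mk' N)
  refine ⟨⟨P, hc.le, T, π, e.surjective.comp (QuotientGroup.mk'_surjective N), ?_, ?_, ?_, ?_, ?_⟩⟩
  · intro h hh
    refine hc.centralizer_scalar _ h.2 fun x hx => ?_
    have h1 := hτ h ⟨x, hx⟩
    rw [show τ h = 1 from hh, MulAut.one_apply] at h1
    have h2 := QuotientGroup.eq.1 (e.injective h1)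
    rw [Subgroup.mem_subgroupOf] at h2
    have h3 := hZn.conj_mem _ h2 x
    convert h3 using 1
    show (h : GL (Fin 3) F) * x * (h : GL (Fin 3) F)⁻¹ * x⁻¹ =
      x * (x⁻¹ * ((h : GL (Fin 3) F) * x * (h : GL (Fin 3) F)⁻¹)) * x⁻¹
    group
  · intro x hx
    have h1 : (QuotientGroup.mk x : P ⧸ N) = 1 := e.injective (by rw [map_one]; exact hx)
    exact (QuotientGroup.eq_one_iff x).1 h1
  · intro h hh
    refine MulEquiv.ext fun a => ?_
    obtain ⟨x, rfl⟩ := hsurj a
    show τ h _ = _
    rw [hτ, MulAut.one_apply]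
    congr 2
    refine Subtype.ext ?_
    show (h : GL (Fin 3) F) * x * (h : GL (Fin 3) F)⁻¹ = x
    rw [scalar_comm hh, mul_inv_cancel_right]
  · intro x
    refine MulEquiv.ext fun a => ?_
    obtain ⟨y, rfl⟩ := hsurj a
    show τ _ _ = _
    rw [hτ, MulAut.conj_apply]
    show π _ = π x * π y * (π x)⁻¹
    rw [← map_inv, ← map_mul, ← map_mul]
    rfl
  · rw [← MonoidHom.ker_eq_bot_iff]
    rcases (inferInstance : (MulAut.conj : A →* MulAut A).ker.Normal).eq_bot_or_eq_top with h | h
    · exact h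
    exfalso
    refine hc.nonabelian ⟨⟨fun a b => e.injective ?_⟩⟩
    have hab : MulAut.conj (e a) = 1 := MonoidHom.mem_ker.1 (h ▸ Subgroup.mem_top (e a))
    have h2 := DFunLike.congr_fun hab (e b)
    rw [MulAut.conj_apply, MulAut.one_apply, mul_inv_eq_iff_eq_mul] at h2
    rw [map_mul, map_mul]
    exact h2

namespace AlmostSimple

variable {H : Subgroup (GL (Fin 3) F)} {A : Type} [Group A] (S : AlmostSimple H A)

theorem inn_normal : ((MulAut.conj : A →* MulAut A).range).Normal :=
  ⟨fun φ hφ ψ => by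
    obtain ⟨a, rfl⟩ := hφ
    refine ⟨ψ a, MulEquiv.ext fun x => ?_⟩
    simp [MulAut.mul_apply, MulAut.inv_def]⟩

include S

theorem inn_index [Finite A] {k : ℕ} (hk : Nat.card (MulAut A) = k * Nat.card A) :
    ((MulAut.conj : A →* MulAut A).range).index = k := by
  have h := ((MulAut.conj : A →* MulAut A).range).card_mul_index
  rw [← Nat.card_congr (MonoidHom.ofInjective S.conj_injective).toEquiv, hk, mul_comm k] at h
  exact Nat.eq_of_mul_eq_mul_left Nat.card_pos h

/-- An element acting as an inner automorphism is the product of an element of the core and a scalar. -/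
theorem exists_core (h : H) {a : A} (ha : S.toAut h = MulAut.conj a) :
    ∃ x : S.core, S.proj x = a ∧ ((x : GL (Fin 3) F))⁻¹ * h ∈ Z₃ := by
  obtain ⟨x, rfl⟩ := S.proj_surj a
  refine ⟨x, rfl, ?_⟩
  exact S.kernel (⟨x, S.core_le x.2⟩⁻¹ * h) (by rw [map_mul, map_inv, S.inner, ha, inv_mul_cancel])

/-- A power coprime to the outer automorphisms lands among the inner ones. -/
theorem inner_of_pow [Finite A] {k m : ℕ} (hk : Nat.card (MulAut A) = k * Nat.card A) (hm : m.Coprime k)
    {h : H} (hh : (h : GL (Fin 3) F) ^ m ∈ Z₃) : ∃ a, S.toAut h = MulAut.conj a := by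
  haveI := inn_normal (A := A)
  set N := (MulAut.conj : A →* MulAut A).range with hN
  have h1 : S.toAut h ^ m = 1 := by
    rw [← map_pow]
    exact S.scalar _ (by simpa using hh)
  have h2 : (QuotientGroup.mk (S.toAut h) : MulAut A ⧸ N) = 1 := by
    rw [← orderOf_eq_one_iff]
    apply Nat.dvd_one.1
    rw [← hm]
    refine Nat.dvd_gcd (orderOf_dvd_of_pow_eq_one ?_) ?_
    · rw [← QuotientGroup.mk_pow, h1]; rfl
    · rw [← S.inn_index hk]; exact orderOf_dvd_natCard _
  obtain ⟨a, ha⟩ := (QuotientGroup.eq_one_iff _).1 h2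
  exact ⟨a, ha.symm⟩

/-- Commutators act as inner automorphisms when there are at most four outer classes. -/
theorem inner_commutator [Finite A] {k : ℕ} (hk : Nat.card (MulAut A) = k * Nat.card A) (hk4 : k ∣ 4)
    (g h : H) : ∃ a, S.toAut (g * h * g⁻¹ * h⁻¹) = MulAut.conj a := by
  haveI := inn_normal (A := A)
  set N := (MulAut.conj : A →* MulAut A).range with hN
  have hcard : Nat.card (MulAut A ⧸ N) = k := S.inn_index hk
  have hcomm : ∀ x y : MulAut A ⧸ N, x * y = y * x := by
    obtain rfl | rfl | rfl : k = 1 ∨ k = 2 ∨ k = 4 := by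
      have : k ≤ 4 := Nat.le_of_dvd (by norm_num) hk4
      interval_cases k <;> simp_all
    · intro x y
      haveI := (Nat.card_eq_one_iff_unique.1 hcard).1
      exact Subsingleton.elim _ _
    · haveI : Fact (Nat.Prime 2) := ⟨Nat.prime_two⟩
      haveI := isCyclic_of_prime_card hcard
      exact fun x y => IsMulCommutative.is_comm.comm x y
    · haveI : Fact (Nat.Prime 2) := ⟨Nat.prime_two⟩
      haveI := IsPGroup.isMulCommutative_of_card_eq_prime_sq (p := 2) (G := MulAut A ⧸ N) (by rw [hcard]; rfl)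
      exact fun x y => IsMulCommutative.is_comm.comm x y
  have : (QuotientGroup.mk (S.toAut (g * h * g⁻¹ * h⁻¹)) : MulAut A ⧸ N) = 1 := by
    simp only [map_mul, map_inv, QuotientGroup.mk_mul, QuotientGroup.mk_inv]
    rw [hcomm (QuotientGroup.mk (S.toAut g))]
    group
  obtain ⟨a, ha⟩ := (QuotientGroup.eq_one_iff _).1 this
  exact ⟨a, ha.symm⟩

theorem card_dvd (hsl : H ≤ Cfsg.Geo.specialLinear (Fin 3) F) [Finite A] [Finite F] {T : Subgroup (GL (Fin 3) F)}
    (hT : T ≤ H) : Nat.card T ∣ 3 * Nat.card (MulAut A) := by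
  haveI : Finite (GL (Fin 3) F) := inferInstance
  let φ : T →* MulAut A := S.toAut.comp (Subgroup.inclusion hT)
  rw [φ.ker.card_eq_card_quotient_mul_card_subgroup, mul_comm, Nat.card_congr (QuotientGroup.quotientKerEquivRange φ).toEquiv]
  refine Nat.mul_dvd_mul ?_ (Subgroup.card_subgroup_dvd_card _)
  have hker : ∀ x : φ.ker, ((x : T) : GL (Fin 3) F) ∈ Z₃ := fun x => S.kernel _ (MonoidHom.mem_ker.1 x.2)
  have hpow : ∀ x : φ.ker, x ^ 3 = 1 := fun x => by
    apply Subtype.ext
    apply Subtype.ext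
    simpa using scalar_cube (hker x) (hsl (hT (x : T).2))
  haveI : IsCyclic φ.ker := by
    have hform : ∀ x : φ.ker, ∃ a : Fˣ, (((x : T) : GL (Fin 3) F)).val = (a : F) • (1 : Matrix (Fin 3) (Fin 3) F) :=
      fun x => (Cfsg.Geo.mem_scalars_iff _).1 (hker x)
    choose a ha using hform
    have huniq : ∀ (x : φ.ker) (b : F), (((x : T) : GL (Fin 3) F)).val = b • (1 : Matrix (Fin 3) (Fin 3) F) →
        (a x : F) = b := by
      intro x b hb
      have := congrFun (congrFun ((ha x).symm.trans hb) 0) 0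
      simpa using this
    let c : φ.ker →* Fˣ :=
      { toFun := a
        map_one' := Units.ext (huniq 1 1 (by simp))
        map_mul' := fun x y => Units.ext (huniq (x * y) _ (by
          simp [ha x, ha y, smul_smul, mul_comm])) }
    refine isCyclic_of_injective c fun x y h => Subtype.ext (Subtype.ext (Units.ext ?_))
    rw [ha x, ha y, show a x = a y from h]
  obtain ⟨g, hg⟩ := IsCyclic.exists_ofOrder_eq_natCard (α := φ.ker)
  rw [← hg]
  exact orderOf_dvd_of_pow_eq_one (hpow g)

theorem card_dvd' [Finite A] {T : Subgroup (GL (Fin 3) F)} (hT : T ≤ H) (hz : ∀ x ∈ T, x ∈ Z₃ → x = 1) :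
    Nat.card T ∣ Nat.card (MulAut A) := by
  let φ : T →* MulAut A := S.toAut.comp (Subgroup.inclusion hT)
  exact Subgroup.card_dvd_of_injective φ ((injective_iff_map_eq_one _).2 fun x hx =>
    Subtype.ext (hz _ x.2 (S.kernel _ hx)))

end AlmostSimple

theorem trace_facts {M : Matrix (Fin 3) (Fin 3) F} (hd : M.det = 1) :
    ∃ u : F, M ^ 3 - M.trace • M ^ 2 + u • M - 1 = 0 := by
  refine ⟨M.charpoly.coeff 1, ?_⟩
  have h := Matrix.aeval_self_charpoly M
  have hdeg : M.charpoly.natDegree = 3 := by rw [Matrix.charpoly_natDegree_eq_dim, Fintype.card_fin]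
  rw [Polynomial.aeval_eq_sum_range, hdeg] at h
  simp only [Finset.sum_range_succ, Finset.sum_range_zero, zero_add, pow_zero, pow_one] at h
  have h0 : M.charpoly.coeff 0 = -1 := by
    have := Matrix.det_eq_sign_charpoly_coeff M
    rw [hd, Fintype.card_fin] at this
    linear_combination this
  have h2 : M.charpoly.coeff 2 = -M.trace := by
    have := Matrix.trace_eq_neg_charpoly_coeff M
    rw [Fintype.card_fin] at this
    rw [this]; simp
  have h3 : M.charpoly.coeff 3 = 1 := by
    have := (Matrix.charpoly_monic M).coeff_natDegree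
    rwa [hdeg] at this
  rw [h0, h2, h3, one_smul] at h
  rw [← h]
  module

/-- A determinant one element of order five is not conjugate to both its inverse and its square. -/
theorem trace_ne {x : GL (Fin 3) F} (hd : (x : Matrix (Fin 3) (Fin 3) F).det = 1) (h5 : x ^ 5 = 1) (hx : x ≠ 1)
    (h3F : (3 : F) ≠ 0) (h5F : (5 : F) ≠ 0) {g : GL (Fin 3) F} (hg : g * x * g⁻¹ = x⁻¹) :
    ((x ^ 2 : GL (Fin 3) F) : Matrix (Fin 3) (Fin 3) F).trace ≠ (x : Matrix (Fin 3) (Fin 3) F).trace := by
  intro h2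
  set M := (x : Matrix (Fin 3) (Fin 3) F) with hM
  have hM5 : M ^ 5 = 1 := by rw [hM, ← Units.val_pow_eq_pow_val, h5, Units.val_one]
  have hinv : ∀ j, (M ^ j).trace = (((x⁻¹) ^ j : GL (Fin 3) F) : Matrix (Fin 3) (Fin 3) F).trace := by
    intro j
    rw [← hg, conj_pow, Units.val_mul, Units.val_mul, Units.val_pow_eq_pow_val, Matrix.trace_units_conj, hM]
  have h4 : (M ^ 4).trace = M.trace := by
    rw [hinv 4, show (x⁻¹) ^ 4 = x by rw [inv_pow, inv_eq_of_mul_eq_one_right (show x ^ 4 * x = 1 by rw [← pow_succ, h5])], hM]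
  have hs2 : (M ^ 2).trace = M.trace := by rw [hM, ← Units.val_pow_eq_pow_val]; exact h2
  have h33 : (M ^ 3).trace = M.trace := by
    rw [hinv 3, show (x⁻¹) ^ 3 = x ^ 2 by rw [inv_pow, inv_eq_of_mul_eq_one_right (show x ^ 3 * x ^ 2 = 1 by rw [← pow_add, h5])],
      Units.val_pow_eq_pow_val, hs2]
  obtain ⟨u, hu⟩ := trace_facts hd
  have key : ∀ j, (M ^ (3 + j)).trace - M.trace * (M ^ (2 + j)).trace + u * (M ^ (1 + j)).trace - (M ^ j).trace = 0 := by
    intro j
    have := congrArg Matrix.trace (congrArg (· * M ^ j) hu)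
    simpa [sub_mul, add_mul, smul_mul_assoc, ← pow_add, ← pow_succ', Matrix.trace_sub, Matrix.trace_add,
      Matrix.trace_smul, add_comm 1 j] using this
  have e0 := key 0
  have e1 := key 1
  have e3 := key 3
  have p5 : ∀ j, M ^ (5 + j) = M ^ j := fun j => by rw [pow_add, hM5, one_mul]
  rw [show (3 : ℕ) + 3 = 5 + 1 from rfl, show (2 : ℕ) + 3 = 5 + 0 from rfl, p5, p5] at e3
  simp only [Nat.reduceAdd, pow_zero, pow_one, Matrix.trace_one, Fintype.card_fin, Nat.cast_ofNat] at e0 e1 e3
  rw [h4] at e1 e3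
  rw [hs2, h33] at e0
  rw [hs2, h33] at e1
  rw [h33] at e3
  set t := M.trace with ht
  have hz : t * (u - t) = 0 := by linear_combination e1
  have ht3 : t = 3 := by linear_combination e0 - hz
  have hu3 : u = 3 := by
    apply mul_left_cancel₀ h3F
    rw [ht3] at e3
    linear_combination e3
  have hN : (M - 1) ^ 3 = 0 := by
    rw [ht3, hu3] at hu
    rw [← hu]
    simp only [pow_succ, pow_zero, one_mul, mul_sub, sub_mul, mul_one, ofNat_smul_eq_nsmul]
    abel
  set N := M - 1 with hNdef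
  have hMN : M = N + 1 := by rw [hNdef, sub_add_cancel]
  have h10 : (5 : F) • N + (10 : F) • N ^ 2 = 0 := by
    have e5 : (N + 1) ^ 5 = 1 + ((5 : F) • N + (10 : F) • N ^ 2) + N ^ 3 * ((10 : F) • 1 + (5 : F) • N + N ^ 2) := by
      rw [show (5 : F) = ((5 : ℕ) : F) by norm_num, show (10 : F) = ((10 : ℕ) : F) by norm_num]
      simp only [Nat.cast_smul_eq_nsmul]
      simp only [pow_succ, pow_zero, one_mul, add_mul, mul_add, mul_one, mul_smul_comm, ← mul_assoc]
      abel
    rw [← hMN, hM5, hN, zero_mul, add_zero] at e5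
    exact add_eq_left.1 e5.symm
  have hN2 : N ^ 2 = 0 := by
    have := congrArg (N * ·) h10
    simp only [mul_add, mul_smul_comm, ← pow_succ', hN, smul_zero, add_zero, mul_zero] at this
    rw [← pow_two] at this
    exact (smul_eq_zero.1 this).resolve_left h5F
  have hN1 : N = 0 := by
    rw [hN2, smul_zero, add_zero] at h10
    exact (smul_eq_zero.1 h10).resolve_left h5F
  exact hx (Units.ext (by rw [← hM, hMN, hN1, zero_add, Units.val_one]))

end CfsgLib.DimThreeMax
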