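import Cfsg.Agent.Lib.DimThreeMax.Basic
import Cfsg.Agent.Lib.Geo.AschPrimeData

/-!
Subgroups containing a split torus element with the cyclic permutation.
-/

set_option autoImplicit false

namespace CfsgLib.DimThreeMax

open Matrix
open scoped MatrixGroups

variable {F : Type*} [Field F]

/-- `H` contains `diag(u, u⁻¹, 1)` and the cyclic permutation. -/
structure HasTorus (H : Subgroup (GL (Fin 3) F)) (u : Fˣ) : Prop where
  base : dg ![u, u⁻¹, 1] ∈ H
  perm : shift F ∈ H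

variable {H : Subgroup (GL (Fin 3) F)} {u : Fˣ}

theorem HasTorus.mono (h : HasTorus H u) {K : Subgroup (GL (Fin 3) F)} (hle : H ≤ K) : HasTorus K u :=
  ⟨hle h.base, hle h.perm⟩

theorem HasTorus.second (h : HasTorus H u) : dg ![1, u, u⁻¹] ∈ H := by
  simpa using shift_conj_dg h.perm h.base

theorem eigen_single {W : Submodule F (Fin 3 → F)} {a : Fin 3 → F} (hW : ∀ x ∈ W, (fun i => a i * x i) ∈ W)
    {x : Fin 3 → F} (hx : x ∈ W) (i j k : Fin 3) (hij : i ≠ j) (hik : i ≠ k) (hjk : j ≠ k)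
    (ha : a i ≠ a j) (hb : a i ≠ a k) : Pi.single i (x i) ∈ W := by
  have h1 : (fun l => (a l - a j) * x l) ∈ W := by
    have h := W.sub_mem (hW x hx) (W.smul_mem (a j) hx)
    convert h using 1
    funext l
    simp; ring
  have h2 := W.sub_mem (hW _ h1) (W.smul_mem (a k) h1)
  have hne : (a i - a j) * (a i - a k) ≠ 0 := mul_ne_zero (sub_ne_zero.2 ha) (sub_ne_zero.2 hb)
  convert W.smul_mem ((a i - a j) * (a i - a k))⁻¹ h2 using 1
  funext l
  simp only [Pi.single_apply, Pi.sub_apply, Pi.smul_apply, smul_eq_mul]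
  have hl : l = i ∨ l = j ∨ l = k := by
    have key : ∀ a b c d : Fin 3, a ≠ b → a ≠ c → b ≠ c → d = a ∨ d = b ∨ d = c := by decide
    exact key i j k l hij hik hjk
  rcases hl with rfl | rfl | rfl
  · rw [if_pos rfl]; field_simp <;> ring
  · rw [if_neg hij.symm]; ring
  · rw [if_neg hik.symm]; ring

theorem HasTorus.irreducible (h : HasTorus H u) (hu : (u : F) ^ 2 ≠ 1) {W : Submodule F (Fin 3 → F)}
    (hW : H ≤ Cfsg.Geo.subspaceStabilizer W) (hW0 : W ≠ ⊥) : W = ⊤ := by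
  have hst : ∀ g ∈ H, ∀ x ∈ W, (g : Matrix (Fin 3) (Fin 3) F) *ᵥ x ∈ W := fun g hg =>
    GeomClasses.mem_subspaceStabilizer.1 (hW hg)
  have hu1 : (u : F) ≠ 1 := fun h1 => hu (by rw [h1, one_pow])
  have hui : ((u⁻¹ : Fˣ) : F) ≠ 1 := fun h1 => hu1 (by
    have := congrArg (fun z => (u : F) * z) h1
    simpa using this.symm)
  have huu : (u : F) ≠ ((u⁻¹ : Fˣ) : F) := fun h1 => hu (by
    rw [pow_two]; nth_rw 2 [h1]; simp)
  have hd : ∀ x ∈ W, (fun i => ((![u, u⁻¹, 1] i : Fˣ) : F) * x i) ∈ W := fun x hx => by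
    rw [← dg_mulVec]; exact hst _ h.base x hx
  have hall : ∀ x ∈ W, ∀ i, Pi.single i (x i) ∈ W := by
    intro x hx i
    fin_cases i
    · exact eigen_single hd hx 0 1 2 (by decide) (by decide) (by decide) (by simpa using huu) (by simpa using hu1)
    · exact eigen_single hd hx 1 0 2 (by decide) (by decide) (by decide) (by simpa using huu.symm)
        (by simpa using hui)
    · exact eigen_single hd hx 2 0 1 (by decide) (by decide) (by decide) (by simpa using hu1.symm)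
        (by simpa using hui.symm)
  obtain ⟨x, hx, hx0⟩ := Submodule.exists_mem_ne_zero_of_ne_bot hW0
  obtain ⟨i, hi⟩ := Function.ne_iff.1 hx0
  have hei : Pi.single i (1 : F) ∈ W := by
    have := W.smul_mem (x i)⁻¹ (hall x hx i)
    rwa [← Pi.single_smul, smul_eq_mul, inv_mul_cancel₀ hi] at this
  have hnext : ∀ j : Fin 3, Pi.single j (1 : F) ∈ W → Pi.single (j + 1) (1 : F) ∈ W := by
    intro j hj
    convert hst _ h.perm _ hj using 1
    rw [shift_mulVec]
    funext l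
    fin_cases j <;> fin_cases l <;> simp
  have he : ∀ j, Pi.single j (1 : F) ∈ W := by
    have e1 := hnext _ hei
    have e2 := hnext _ e1
    intro j
    have key : ∀ a b : Fin 3, b = a ∨ b = a + 1 ∨ b = a + 1 + 1 := by decide
    have := key i j
    rcases this with rfl | rfl | rfl <;> assumption
  refine eq_top_iff.2 fun y _ => ?_
  rw [pi_eq_sum_univ' y]
  exact W.sum_mem fun j _ => W.smul_mem _ (he j)

theorem pow_card_cases {F₀ : Subfield F} [Finite F₀] {u : F} (hu0 : u ≠ 0) (hv : u + u⁻¹ ∈ F₀) :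
    u ^ Nat.card F₀ = u ∨ u ^ Nat.card F₀ = u⁻¹ := by
  haveI : Fintype F₀ := Fintype.ofFinite _
  obtain ⟨p, hchar⟩ := CharP.exists F₀
  obtain ⟨n, hp, hn⟩ := FiniteField.card F₀ p
  haveI : CharP F p := charP_of_injective_ringHom (F₀.subtype).injective p
  haveI := Fact.mk hp
  have hvp : (u + u⁻¹) ^ Nat.card F₀ = u + u⁻¹ := by
    rw [Nat.card_eq_fintype_card]
    exact congrArg Subtype.val (FiniteField.pow_card (⟨u + u⁻¹, hv⟩ : F₀))
  rw [Nat.card_eq_fintype_card, hn] at hvp ⊢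
  rw [add_pow_char_pow, inv_pow] at hvp
  obtain ⟨w, hw⟩ : ∃ w, w = u ^ p ^ (n : ℕ) := ⟨_, rfl⟩
  rw [← hw] at hvp ⊢
  have hw0 : w ≠ 0 := hw ▸ pow_ne_zero _ hu0
  have : (w - u) * (w - u⁻¹) = 0 := by
    field_simp at hvp ⊢
    linear_combination hvp
  rcases mul_eq_zero.1 this with h' | h'
  · exact Or.inl (sub_eq_zero.1 h')
  · exact Or.inr (sub_eq_zero.1 h')

theorem torus_charpoly (u : Fˣ) :
    (dg ![u, u⁻¹, 1] : Matrix (Fin 3) (Fin 3) F).charpoly =
      Polynomial.X ^ 3 - Polynomial.C ((u : F) + (u : F)⁻¹ + 1) * Polynomial.X ^ 2 +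
        Polynomial.C ((u : F) + (u : F)⁻¹ + 1) * Polynomial.X - 1 := by
  rw [dg_val, Matrix.charpoly_diagonal, Fin.prod_univ_three]
  simp only [Matrix.cons_val_zero, Matrix.cons_val_one, Matrix.cons_val, Units.val_inv_eq_inv_val,
    Units.val_one, map_one, map_add]
  have : Polynomial.C ((u : F)⁻¹) * Polynomial.C (u : F) = 1 := by
    rw [← Polynomial.C_mul, inv_mul_cancel₀ u.ne_zero, Polynomial.C_1]
  linear_combination (Polynomial.X - 1) * this

theorem trace_in_subfield {F₀ : Subfield F} {c s : F} (m₀ m₁ m₂ : F₀) (hc0 : c ≠ 0)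
    (e0 : (-1 : F) = c ^ 3 * m₀) (e1 : s * c = c ^ 3 * m₁) (e2 : -s * c ^ 2 = c ^ 3 * m₂) : s ∈ F₀ := by
  have hc3 : c ^ 3 ∈ F₀ := by
    have hm : (m₀ : F) ≠ 0 := fun h0 => by rw [h0, mul_zero] at e0; exact one_ne_zero (neg_eq_zero.1 e0)
    rw [show c ^ 3 = -1 / (m₀ : F) by rw [e0, mul_div_assoc, div_self hm, mul_one]]
    exact F₀.div_mem (F₀.neg_mem F₀.one_mem) m₀.2
  have h2 : s ^ 2 ∈ F₀ := by
    have : s ^ 2 = -(c ^ 3 * m₁ * m₂) := by
      apply mul_right_cancel₀ (pow_ne_zero 3 hc0)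
      linear_combination -(s * c) * e2 - (c ^ 3 * (m₂ : F)) * e1
    rw [this]
    exact F₀.neg_mem (F₀.mul_mem (F₀.mul_mem hc3 m₁.2) m₂.2)
  have h3 : s ^ 3 ∈ F₀ := by
    have : s ^ 3 = (c ^ 3) ^ 2 * (m₁ : F) ^ 3 := by
      have e : (s * c) ^ 3 = (c ^ 3 * m₁) ^ 3 := by rw [e1]
      apply mul_right_cancel₀ (pow_ne_zero 3 hc0)
      linear_combination e
    rw [this]
    exact F₀.mul_mem (pow_mem hc3 2) (pow_mem m₁.2 3)
  by_cases h0 : s = 0
  · rw [h0]; exact F₀.zero_mem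
  · rw [show s = s ^ 3 / s ^ 2 by field_simp]
    exact F₀.div_mem h3 h2

theorem charpoly_scalar_rat {F₀ : Subfield F} (M : Matrix (Fin 3) (Fin 3) F₀) {c : F} (hc0 : c ≠ 0) (k : ℕ) :
    (c • M.map (fun a : F₀ => (a : F))).charpoly.coeff k * c ^ k = c ^ 3 * ((M.charpoly.coeff k : F₀) : F) := by
  have h := Geo.Asch.charpoly_coeff_smul c hc0 (M.map (fun a : F₀ => (a : F))) k
  rw [show (M.map (fun a : F₀ => (a : F))).charpoly = M.charpoly.map (F₀.subtype : F₀ →+* F) from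
    Matrix.charpoly_map M F₀.subtype, Polynomial.coeff_map, Fintype.card_fin] at h
  exact h

theorem HasTorus.subfield (h : HasTorus H u) {F₀ : Subfield F} [Finite F₀] {P : GL (Fin 3) F}
    (hle : H ≤ Cfsg.Geo.subfieldSubgroup F₀ P) :
    (u : F) ^ Nat.card F₀ = u ∨ (u : F) ^ Nat.card F₀ = (u : F)⁻¹ := by
  obtain ⟨X, c, hX⟩ := mem_subfieldSubgroup (hle h.base)
  refine pow_card_cases u.ne_zero ?_
  have hcp : ((c : F) • (X : Matrix (Fin 3) (Fin 3) F₀).map (fun a : F₀ => (a : F))).charpoly =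
      (dg ![u, u⁻¹, 1] : Matrix (Fin 3) (Fin 3) F).charpoly := by
    rw [← hX, Units.val_mul, Units.val_mul, Matrix.coe_units_inv, Matrix.charpoly_units_conj']
  have hcoef := fun k => charpoly_scalar_rat (X : Matrix (Fin 3) (Fin 3) F₀) c.ne_zero k
  rw [hcp, torus_charpoly] at hcoef
  have hs : (u : F) + (u : F)⁻¹ + 1 ∈ F₀ := by
    generalize (u : F) + (u : F)⁻¹ + 1 = s at hcoef ⊢
    refine trace_in_subfield (c := (c : F)) (hc0 := c.ne_zero) (e0 := ?_) (e1 := ?_) (e2 := ?_) (m₀ := (X : Matrix (Fin 3) (Fin 3) F₀).charpoly.coeff 0)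
      (m₁ := (X : Matrix (Fin 3) (Fin 3) F₀).charpoly.coeff 1) (m₂ := (X : Matrix (Fin 3) (Fin 3) F₀).charpoly.coeff 2)
    · simpa [Polynomial.coeff_one] using hcoef 0
    · simpa [Polynomial.coeff_one, Polynomial.coeff_X] using hcoef 1
    · simpa [Polynomial.coeff_one, Polynomial.coeff_X] using hcoef 2
  have := F₀.sub_mem hs F₀.one_mem
  rwa [add_sub_cancel_right] at this

/-- The torus and the cyclic permutation preserve no non-degenerate form up to similarity. -/
theorem HasTorus.form_false (h : HasTorus H u) {σ : F →+* F} {f : (Fin 3 → F) → (Fin 3 → F) → F}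
    (hf : GeomClasses.IsSesq σ f) (hfn : Cfsg.Geo.IsNondegenerateForm f)
    (hle : H ≤ Cfsg.Geo.similarityGroup f) (hn : (u : F) * σ u ≠ 1) : False := by
  set e : Fin 3 → (Fin 3 → F) := fun i => Pi.single i 1 with he
  have hd : ∀ w : Fin 3 → Fˣ, dg w ∈ H → ∃ c : F, ∀ i j, (w i : F) * σ (w j) * f (e i) (e j) = c * f (e i) (e j) := by
    intro w hw
    obtain ⟨c, hc⟩ := hle hw
    refine ⟨c, fun i j => ?_⟩
    have hd : ∀ i, (dg w : Matrix (Fin 3) (Fin 3) F) *ᵥ e i = (w i : F) • e i := by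
      intro i
      rw [dg_mulVec]
      funext l
      simp only [he, Pi.smul_apply, smul_eq_mul]
      by_cases hl : l = i
      · subst hl; simp
      · simp [Pi.single_eq_of_ne hl]
    have := hc (e i) (e j)
    rwa [hd, hd, hf.smul_left, hf.smul_right, ← mul_assoc] at this
  have hnext : ∀ i j, f (e i) (e j) ≠ 0 → f (e (i + 1)) (e (j + 1)) ≠ 0 := by
    intro i j hij
    obtain ⟨c, hc⟩ := hle h.perm
    have hs : ∀ i, (shift F : Matrix (Fin 3) (Fin 3) F) *ᵥ e i = e (i + 1) := by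
      intro i
      rw [shift_mulVec]
      funext l
      fin_cases i <;> fin_cases l <;> simp [he]
    rw [← hs i, ← hs j, hc]
    exact mul_ne_zero c.ne_zero hij
  obtain ⟨x, hx⟩ := (hfn (e 0) (by simp [he])).2
  obtain ⟨j, hj⟩ : ∃ j, f (e 0) (e j) ≠ 0 := by
    by_contra hc
    push Not at hc
    apply hx
    rw [pi_eq_sum_univ' x, hf.sum_right]
    refine Finset.sum_eq_zero fun j _ => ?_
    have := hc j
    rw [hf.smul_right]
    simp only [he] at this
    rw [this, mul_zero]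
  obtain ⟨c, hc⟩ := hd _ h.base
  have key : ∀ i l, f (e i) (e l) ≠ 0 → ((![u, u⁻¹, 1] i : Fˣ) : F) * σ ((![u, u⁻¹, 1] l : Fˣ) : F) = c :=
    fun i l hil => mul_right_cancel₀ hil (hc i l)
  have h1 := key 0 j hj
  have h2 := key 1 (j + 1) (hnext 0 j hj)
  have h3 := key 2 (j + 1 + 1) (hnext 1 (j + 1) (hnext 0 j hj))
  have hu0 : (u : F) ≠ 0 := u.ne_zero
  have hs0 : σ u ≠ 0 := by simpa using hu0
  fin_cases j <;> simp at h1 h2 h3 <;> subst h1 <;> field_simp at h2 h3 <;>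
    exact hn (by first | linear_combination h2 | (apply mul_left_cancel₀ hu0; first | linear_combination h3 - σ (u : F) * h2 | linear_combination h2 - σ (u : F) * h3 | linear_combination h3 + σ (u : F) * h2) | linear_combination h3 | linear_combination -h2 | linear_combination -h3)

end CfsgLib.DimThreeMax
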