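import Cfsg.Agent.Lib.DimThreeMax.Normal
import Cfsg.Agent.Lib.GeomClasses.UnitCentres
import Cfsg.Agent.Lib.GeomClasses.UnitGen
import Cfsg.Agent.Lib.ClassicalGroups.HermGroup
import Cfsg.Prelude.Def_GeometricClasses

/-!
Stabilisers of points are maximal in the three-dimensional special unitary group (q at least three).
-/

set_option autoImplicit false
set_option linter.unusedSectionVars false
set_option linter.unusedSimpArgs false

namespace CfsgLib.DimThreeMax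

open Matrix GeomClasses
open scoped MatrixGroups

section move

variable {F : Type*} [Field F] [Fintype F] {q : ℕ}

theorem orthonormal_columns {σ : F ≃+* F} {f : (Fin 3 → F) → (Fin 3 → F) → F}
    (hf : Cfsg.Geo.IsUnitaryForm σ f) {a b : Fin 3 → F} (ha : f a a = 1) (hb : f b b = 1) (hab : f a b = 0) :
    ∃ P : GL (Fin 3) F, P.val *ᵥ Pi.single 0 1 = a ∧ P.val *ᵥ Pi.single 1 1 = b ∧
      ∀ x y, f (P.val *ᵥ x) (P.val *ᵥ y) = stdHerm σ x y := by
  have hba : f b a = 0 := Unit.eq_zero_comm hf hab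
  obtain ⟨c, hc, hc'⟩ := exists_next hf (k := 2) (by norm_num) (u := ![a, b])
    (fun i j => by fin_cases i <;> fin_cases j <;> simp [ha, hb, hba, hab])
  have hca : f c a = 0 := hc' 0
  have hcb : f c b = 0 := hc' 1
  have horth : ∀ i j, f (![a, b, c] i) (![a, b, c] j) = if i = j then 1 else 0 := by
    intro i j
    fin_cases i <;> fin_cases j <;>
      simp [ha, hb, hc, hba, hab, hca, hcb, Unit.eq_zero_comm hf hca, Unit.eq_zero_comm hf hcb]
  obtain ⟨P, hP⟩ := exists_columns (orthonormal_independent hf horth)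
  refine ⟨P, by simp [hP, Fin.sum_univ_three], by simp [hP, Fin.sum_univ_three], fun x y => ?_⟩
  rw [hP, hP]
  simp only [(Unit.sesq hf).sum_left, (Unit.sesq hf).sum_right, Unit.smul_left hf, Unit.smul_right hf, horth,
    stdHerm]
  simp [mul_comm]

/-- A special unitary element fixing `a` and carrying `x` to `y`. -/
theorem exists_move (hF : Fintype.card F = q ^ 2) {a x y : Fin 3 → F}
    (ha : Cfsg.hermForm 3 F q a a ≠ 0) (hax : Cfsg.hermForm 3 F q a x = 0) (hay : Cfsg.hermForm 3 F q a y = 0)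
    (hx : Cfsg.hermForm 3 F q x x = - Cfsg.hermForm 3 F q a a)
    (hy : Cfsg.hermForm 3 F q y y = - Cfsg.hermForm 3 F q a a) :
    ∃ g : GL (Fin 3) F, g ∈ Cfsg.GU 3 F q ⊓ Cfsg.Geo.specialLinear (Fin 3) F ∧
      g.val *ᵥ a = a ∧ g.val *ᵥ x = y := by
  have hf := UnitPow.isUnitaryForm_hermForm hF 3
  set σ := UnitPow.conj hF
  set f := Cfsg.hermForm 3 F q
  obtain ⟨s, hs0, hs⟩ := exists_normalized hf ha
  obtain ⟨t, ht0, ht⟩ := exists_normalized hf (x := x) (by rw [hx]; exact neg_ne_zero.2 ha)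
  have ht' : f (t • y) (t • y) = 1 := by
    rw [Unit.smul_left hf, Unit.smul_right hf, hy, ← hx, ← Unit.smul_right hf, ← Unit.smul_left hf, ht]
  obtain ⟨P, hP0, hP1, hP⟩ := orthonormal_columns hf hs ht
    (by rw [Unit.smul_left hf, Unit.smul_right hf, hax, mul_zero, mul_zero])
  obtain ⟨Q, hQ0, hQ1, hQ⟩ := orthonormal_columns hf hs ht'
    (by rw [Unit.smul_left hf, Unit.smul_right hf, hay, mul_zero, mul_zero])
  have hg₀ : Q * P⁻¹ ∈ Cfsg.GU 3 F q := UnitPow.mem_GU.2 fun u v => by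
    change f _ _ = f u v
    rw [gl_mul_mulVec, gl_mul_mulVec, hQ, ← hP, gl_mulVec_inv_mulVec, gl_mulVec_inv_mulVec]
  set d := Matrix.GeneralLinearGroup.det (Q * P⁻¹) with hd
  have hd1 : (d : F) * σ d = 1 := by
    have h := congrArg Units.val (CfsgLib.ClassicalGroups.GU_det_pow hF ⟨_, hg₀⟩)
    rw [Units.val_pow_eq_pow_val, Units.val_one, pow_succ'] at h
    exact h
  have hD : ∀ u v, stdHerm σ ((dg ![1, 1, d⁻¹]).val *ᵥ u) ((dg ![1, 1, d⁻¹]).val *ᵥ v) = stdHerm σ u v := by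
    intro u v
    have hdi : ((d⁻¹ : Fˣ) : F) * σ ((d⁻¹ : Fˣ) : F) = 1 := by
      rw [Units.val_inv_eq_inv_val, map_inv₀, ← mul_inv, hd1, inv_one]
    rw [Units.val_inv_eq_inv_val, map_inv₀] at hdi
    simp only [stdHerm, dg_mulVec, Fin.sum_univ_three, map_mul]
    simp
    linear_combination (u 2 * σ (v 2)) * hdi
  have hfix : ∀ i : Fin 3, i ≠ 2 →
      (dg ![1, 1, d⁻¹]).val *ᵥ Pi.single i (1 : F) = Pi.single i 1 := fun i hi => by
    rw [dg_mulVec]
    funext j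
    fin_cases i <;> fin_cases j <;> simp_all
  have hinv : ∀ {R : GL (Fin 3) F} {u v : Fin 3 → F}, R.val *ᵥ u = v → (R⁻¹ : GL (Fin 3) F).val *ᵥ v = u :=
    fun h => by rw [← h, gl_inv_mulVec_mulVec]
  refine ⟨Q * dg ![1, 1, d⁻¹] * P⁻¹, ⟨UnitPow.mem_GU.2 fun u v => ?_, mem_specialLinear.2 ?_⟩, ?_, ?_⟩
  · change f _ _ = f u v
    rw [gl_mul_mulVec, gl_mul_mulVec, gl_mul_mulVec, gl_mul_mulVec, hQ, hD, ← hP, gl_mulVec_inv_mulVec,
      gl_mulVec_inv_mulVec]
  · have e : (d : F) = Q.val.det * (P⁻¹ : GL (Fin 3) F).val.det := by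
      rw [hd, Matrix.GeneralLinearGroup.val_det_apply, Units.val_mul, Matrix.det_mul]
    rw [Units.val_mul, Units.val_mul, Matrix.det_mul, Matrix.det_mul, dg_det]
    calc Q.val.det * (((![1, 1, d⁻¹] : Fin 3 → Fˣ) 0 : F) * ((![1, 1, d⁻¹] : Fin 3 → Fˣ) 1 : F) *
          ((![1, 1, d⁻¹] : Fin 3 → Fˣ) 2 : F)) * (P⁻¹ : GL (Fin 3) F).val.det
        = (d : F) * ((d⁻¹ : Fˣ) : F) := by rw [e]; simp; ring
      _ = 1 := Units.mul_inv d
  · rw [gl_mul_mulVec, gl_mul_mulVec]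
    have h := hinv hP0
    rw [mulVec_smul, ← eq_inv_smul_iff₀ hs0] at h
    rw [h, mulVec_smul, mulVec_smul, hfix 0 (by decide), hQ0, inv_smul_smul₀ hs0]
  · rw [gl_mul_mulVec, gl_mul_mulVec]
    have h := hinv hP1
    rw [mulVec_smul, ← eq_inv_smul_iff₀ ht0] at h
    rw [h, mulVec_smul, mulVec_smul, hfix 1 (by decide), hQ1, inv_smul_smul₀ ht0]

end move

/-- The stabiliser of an isotropic point is maximal. -/
theorem unit_singular_subspace_maximal {F : Type*} [Field F] [Fintype F] (q : ℕ) (hF : Fintype.card F = q ^ 2) (hq : 3 ≤ q) (W : Submodule F (Fin 3 → F)) (hW0 : W ≠ ⊥) (hW : Cfsg.Geo.IsTotallySingularFor (Cfsg.hermForm 3 F q) W) : Cfsg.Geo.IsMaximalIn (Cfsg.GU 3 F q ⊓ Cfsg.Geo.specialLinear (Fin 3) F) (Cfsg.Geo.subspaceStabilizer W ⊓ (Cfsg.GU 3 F q ⊓ Cfsg.Geo.specialLinear (Fin 3) F)) := by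
  have hf := UnitPow.isUnitaryForm_hermForm hF 3
  set f := Cfsg.hermForm 3 F q with hfd
  set P := Unit.perp hf W with hP
  have hWP : W ≤ P := fun x hx => (Unit.mem_perp hf).2 fun w hw => hW x hx w hw
  have hiso : ∀ {g : GL (Fin 3) F}, g ∈ Cfsg.GU 3 F q → Symp.IsIsometry f g := fun hg => UnitPow.mem_GU.1 hg
  have hroot : ∀ a b γ, f a a = 0 → f a b = 0 → γ + UnitPow.conj hF γ = - f b b → a ∈ W →
      UnitOrth.root f a b γ ∈ Cfsg.Geo.subspaceStabilizer W ⊓ (Cfsg.GU 3 F q ⊓ Cfsg.Geo.specialLinear (Fin 3) F) :=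
    fun a b γ ha hab hγ haW => ⟨mem_subspaceStabilizer.2 fun x hx => by
      rw [UnitOrth.root_mulVec hf ha hab, hW x hx a haW, zero_smul, add_zero]
      exact W.add_mem hx (W.smul_mem _ haW),
      UnitPow.mem_GU.2 (UnitOrth.root_isometry hf ha hab hγ), UnitCentres.root_det hf⟩
  have hT : ∀ v, f v v = 0 → ∀ c, c + c ^ q = 0 → formTv f v c ∈ Cfsg.GU 3 F q ⊓ Cfsg.Geo.specialLinear (Fin 3) F :=
    fun v hv c hc => ⟨UnitPow.mem_GU.2 fun x y => Unit.formTv_isometry hf hv hc x y, formTv_mem_specialLinear _ _ _⟩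
  obtain ⟨a₀, ha₀, ha₀0⟩ := Submodule.exists_mem_ne_zero_of_ne_bot hW0
  refine ⟨lt_of_le_of_ne inf_le_right fun heq => ?_, fun M hle hMle => ?_⟩
  · obtain ⟨x, hxx, hxP⟩ : ∃ x, f x x = 0 ∧ x ∉ P := by
      by_contra h
      push Not at h
      have htop := Unit.span_isotropic hf (by simp) (W := P) fun v hv => h v hv
      obtain ⟨y, hy⟩ := (hf.nondegenerate a₀ ha₀0).1
      exact hy ((Unit.mem_perp hf).1 (htop ▸ Submodule.mem_top : y ∈ P) a₀ ha₀)
    obtain ⟨a, ha, hax⟩ : ∃ a ∈ W, f a x ≠ 0 := by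
      by_contra h
      push Not at h
      exact hxP ((Unit.mem_perp' hf).2 h)
    obtain ⟨c, hc0, hc⟩ := Unit.exists_skew hf.ne_refl hf.involutive
    have hg := hT x hxx c hc
    rw [← heq] at hg
    have h1 := mem_subspaceStabilizer.1 hg.1 a ha
    rw [Unit.formTv_mulVec hf hxx] at h1
    exact hxP (hWP ((W.smul_mem_iff (mul_ne_zero hc0 hax)).1 ((W.add_mem_iff_right ha).1 h1)))
  by_cases hall : M ≤ Cfsg.Geo.subspaceStabilizer W
  · exact Or.inl (le_antisymm (le_inf hall hMle) hle)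
  right
  refine le_antisymm hMle (UnitGen.specialUnitary_le_of_formTv_mem hF (by omega) (by omega) ?_)
  set C : Set (Fin 3 → F) := {v | ∀ c, c + c ^ q = 0 → formTv f v c ∈ M} with hC
  have hCinv : ∀ g ∈ M, ∀ v, f v v = 0 → v ∈ C → (g : Matrix (Fin 3) (Fin 3) F) *ᵥ v ∈ C := by
    intro g hg v hv hvC c hc
    have hgi := hiso (hMle hg).1
    have hgv : f ((g : Matrix (Fin 3) (Fin 3) F) *ᵥ v) ((g : Matrix (Fin 3) (Fin 3) F) *ᵥ v) = 0 := by
      rw [hgi, hv]
    have h1 := M.mul_mem (M.mul_mem hg (hvC c hc)) (M.inv_mem hg)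
    rwa [← UnitOrth.root_zero hf hv, UnitOrth.root_conj hf hgi hv (Unit.zero_right hf v), mulVec_zero,
      UnitOrth.root_zero hf hgv] at h1
  have hPC : ∀ v ∈ P, f v v = 0 → v ∈ C := fun v hv hvv c hc => hle
    ⟨mem_subspaceStabilizer.2 fun x hx => by
      rw [Unit.formTv_mulVec hf hvv, (Unit.mem_perp' hf).1 hv x hx, mul_zero, zero_smul, add_zero]
      exact hx, hT v hvv c hc⟩
  obtain ⟨w, hw, hww, hwP⟩ : ∃ w ∈ C, f w w = 0 ∧ w ∉ P := by
    by_contra h
    push Not at h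
    obtain ⟨g, hgM, hg⟩ := SetLike.not_le_iff_exists.1 hall
    apply hg
    set Z := Submodule.span F {v : Fin 3 → F | v ∈ P ∧ f v v = 0} with hZ
    have hgi := hiso (hMle hgM).1
    have hZle : Z.map (Matrix.toLin' (g : Matrix (Fin 3) (Fin 3) F)) ≤ Z := by
      rw [hZ, Submodule.map_span, Submodule.span_le]
      rintro _ ⟨v, ⟨hv, hvv⟩, rfl⟩
      rw [Matrix.toLin'_apply]
      have hgv : f ((g : Matrix (Fin 3) (Fin 3) F) *ᵥ v) ((g : Matrix (Fin 3) (Fin 3) F) *ᵥ v) = 0 := by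
        rw [hgi, hvv]
      exact Submodule.subset_span ⟨h _ (hCinv g hgM v hvv (hPC v hv hvv)) hgv, hgv⟩
    have hZeq := Submodule.eq_of_le_of_finrank_eq hZle (Submodule.equivMapOfInjective _ (by
      simpa [Function.Injective] using gl_mulVec_injective g) _).finrank_eq.symm
    have hZP : Z ≤ P := Submodule.span_le.2 fun v hv => hv.1
    rw [mem_subspaceStabilizer]
    intro u hu
    have huZ : u ∈ Z := Submodule.subset_span ⟨hWP hu, hW u hu u hu⟩
    set y := (g : Matrix (Fin 3) (Fin 3) F) *ᵥ u with hy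
    have hyZ : y ∈ Z := by
      rw [← hZeq]
      exact ⟨u, huZ, by rw [Matrix.toLin'_apply]⟩
    have hyo : ∀ z ∈ Z, f y z = 0 := by
      intro z hz
      rw [← hZeq] at hz
      obtain ⟨z', hz', rfl⟩ := hz
      rw [Matrix.toLin'_apply, hy, hgi]
      exact (Unit.mem_perp' hf).1 (hZP hz') u hu
    rw [← Unit.perp_perp hf W, Unit.mem_perp hf]
    intro p hp
    by_contra hne
    obtain ⟨a, ha⟩ := Unit.exists_isotropic_add hf (hyo y hyZ) (Unit.ne_zero_comm hf hne)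
    have h1 := hyo _ (Submodule.subset_span ⟨P.add_mem hp (P.smul_mem a (hZP hyZ)), ha⟩ : p + a • y ∈ Z)
    rw [Unit.add_right hf, Unit.smul_right hf, hyo y hyZ, mul_zero, add_zero] at h1
    exact hne h1
  intro v hv c hc
  by_cases hvP : v ∈ P
  · exact hPC v hvP hv c hc
  obtain ⟨a, ha, hwa, hva⟩ : ∃ a ∈ W, f w a ≠ 0 ∧ f v a ≠ 0 := by
    obtain ⟨a1, ha1, h1⟩ : ∃ a ∈ W, f w a ≠ 0 := by simpa [P, Unit.mem_perp] using hwP
    obtain ⟨a2, ha2, h2⟩ : ∃ a ∈ W, f v a ≠ 0 := by simpa [P, Unit.mem_perp] using hvP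
    by_cases h3 : f v a1 = 0
    · by_cases h4 : f w a2 = 0
      · exact ⟨a1 + a2, W.add_mem ha1 ha2, by rwa [Unit.add_right hf, h4, add_zero],
          by rwa [Unit.add_right hf, h3, zero_add]⟩
      · exact ⟨a2, ha2, h4, h2⟩
    · exact ⟨a1, ha1, h1, h3⟩
  set t := f v a / f w a with ht
  set w' := t • w with hw'
  have hw'a : f w' a = f v a := by rw [hw', Unit.smul_left hf, ht, div_mul_cancel₀ _ hwa]
  have hw'w' : f w' w' = 0 := by rw [hw', Unit.smul_left hf, Unit.smul_right hf, hww]; ring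
  obtain ⟨γ, hab, hγ, hmove⟩ := UnitCentres.exists_root_move hf (hW a ha a ha) hw'w' hv hw'a.symm
    (hw'a ▸ hva)
  have hw'C : w' ∈ C := by
    intro c hc
    rw [hw', Unit.formTv_smul hf t hww]
    refine hw _ ?_
    have h2 : UnitPow.conj hF (t * UnitPow.conj hF t) = t * UnitPow.conj hF t := by
      rw [map_mul, hf.involutive, mul_comm]
    show t * UnitPow.conj hF t * c + UnitPow.conj hF (t * UnitPow.conj hF t * c) = 0
    rw [map_mul, h2, UnitPow.conj_apply hF c, ← mul_add, hc, mul_zero]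
  have h3 := hCinv _ (hle (hroot a _ γ (hW a ha a ha) hab hγ ha)) w' hw'w' hw'C
  rw [hmove] at h3
  exact h3 c hc

/-- The stabiliser of a non-degenerate point is maximal. -/
theorem unit_nondegenerate_subspace_maximal {F : Type*} [Field F] [Fintype F] (q : ℕ) (hF : Fintype.card F = q ^ 2) (hq : 3 ≤ q) (W : Submodule F (Fin 3 → F)) (hW0 : W ≠ ⊥) (hW : Cfsg.Geo.IsNondegenerateOn (Cfsg.hermForm 3 F q) W) (hdim : 2 * Module.finrank F W < 3) : Cfsg.Geo.IsMaximalIn (Cfsg.GU 3 F q ⊓ Cfsg.Geo.specialLinear (Fin 3) F) (Cfsg.Geo.subspaceStabilizer W ⊓ (Cfsg.GU 3 F q ⊓ Cfsg.Geo.specialLinear (Fin 3) F)) := by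
  have hf := UnitPow.isUnitaryForm_hermForm hF 3
  set σ := UnitPow.conj hF with hσ
  set f := Cfsg.hermForm 3 F q with hfd
  set P := Unit.perp hf W with hP
  set I := Cfsg.GU 3 F q ⊓ Cfsg.Geo.specialLinear (Fin 3) F with hI
  have hPn : Cfsg.Geo.IsNondegenerateOn f P := UnitCentres.perp_nondegenerate hf hW
  have hdP := Unit.finrank_perp hf W
  rw [Fintype.card_fin, ← hP] at hdP
  have hWP : ∀ x ∈ W, ∀ y ∈ P, f x y = 0 := fun x hx y hy => (Unit.mem_perp' hf).1 hy x hx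
  have hdis := (Unit.isCompl_perp hf hW).disjoint
  have hdec : ∀ v, ∃ a ∈ W, ∃ b ∈ P, a + b = v := fun v =>
    Submodule.mem_sup.1 ((Unit.isCompl_perp hf hW).sup_eq_top ▸ Submodule.mem_top)
  have hiso : ∀ {g : GL (Fin 3) F}, g ∈ Cfsg.GU 3 F q → Symp.IsIsometry f g := fun hg => UnitPow.mem_GU.1 hg
  have hT : ∀ v, f v v = 0 → ∀ c, c + c ^ q = 0 → formTv f v c ∈ I :=
    fun v hv c hc => ⟨UnitPow.mem_GU.2 fun x y => Unit.formTv_isometry hf hv hc x y, formTv_mem_specialLinear _ _ _⟩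
  have hrootI : ∀ a b γ, f a a = 0 → f a b = 0 → γ + σ γ = - f b b → UnitOrth.root f a b γ ∈ I :=
    fun a b γ ha hab hγ => ⟨UnitPow.mem_GU.2 (UnitOrth.root_isometry hf ha hab hγ), UnitCentres.root_det hf⟩
  obtain ⟨c₀, hc₀0, hc₀⟩ := Unit.exists_skew hf.ne_refl hf.involutive
  refine ⟨lt_of_le_of_ne inf_le_right fun heq => ?_, fun M hle hMle => ?_⟩
  · obtain ⟨w₁, hw₁, hw₁0⟩ := Submodule.exists_mem_ne_zero_of_ne_bot hW0
    obtain ⟨a, ha, haa⟩ := UnitPow.exists_nonisotropic hf hW hw₁ hw₁0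
    obtain ⟨p, hp, hp0⟩ := Submodule.exists_mem_ne_zero_of_ne_bot (p := P) fun h => by
      rw [h, finrank_bot] at hdP; omega
    obtain ⟨b, hb, hbb⟩ := UnitPow.exists_nonisotropic hf hPn hp hp0
    obtain ⟨t, ht⟩ := Unit.exists_norm hf.ne_refl hf.involutive
      (show σ (- f a a / f b b) = - f a a / f b b by rw [map_div₀, map_neg, Unit.self_fixed hf, Unit.self_fixed hf])
    have hab : f b a = 0 := Unit.eq_zero_comm hf (hWP a ha b hb)
    have hvv : f (a + t • b) (a + t • b) = 0 := by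
      rw [Unit.self_add_smul hf, ht, hab, mul_zero, map_zero, div_mul_cancel₀ _ hbb]; ring
    have hg := hT _ hvv c₀ hc₀
    rw [← heq] at hg
    have h1 := mem_subspaceStabilizer.1 hg.1 a ha
    have hpair : f a (a + t • b) = f a a := by
      rw [Unit.add_right hf, Unit.smul_right hf, hWP a ha b hb, mul_zero, add_zero]
    rw [Unit.formTv_mulVec hf hvv, hpair] at h1
    have h2 : t • b ∈ W := (W.add_mem_iff_right ha).1
      ((W.smul_mem_iff (mul_ne_zero hc₀0 haa)).1 ((W.add_mem_iff_right ha).1 h1))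
    have h3 := Submodule.disjoint_def.1 hdis _ h2 (P.smul_mem t hb)
    rw [h3, add_zero] at hvv
    exact haa hvv
  by_cases hall : M ≤ Cfsg.Geo.subspaceStabilizer W
  · exact Or.inl (le_antisymm (le_inf hall hMle) hle)
  right
  refine le_antisymm hMle (UnitGen.specialUnitary_le_of_formTv_mem hF (by omega) (by omega) ?_)
  set C : Set (Fin 3 → F) := {v | ∀ c, c + c ^ q = 0 → formTv f v c ∈ M} with hC
  have hMi : ∀ g ∈ M, Symp.IsIsometry f g := fun g hg => hiso (hMle hg).1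
  have hconjT : ∀ g ∈ M, ∀ v c, f v v = 0 →
      g * formTv f v c * g⁻¹ = formTv f ((g : Matrix (Fin 3) (Fin 3) F) *ᵥ v) c := by
    intro g hg v c hv
    rw [← UnitOrth.root_zero hf hv, UnitOrth.root_conj hf (hMi g hg) hv (Unit.zero_right hf v), mulVec_zero,
      UnitOrth.root_zero hf (by rw [hMi g hg, hv])]
  have hCinv : ∀ g ∈ M, ∀ v, f v v = 0 → v ∈ C → (g : Matrix (Fin 3) (Fin 3) F) *ᵥ v ∈ C := by
    intro g hg v hv hvC c hc
    rw [← hconjT g hg v c hv]
    exact M.mul_mem (M.mul_mem hg (hvC c hc)) (M.inv_mem hg)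
  have hPC : ∀ v ∈ P, f v v = 0 → v ∈ C := fun v hv hvv c hc => hle
    ⟨mem_subspaceStabilizer.2 fun x hx => by
      rw [Unit.formTv_mulVec hf hvv, hWP x hx v hv, mul_zero, zero_smul, add_zero]
      exact hx, hT v hvv c hc⟩
  have hWC : ∀ v ∈ W, f v v = 0 → v ∈ C := fun v hv hvv c hc => hle
    ⟨mem_subspaceStabilizer.2 fun x hx => by
      rw [Unit.formTv_mulVec hf hvv]
      exact W.add_mem hx (W.smul_mem _ hv), hT v hvv c hc⟩
  have hPP : ∀ a b γ, a ∈ P → b ∈ P → f a a = 0 → f a b = 0 → γ + σ γ = - f b b →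
      UnitOrth.root f a b γ ∈ M := fun a b γ ha hb haa hab hγ => hle
    ⟨mem_subspaceStabilizer.2 fun x hx => by
      rw [UnitOrth.root_mulVec hf haa hab, hWP x hx a ha, hWP x hx b hb]
      simpa using hx, hrootI a b γ haa hab hγ⟩
  obtain ⟨w, hw, hww, hwW, hwP⟩ : ∃ w ∈ C, f w w = 0 ∧ w ∉ W ∧ w ∉ P := by
    by_contra h
    push Not at h
    obtain ⟨g, hgM, hg⟩ := SetLike.not_le_iff_exists.1 hall
    apply hg
    have hgi := hMi g hgM
    have himg : ∀ p ∈ P, f p p = 0 → (g : Matrix (Fin 3) (Fin 3) F) *ᵥ p ∈ W ∨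
        (g : Matrix (Fin 3) (Fin 3) F) *ᵥ p ∈ P := fun p hp hpp => or_iff_not_imp_left.2
      (h _ (hCinv g hgM p hpp (hPC p hp hpp)) (by rw [hgi, hpp]))
    let L := Matrix.toLin' (g : Matrix (Fin 3) (Fin 3) F)
    have hfr : Module.finrank F (P.map L) = Module.finrank F P :=
      (Submodule.equivMapOfInjective _ (by
        simpa [L, Function.Injective] using gl_mulVec_injective g) P).finrank_eq.symm
    have hall' : ∀ p ∈ P, f p p = 0 → (g : Matrix (Fin 3) (Fin 3) F) *ᵥ p ∈ P := by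
      intro p₀ hp₀ hp₀p
      rcases himg p₀ hp₀ hp₀p with h1 | h1
      swap
      · exact h1
      by_cases hp₀0 : p₀ = 0
      · rw [hp₀0, mulVec_zero]; exact P.zero_mem
      exfalso
      have hall'' : ∀ p ∈ P, f p p = 0 → (g : Matrix (Fin 3) (Fin 3) F) *ᵥ p ∈ W := by
        intro p hp hpp
        by_cases hp0 : p = 0
        · rw [hp0, mulVec_zero]; exact W.zero_mem
        obtain ⟨z, hz, hzz, h0z, hpz⟩ := UnitCentres.exists_iso_both hf hPn (by omega)
          (hPn p₀ hp₀ hp₀0).2 (hPn p hp hp0).2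
        have hzW : (g : Matrix (Fin 3) (Fin 3) F) *ᵥ z ∈ W := (himg z hz hzz).resolve_right fun hzP => by
          apply h0z
          rw [← hgi, hWP _ h1 _ hzP]
        exact (himg p hp hpp).resolve_right fun hpP => by
          apply hpz
          rw [← hgi, Unit.eq_zero_comm hf (hWP _ hzW _ hpP)]
      have hle' : P.map L ≤ W := Submodule.map_le_iff_le_comap.2
        (UnitCentres.le_of_iso hf hPn (by omega) fun v hv hvv => by simpa [L] using hall'' v hv hvv)
      have := Submodule.finrank_mono hle'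
      omega
    have hle' : P.map L ≤ P := Submodule.map_le_iff_le_comap.2
      (UnitCentres.le_of_iso hf hPn (by omega) fun v hv hvv => by simpa [L] using hall' v hv hvv)
    have hPeq := Submodule.eq_of_le_of_finrank_eq hle' hfr
    rw [mem_subspaceStabilizer]
    intro x hx
    rw [← Unit.perp_perp hf W, Unit.mem_perp hf]
    intro y hy
    rw [← hP, ← hPeq] at hy
    obtain ⟨y', hy', rfl⟩ := hy
    rw [Matrix.toLin'_apply, hgi]
    exact hWP x hx y' hy'
  obtain ⟨wW, hwW', wP, hwP', hwsum⟩ := hdec w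
  -- the unitary group of the plane is transitive on the vectors of given norm
  have hW1 : Module.finrank F W = 1 := by
    have h1 : Module.finrank F W ≠ 0 := fun h => hW0 (Submodule.finrank_eq_zero.1 h)
    omega
  obtain ⟨a₀, ha₀, ha₀0⟩ := Submodule.exists_mem_ne_zero_of_ne_bot hW0
  obtain ⟨a', ha', ha'a⟩ := UnitPow.exists_nonisotropic hf hW ha₀ ha₀0
  have hWline : ∀ x ∈ W, ∃ k : F, x = k • a' := fun x hx => by
    have ha'0 : a' ≠ 0 := fun h => ha'a (by rw [h, Unit.zero_left hf])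
    have hsp : Submodule.span F {a'} = W :=
      Submodule.eq_of_le_of_finrank_eq (Submodule.span_le.2 (Set.singleton_subset_iff.2 ha'))
        (by rw [finrank_span_singleton ha'0, hW1])
    rw [← hsp] at hx
    obtain ⟨k, rfl⟩ := Submodule.mem_span_singleton.1 hx
    exact ⟨k, rfl⟩
  intro v hv c hc
  by_cases hvP : v ∈ P
  · exact hPC v hvP hv c hc
  obtain ⟨vW, hvW', vP, hvP', hvsum⟩ := hdec v
  obtain ⟨k, hk⟩ := hWline vW hvW'
  obtain ⟨l, hl⟩ := hWline wW hwW'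
  have hk0 : k ≠ 0 := fun h => hvP (by rw [← hvsum, hk, h, zero_smul, zero_add]; exact hvP')
  have hl0 : l ≠ 0 := fun h => hwP (by rw [← hwsum, hl, h, zero_smul, zero_add]; exact hwP')
  have hnorm : ∀ (k : F) (p : Fin 3 → F), k ≠ 0 → p ∈ P → f (k • a' + p) (k • a' + p) = 0 →
      f (k⁻¹ • p) (k⁻¹ • p) = - f a' a' := by
    intro k p hk0 hp h
    have hσk : σ k ≠ 0 := (RingEquiv.map_ne_zero_iff σ).2 hk0
    rw [Unit.add_left hf, Unit.add_right hf, Unit.add_right hf, hWP _ (W.smul_mem k ha') p hp,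
      Unit.eq_zero_comm hf (hWP _ (W.smul_mem k ha') p hp), Unit.smul_left hf, Unit.smul_right hf, add_zero,
      zero_add] at h
    rw [Unit.smul_left hf, Unit.smul_right hf, map_inv₀]
    field_simp
    linear_combination h
  obtain ⟨g, hgI, hga, hgp⟩ := exists_move hF ha'a (hWP _ ha' _ (P.smul_mem l⁻¹ hwP'))
    (hWP _ ha' _ (P.smul_mem k⁻¹ hvP'))
    (hnorm l wP hl0 hwP' (by rw [← hl, hwsum]; exact hww)) (hnorm k vP hk0 hvP' (by rw [← hk, hvsum]; exact hv))
  have hgW : g ∈ Cfsg.Geo.subspaceStabilizer W := mem_subspaceStabilizer.2 fun x hx => by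
    obtain ⟨t, rfl⟩ := hWline x hx
    rw [mulVec_smul, hga]
    exact W.smul_mem t ha'
  have hgw : (g : Matrix (Fin 3) (Fin 3) F) *ᵥ w = (l / k) • v := by
    rw [← hvsum, ← hwsum, hk, hl, mulVec_add, mulVec_smul, hga,
      show wP = l • (l⁻¹ • wP) by rw [smul_smul, mul_inv_cancel₀ hl0, one_smul], mulVec_smul, hgp]
    match_scalars <;> field_simp
  have h1 := hCinv g (hle ⟨hgW, hgI⟩) w hww hw
  rw [hgw] at h1
  obtain ⟨t, htdef⟩ : ∃ t, t = l / k := ⟨_, rfl⟩
  have ht : t ≠ 0 := htdef ▸ div_ne_zero hl0 hk0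
  rw [← htdef] at h1
  have hσt : σ t ≠ 0 := (RingEquiv.map_ne_zero_iff σ).2 ht
  have h2 := h1 (c / (t * σ t)) (by
    show c / (t * σ t) + σ (c / (t * σ t)) = 0
    rw [map_div₀, map_mul, hf.involutive, mul_comm (σ t) t, ← add_div,
      show c + σ c = 0 from hc, zero_div])
  rwa [Unit.formTv_smul hf t hv, mul_div_cancel₀ _ (mul_ne_zero ht hσt)] at h2

end CfsgLib.DimThreeMax
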