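import Cfsg.Agent.Lib.DimThreeMax.UnitWitness
import Cfsg.Agent.Lib.DimThreeMax.UnitSubspace
import Cfsg.Agent.Lib.GeomClasses.RationalField

/-!
Geometric maximal subgroups of the three-dimensional special unitary group, given the socles of the residual
maximal subgroups.
-/

set_option autoImplicit false
set_option linter.style.haveILetI false

namespace CfsgLib.DimThreeMax

open Matrix GeomClasses
open scoped MatrixGroups

variable {F : Type*} [Field F] [Fintype F] {q : ℕ}

local notation "SU₃" q => (Cfsg.GU 3 F q ⊓ Cfsg.Geo.specialLinear (Fin 3) F)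

theorem two_ne_zero_of_odd_root (hF : Fintype.card F = q ^ 2) (h : Odd q) : (2 : F) ≠ 0 :=
  two_ne_zero_of_odd (hF ▸ h.pow)

theorem charP_of_root_prime (hF : Fintype.card F = q ^ 2) (hp : q.Prime) : CharP F q := by
  obtain ⟨p, hc⟩ := CharP.exists F
  have hp' := CharP.char_is_prime F p
  have h0 : ((q ^ 2 : ℕ) : F) = 0 := by rw [← hF]; exact FiniteField.cast_card_eq_zero F
  rwa [← (Nat.prime_dvd_prime_iff_eq hp' hp).1 (hp'.dvd_of_dvd_pow ((CharP.cast_eq_zero_iff F p _).1 h0))]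

/-- The square of a prime is not an odd power. -/
theorem not_odd_index_of_prime (hp : q.Prime) {t r : ℕ} (h : q ^ 2 = t ^ r) (hr : r.Prime) (ho : Odd r) : False := by
  obtain ⟨k, -, rfl⟩ := (Nat.dvd_prime_pow hp).1 (show t ∣ q ^ 2 by rw [h]; exact dvd_pow_self t hr.ne_zero)
  rw [← pow_mul] at h
  have := Nat.pow_right_injective hp.two_le h
  have h2 : r = 2 := (Nat.prime_dvd_prime_iff_eq hr Nat.prime_two).1 ⟨k, by rw [this, mul_comm]⟩
  subst h2
  exact (Nat.not_odd_iff_even.2 even_two) ho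

/-- A subfield of odd prime index has at least four elements, and its cube at most `q²`. -/
theorem odd_index_facts (hF : Fintype.card F = q ^ 2) {F₀ : Subfield F} {r : ℕ} (hr : r.Prime) (ho : Odd r)
    (hcard : Fintype.card F = Nat.card F₀ ^ r) :
    4 ≤ Nat.card F₀ ∧ Nat.card F₀ ^ 3 ≤ q ^ 2 ∧ (5 ≤ r → Nat.card F₀ ^ 5 ≤ q ^ 2) := by
  obtain ⟨h1, -, -, -⟩ := subfield_facts hr hcard
  rw [hF] at hcard
  have hr3 : 3 ≤ r := by
    have := hr.two_le
    rcases ho with ⟨k, rfl⟩
    omega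
  refine ⟨?_, hcard ▸ Nat.pow_le_pow_right (by omega) hr3, fun h5 => hcard ▸ Nat.pow_le_pow_right (by omega) h5⟩
  by_contra hlt
  push Not at hlt
  have htp : (Nat.card F₀).Prime := by
    rcases (show Nat.card F₀ = 2 ∨ Nat.card F₀ = 3 by omega) with h | h <;> rw [h] <;> norm_num
  obtain ⟨k, -, hk⟩ := (Nat.dvd_prime_pow htp).1 (show q ∣ Nat.card F₀ ^ r by rw [← hcard]; exact dvd_pow_self q two_ne_zero)
  rw [hk, ← pow_mul] at hcard
  have := Nat.pow_right_injective htp.two_le hcard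
  rcases ho with ⟨j, rfl⟩
  omega

/-- Two root groups over the whole field. -/
theorem exists_roots_top (hF : Fintype.card F = q ^ 2) :
    ∃ u w u' w' : Fin 3 → F,
      ∃ D : RootData (UnitPow.conj hF : F →+* F) (Cfsg.hermForm 3 F q) (⊤ : Subfield F) u w,
        RootData (UnitPow.conj hF : F →+* F) (Cfsg.hermForm 3 F q) (⊤ : Subfield F) u' w' ∧
          q ^ 2 ≤ Nat.card D.group := by
  obtain ⟨x, hx⟩ := Unit.exists_moved (UnitPow.conj_ne_refl hF)
  obtain ⟨u, w, u', w', D, D', -⟩ := exists_roots_moved hF (E := ⊤) ⟨x, Subfield.mem_top x, hx⟩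
  refine ⟨u, w, u', w', D, D', le_of_eq_of_le ?_ D.card_group_ge⟩
  rw [← hF, ← Nat.card_eq_fintype_card]
  exact (Nat.card_congr Subfield.topEquiv.toEquiv).symm

/-- Maximality of the standard monomial group. -/
theorem unit_monomial_maximal (hres : UnitResidual F q) (hF : Fintype.card F = q ^ 2) (hq : 3 ≤ q) (h5 : q ≠ 5) :
    Cfsg.Geo.IsMaximalIn (SU₃ q) (Cfsg.Geo.decompositionStabilizer (axes F) ⊓ (SU₃ q)) := by
  classical
  obtain ⟨u, hu, huq, hT, hmem, T, hTle, hTcard⟩ := unit_torus hF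
  have hdvd : ∀ k, u ^ k = 1 → q + 1 ∣ k := fun k hk => hu ▸ orderOf_dvd_of_pow_eq_one hk
  refine isMaximalIn_of_forall (lt_of_le_of_ne inf_le_right fun heq => ?_) fun H hH hle => ?_
  · obtain ⟨x, w, -, -, D, -, hD⟩ := exists_roots_top hF
    have h := monomial_unipotent axes_decomposition (T := D.group)
      (le_trans (le_of_le_of_eq (D.group_le_su hF) heq.symm) inf_le_left) D.group_unipotent
    have := Nat.le_of_dvd (by norm_num) h
    nlinarith
  have hTH := hT.mono hle
  have hu2 : (u : F) ^ 2 ≠ 1 := fun h => by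
    have := Nat.le_of_dvd (by norm_num) (hdvd 2 (Units.ext (by simpa using h)))
    omega
  rcases unit_cases hF hq hH (fun W hW0 hW => hTH.irreducible hu2 hW hW0) with
    ⟨-, D, hD, rfl⟩ | ⟨-, -, K, hK, -, rfl⟩ | ⟨F₀, r, P, hr, ho, hcard, -, rfl⟩ |
    ⟨hodd, h7, F₀, P, hcard, -, rfl⟩ | ⟨R, hp, hp3, hp11, hE, -, -, rfl⟩ | hR
  · obtain ⟨P, hP, hDP⟩ := exists_orth_axes_map hF hD
    exact eq_of_le_of_card hle (by rw [hDP, card_map_inf_su hP])
  · exfalso
    have h3 := field_cube hK hTH.base.1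
    rw [← Units.val_pow_eq_pow_val, dg_pow] at h3
    set M := (dg ((![u, u⁻¹, 1] : Fin 3 → Fˣ) ^ 3) : GL (Fin 3) F).val with hM
    have hMv : M *ᵥ Pi.single 2 1 = Pi.single 2 1 := by
      rw [hM, dg_mulVec]; funext i; fin_cases i <;> simp
    have hM1 : M = 1 := by
      by_contra hne
      obtain ⟨y, hy, hxy⟩ := hK.inv _ (K.sub_mem h3 K.one_mem) (sub_ne_zero.2 hne)
      rw [hK.comm _ (K.sub_mem h3 K.one_mem) _ hy] at hxy
      have := congrArg (· *ᵥ (Pi.single 2 1 : Fin 3 → F)) hxy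
      simp only [← Matrix.mulVec_mulVec, Matrix.sub_mulVec, hMv, Matrix.one_mulVec, sub_self,
        Matrix.mulVec_zero] at this
      simpa using congrFun this 2
    have := congrFun (congrFun hM1 0) 0
    rw [hM, dg_val] at this
    have := Nat.le_of_dvd (by norm_num) (hdvd 3 (Units.ext (by simpa using this)))
    omega
  · exfalso
    obtain ⟨h4, h3, -⟩ := odd_index_facts hF hr ho hcard
    haveI : Finite F₀ := Subtype.finite
    have hqt : q ≤ Nat.card F₀ := by
      rcases (hTH.mono inf_le_left).subfield le_rfl with h | h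
      · have hk : u ^ (Nat.card F₀ - 1) = 1 := by
          apply Units.ext
          rw [Units.val_pow_eq_pow_val, Units.val_one]
          apply mul_right_cancel₀ u.ne_zero
          rw [one_mul, ← pow_succ, Nat.sub_add_cancel (by omega), h]
        have := Nat.le_of_dvd (by omega) (hdvd _ hk)
        omega
      · have hk : u ^ (Nat.card F₀ + 1) = 1 := by
          apply Units.ext
          rw [Units.val_pow_eq_pow_val, Units.val_one, pow_succ, h, inv_mul_cancel₀ u.ne_zero]
        have := Nat.le_of_dvd (by omega) (hdvd _ hk)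
        omega
    have := Nat.pow_le_pow_left hqt 3
    nlinarith
  · exfalso
    have h2 := two_ne_zero_of_odd_root hF hodd
    have hu1 : u ^ (q + 1) = 1 := hu ▸ pow_orderOf_eq_one u
    have hne : u ≠ u⁻¹ ^ 2 := fun e => by
      have : u ^ 3 = 1 := by
        calc u ^ 3 = u * u ^ 2 := by rw [← pow_succ']
          _ = u⁻¹ ^ 2 * u ^ 2 := by rw [← e]
          _ = 1 := by rw [← mul_pow, inv_mul_cancel, one_pow]
      have := Nat.le_of_dvd (by norm_num) (hdvd 3 this)
      omega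
    have hg := repeated_ratio h2 hne (hle (hmem ![u, u, u⁻¹ ^ 2]
      (fun i => by fin_cases i <;> simp [hu1, ← pow_mul, mul_comm 2, pow_mul u _ 2, inv_pow])
      (by simp [← pow_two, ← mul_pow]))).1
    have hfix := pow_eq_self_of_mem hF hcard _ hg
    rw [div_pow, Units.val_pow_eq_pow_val, Units.val_inv_eq_inv_val, ← pow_mul, mul_comm 2 q, pow_mul,
      inv_pow (u : F) q, huq, inv_inv] at hfix
    have h6 : u ^ 6 = 1 := by
      apply Units.ext
      rw [Units.val_pow_eq_pow_val, Units.val_one]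
      field_simp at hfix
      linear_combination -hfix
    have := Nat.le_of_dvd (by norm_num) (hdvd 6 h6)
    omega
  · exfalso
    have h2 := two_ne_zero_of_odd_root hF (hp.odd_of_ne_two (by omega))
    have hne : (-1 : Fˣ) ≠ 1 := fun h => h2 (by
      have := congrArg Units.val h
      simp at this
      linear_combination -this)
    have hev : ((-1 : Fˣ)) ^ (q + 1) = 1 := ((hp.odd_of_ne_two (by omega)).add_one).neg_one_pow
    have hv : ∀ v : Fin 3 → Fˣ, (∀ i, v i = 1 ∨ v i = -1) → v 0 * v 1 * v 2 = 1 →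
        dg v ∈ Cfsg.Geo.subgroupNormalizer R := fun v hv hv' =>
      (hle (hmem v (fun i => by rcases hv i with e | e <;> rw [e] <;> simp [hev]) hv')).1
    have hns : ∀ v : Fin 3 → Fˣ, ¬ (v 0 = v 1 ∧ v 1 = v 2) → dg v ∉ Cfsg.Geo.scalars (Fin 3) F := fun v hv h =>
      hv (dg_mem_scalars h)
    refine hE.no_four_group (hv ![-1, -1, 1] (fun i => by fin_cases i <;> simp) (by simp))
      (hv ![1, -1, -1] (fun i => by fin_cases i <;> simp) (by simp)) ?_ ?_ ?_
      (hns _ (by simp [hne, hne.symm])) (hns _ (by simp [hne, hne.symm])) ?_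
    · rw [dg_pow, ← dg_one]; congr 1; funext i; fin_cases i <;> simp
    · rw [dg_pow, ← dg_one]; congr 1; funext i; fin_cases i <;> simp
    · rw [dg_mul, dg_mul, mul_comm]
    · rw [dg_mul]; exact hns _ (by simp [hne, hne.symm])
  · exfalso
    obtain ⟨hp, hc⟩ := unit_residual_cases hres hH hR
    obtain ⟨hL, hA⟩ := unit_residual_dvd hH (hTle.trans hle)
    rw [hTcard] at hL hA
    -- the torus of exponent four
    have four : ∀ {A : Type} [Group A] [Finite A] (S : AlmostSimple H A) (k : ℕ),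
        Nat.card (MulAut A) = k * Nat.card A → k ∣ 4 → ¬ 16 ∣ Nat.card A → 4 ∣ q + 1 → False := by
      intro A _ _ S k hk hk4 h16 h4
      obtain ⟨j, hj⟩ := h4
      have hw : orderOf (u ^ j) = 4 := by
        rw [orderOf_pow' u (by omega), hu, hj, Nat.gcd_eq_right (Dvd.intro_left 4 rfl),
          Nat.mul_div_cancel _ (by omega)]
      exact four_torus_false S hk hk4 h16 hw hTH.perm fun v hv hv' =>
        hle (hmem v (fun i => by rw [hj, pow_mul, hv, one_pow]) hv')
    rcases hc with ⟨⟨S⟩, -, hmod⟩ | ⟨⟨S⟩, hmod⟩ | h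
    · have h12 := dvd_of_sq_dvd_1008 (hL S)
      have := Nat.le_of_dvd (by norm_num) h12
      haveI : Finite L32 := Nat.finite_of_card_ne_zero (by rw [card_l32]; norm_num)
      obtain rfl : q = 3 := by
        have : q ≤ 11 := by omega
        interval_cases q <;> first | omega | exact absurd hp (by norm_num) | exact absurd h12 (by decide)
      exact four S 2 (by rw [card_mulAut_l32, card_l32]) (by norm_num) (by rw [card_l32]; norm_num) (by norm_num)
    · have h12 := dvd_of_sq_dvd_4320 (hA S)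
      have := Nat.le_of_dvd (by norm_num) h12
      obtain rfl : q = 11 := by
        have : q ≤ 11 := by omega
        interval_cases q <;> first | omega | exact absurd hp (by norm_num) | exact absurd h12 (by decide)
      exact four S 4 (by rw [card_mulAut_alt_six, card_alt_six]) (by norm_num) (by rw [card_alt_six]; norm_num)
        (by norm_num)
    · exact h5 h

/-- The order `q² - q + 1` does not divide `3 (q² - 1)`. -/
theorem singer_sq_false (hq : 4 ≤ q) {m : ℕ} (hmq : m + q = q ^ 2 + 1) (h : m ∣ 3 * (q ^ 2 - 1)) : False := by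
  have h4 : 4 * q ≤ q ^ 2 := by rw [pow_two]; exact Nat.mul_le_mul_right q hq
  have e : 3 * (q ^ 2 - 1) = 3 * m + 3 * (q - 2) := by omega
  rw [e] at h
  have := Nat.le_of_dvd (by omega) ((Nat.dvd_add_right (Dvd.intro_left 3 rfl)).1 h)
  omega

/-- Maximality of the normalisers of cubic fields. -/
theorem unit_field_maximal (hres : UnitResidual F q) (hF : Fintype.card F = q ^ 2) (hq : 3 ≤ q) (hq3 : q ≠ 3)
    (hq5 : q ≠ 5) {K : Subalgebra F (Matrix (Fin 3) (Fin 3) F)} (hK : Cfsg.Geo.IsFieldSubalgebra 3 K)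
    (hadj : Cfsg.Geo.IsAdjointClosedFor (Cfsg.hermForm 3 F q) K) :
    Cfsg.Geo.IsMaximalIn (SU₃ q) (Cfsg.Geo.subalgebraNormalizer K ⊓ (SU₃ q)) := by
  classical
  obtain ⟨c, m, hc, hcS, hmq⟩ := exists_unit_singer hF hq hK hadj
  have hq4 : 4 ≤ q := by omega
  have h4q : 4 * q ≤ q ^ 2 := by rw [pow_two]; exact Nat.mul_le_mul_right q hq4
  refine isMaximalIn_of_forall (lt_of_le_of_ne inf_le_right fun heq => ?_) fun H hH hle => ?_
  · obtain ⟨x, w, -, -, D, -, hD⟩ := exists_roots_top hF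
    have h := field_unipotent hK (T := D.group)
      (le_trans (le_of_le_of_eq (D.group_le_su hF) heq.symm) inf_le_left) D.group_unipotent
    have := Nat.le_of_dvd (by norm_num) h
    nlinarith
  have hcH : c ∈ H := hle ⟨hc.normalizes, hcS⟩
  rcases unit_cases hF hq hH (fun W hW0 hW => hc.irreducible (hW hcH) hW0) with
    ⟨-, D, hD, rfl⟩ | ⟨-, -, L, hL, -, rfl⟩ | ⟨F₀, r, P, hr, ho, hcard, -, rfl⟩ |
    ⟨hodd, h7, F₀, P, hcard, -, rfl⟩ | ⟨R, hp, hp3, hp11, hE, -, -, rfl⟩ | hR
  · exact absurd hcH.1 (hc.not_monomial hD.decomp)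
  · rw [hc.field_unique hL hcH.1]
  · exfalso
    obtain ⟨h4, h3, h5⟩ := odd_index_facts hF hr ho hcard
    obtain ⟨d, hd1, hd3, hdvd⟩ := hc.subfield_bound hcH.1
    have hpos : 0 < Nat.card F₀ ^ d - 1 := by
      have := Nat.le_self_pow (show d ≠ 0 by omega) (Nat.card F₀)
      omega
    have hb := Nat.le_of_dvd (by omega) hdvd
    set t := Nat.card F₀
    rcases (show d ≤ 2 ∨ d = 3 by omega) with hd | rfl
    · have e1 : t ^ d ≤ t ^ 2 := Nat.pow_le_pow_right (by omega) hd
      have e2 : 4 * t ^ 2 ≤ t ^ 3 := by rw [pow_succ t 2, mul_comm]; exact Nat.mul_le_mul_left _ h4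
      omega
    · by_cases hr5 : 5 ≤ r
      · have e2 : 16 * t ^ 3 ≤ t ^ 5 := by
          rw [pow_add t 3 2, mul_comm]; exact Nat.mul_le_mul_left _ (Nat.pow_le_pow_left h4 2)
        have := h5 hr5
        omega
      · obtain rfl : r = 3 := by
          have := hr.two_le
          rcases ho with ⟨k, rfl⟩
          omega
        refine singer_sq_false hq4 hmq ?_
        rw [← hF, hcard]
        exact hdvd
  · exfalso
    have hcF : Nat.card F₀ = q := Nat.pow_left_injective two_ne_zero (hcard.symm.trans hF)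
    obtain ⟨d, hd1, hd3, hdvd⟩ := hc.subfield_bound hcH.1
    rw [hcF] at hdvd
    interval_cases d
    · rw [pow_one] at hdvd
      have := Nat.le_of_dvd (by omega) hdvd
      omega
    · exact singer_sq_false hq4 hmq hdvd
    · have hcube : m ∣ q ^ 3 + 1 := ⟨q + 1, by zify at hmq ⊢; linear_combination ((q : ℤ) + 1) * (-hmq)⟩
      have h3pos : 1 ≤ q ^ 3 := Nat.one_le_pow _ _ (by omega)
      have e : 3 * (q ^ 3 + 1) = 3 * (q ^ 3 - 1) + 6 := by omega
      have h6 := (Nat.dvd_add_right hdvd).1 (e ▸ hcube.mul_left 3)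
      have := Nat.le_of_dvd (by norm_num) h6
      omega
  · exfalso
    obtain ⟨ℓ, k, hℓ, h5, hpow, hns⟩ := hc.exists_prime_power
    exact hns (hE.prime_scalar (Subgroup.pow_mem _ hcH.1 k) hℓ h5 hpow)
  · exfalso
    obtain ⟨hp, hc'⟩ := unit_residual_cases hres hH hR
    obtain ⟨hL, hA⟩ := unit_residual_dvd hH ((Subgroup.zpowers_le).2 hcH)
    rw [hc.card_zpowers] at hL hA
    rcases hc' with ⟨⟨S⟩, -, hmod⟩ | ⟨⟨S⟩, hmod⟩ | h
    · have h13 : 13 ≤ q := by
        by_contra hlt
        push Not at hlt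
        interval_cases q <;> first | omega | exact absurd hp (by norm_num)
      have h63 : m ∣ 63 := (Nat.Coprime.pow_right 4 (Nat.coprime_two_right.2 hc.odd)).dvd_of_dvd_mul_left (hL S)
      have := Nat.le_of_dvd (by norm_num) h63
      have : 13 * q ≤ q ^ 2 := by rw [pow_two]; exact Nat.mul_le_mul_right q h13
      omega
    · have h11 : 11 ≤ q := by omega
      have h135 : m ∣ 135 := (Nat.Coprime.pow_right 5 (Nat.coprime_two_right.2 hc.odd)).dvd_of_dvd_mul_left (hA S)
      have hm135 := Nat.le_of_dvd (by norm_num) h135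
      have e : 11 * q ≤ q ^ 2 := by rw [pow_two]; exact Nat.mul_le_mul_right q h11
      have h13 : q ≤ 13 := by omega
      interval_cases q <;> first | omega | (obtain rfl : m = 111 := (by omega); norm_num at h135)
    · exact hq5 h

/-- Maximality of the standard subfield group of odd index. -/
theorem unit_subfield_maximal (hres : UnitResidual F q) (hF : Fintype.card F = q ^ 2) (hq : 3 ≤ q) {F₀ : Subfield F}
    {r : ℕ} (hr : r.Prime) (ho : Odd r) (hcard : Fintype.card F = Nat.card F₀ ^ r) :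
    Cfsg.Geo.IsMaximalIn (SU₃ q) (Cfsg.Geo.subfieldSubgroup F₀ (1 : GL (Fin 3) F) ⊓ (SU₃ q)) := by
  classical
  obtain ⟨h4, -, -⟩ := odd_index_facts hF hr ho hcard
  obtain ⟨-, -, htop, -⟩ := subfield_facts hr hcard
  haveI : Finite F₀ := Subtype.finite
  obtain ⟨u, w, u', w', D, D', huu⟩ := exists_roots_moved hF (exists_moved_subfield hF hr ho hcard)
  have hD := le_inf D.group_rat (D.group_le_su hF)
  have hD' := le_inf D'.group_rat (D'.group_le_su hF)
  have hcT : 4 ≤ Nat.card D.group := h4.trans D.card_group_ge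
  refine isMaximalIn_of_forall (lt_of_le_of_ne inf_le_right fun heq => ?_) fun H hH hle => ?_
  · obtain ⟨x, y, -, -, E, -, -⟩ := exists_roots_top hF
    exact htop (top_le_iff.1 (E.le_subfield (le_trans (le_of_le_of_eq (E.group_le_su hF) heq.symm) inf_le_left)))
  rcases unit_cases hF hq hH (fun W hW0 hW =>
      D.irreducible D' huu ((hD.trans hle).trans hW) ((hD'.trans hle).trans hW) hW0) with
    ⟨-, E, hE, rfl⟩ | ⟨-, -, K, hK, -, rfl⟩ | ⟨F₁, r₁, P, hr₁, ho₁, hcard₁, hP, rfl⟩ |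
    ⟨hodd, h7, F₁, P, hcard₁, -, rfl⟩ | ⟨R, hp, -, -, -, -, -, rfl⟩ | hR
  · exfalso
    obtain ⟨p, hchar⟩ := CharP.exists F
    haveI hpf : Fact p.Prime := ⟨CharP.char_is_prime F p⟩
    have h := monomial_unipotent hE.decomp ((hD.trans hle).trans inf_le_left) D.group_unipotent
    obtain ⟨k, hk⟩ := IsPGroup.iff_card.1 (D.group_isPGroup p)
    have := Nat.le_of_dvd (by norm_num) h
    have h6 : Nat.card D.group = 6 := by
      have h0 : Nat.card D.group ∈ Nat.divisors 6 := Nat.mem_divisors.2 ⟨h, by norm_num⟩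
      rw [show Nat.divisors 6 = {1, 2, 3, 6} by decide] at h0
      simp only [Finset.mem_insert, Finset.mem_singleton] at h0
      omega
    rw [h6] at hk
    have h2d : 2 ∣ p ^ k := hk ▸ (by norm_num)
    have h3d : 3 ∣ p ^ k := hk ▸ (by norm_num)
    have e2 := (Nat.prime_dvd_prime_iff_eq Nat.prime_two hpf.out).1 (Nat.prime_two.dvd_of_dvd_pow h2d)
    have e3 := (Nat.prime_dvd_prime_iff_eq Nat.prime_three hpf.out).1 (Nat.prime_three.dvd_of_dvd_pow h3d)
    omega
  · exfalso
    have := Nat.le_of_dvd (by norm_num) (field_unipotent hK ((hD.trans hle).trans inf_le_left) D.group_unipotent)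
    omega
  · have hsub := D.le_subfield ((hD.trans hle).trans inf_le_left)
    have heq : F₀ = F₁ := by
      by_contra hne
      exact (subfield_facts hr₁ hcard₁).2.2.1
        (Rational.subfield_eq_top_of_lt hr hcard (lt_of_le_of_ne hsub hne))
    subst heq
    obtain ⟨P', hP', hPP⟩ := exists_subfield_map_odd hF hr₁ ho₁ hcard₁ hP
    exact eq_of_le_of_card hle (by rw [hPP, card_map_inf_su hP'])
  · exfalso
    have hsub := D.le_subfield ((hD.trans hle).trans inf_le_left)
    have heq : F₀ = F₁ := by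
      by_contra hne
      exact (subfield_facts Nat.prime_two hcard₁).2.2.1
        (Rational.subfield_eq_top_of_lt hr hcard (lt_of_le_of_ne hsub hne))
    rw [hcard, heq] at hcard₁
    have h2 := Nat.pow_right_injective (subfield_facts hr (heq ▸ hcard)).1 hcard₁
    rw [h2] at ho
    exact (Nat.not_odd_iff_even.2 even_two) ho
  · exact absurd ho fun ho => not_odd_index_of_prime hp (hF.symm.trans hcard) hr ho
  · exact (not_odd_index_of_prime (unit_residual_cases hres hH hR).1 (hF.symm.trans hcard) hr ho).elim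

/-- Maximality of the standard subfield group of index two. -/
theorem unit_orthogonal_maximal (hres : UnitResidual F q) (hF : Fintype.card F = q ^ 2) (hodd : Odd q) (h7 : 7 ≤ q)
    {F₀ : Subfield F} (hcard : Fintype.card F = Nat.card F₀ ^ 2) :
    Cfsg.Geo.IsMaximalIn (SU₃ q) (Cfsg.Geo.subfieldSubgroup F₀ (1 : GL (Fin 3) F) ⊓ (SU₃ q)) := by
  classical
  have h2 := two_ne_zero_of_odd_root hF hodd
  obtain ⟨-, -, htop, -⟩ := subfield_facts Nat.prime_two hcard
  haveI : Finite F₀ := Subtype.finite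
  have hcF : Nat.card F₀ = q := Nat.pow_left_injective two_ne_zero (hcard.symm.trans hF)
  obtain ⟨u, w, u', w', D, D', huu⟩ := exists_roots_fixed hF h2 (pow_eq_self_of_mem hF hcard)
  have hD := le_inf D.group_rat (D.group_le_su hF)
  have hD' := le_inf D'.group_rat (D'.group_le_su hF)
  have hcT : 7 ≤ Nat.card D.group := (hcF ▸ h7).trans D.card_group_ge
  refine isMaximalIn_of_forall (lt_of_le_of_ne inf_le_right fun heq => ?_) fun H hH hle => ?_
  · obtain ⟨x, y, -, -, E, -, -⟩ := exists_roots_top hF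
    exact htop (top_le_iff.1 (E.le_subfield (le_trans (le_of_le_of_eq (E.group_le_su hF) heq.symm) inf_le_left)))
  rcases unit_cases hF (by omega) hH (fun W hW0 hW =>
      D.irreducible D' huu ((hD.trans hle).trans hW) ((hD'.trans hle).trans hW) hW0) with
    ⟨-, E, hE, rfl⟩ | ⟨-, -, K, hK, -, rfl⟩ | ⟨F₁, r, P, hr, ho, hcard₁, -, rfl⟩ |
    ⟨-, -, F₁, P, hcard₁, hP, rfl⟩ | ⟨R, hp, -, hp11, hE, -, -, rfl⟩ | hR
  · exfalso
    have := Nat.le_of_dvd (by norm_num)
      (monomial_unipotent hE.decomp ((hD.trans hle).trans inf_le_left) D.group_unipotent)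
    omega
  · exfalso
    have := Nat.le_of_dvd (by norm_num) (field_unipotent hK ((hD.trans hle).trans inf_le_left) D.group_unipotent)
    omega
  · exfalso
    have hsub := D.le_subfield ((hD.trans hle).trans inf_le_left)
    have heq : F₀ = F₁ := by
      by_contra hne
      exact (subfield_facts hr hcard₁).2.2.1
        (Rational.subfield_eq_top_of_lt Nat.prime_two hcard (lt_of_le_of_ne hsub hne))
    rw [← heq, hcard] at hcard₁
    rw [← Nat.pow_right_injective (subfield_facts Nat.prime_two hcard).1 hcard₁] at ho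
    exact (Nat.not_odd_iff_even.2 even_two) ho
  · have hsub := D.le_subfield ((hD.trans hle).trans inf_le_left)
    have heq : F₀ = F₁ := by
      by_contra hne
      exact (subfield_facts Nat.prime_two hcard₁).2.2.1
        (Rational.subfield_eq_top_of_lt Nat.prime_two hcard (lt_of_le_of_ne hsub hne))
    subst heq
    obtain ⟨P', hP', hPP⟩ := exists_subfield_map_two hF h2 hcard hP
    exact eq_of_le_of_card hle (by rw [hPP, card_map_inf_su hP'])
  · exfalso
    haveI := charP_of_root_prime hF hp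
    exact D.extra_false hE hp (by omega) ((hD.trans hle).trans inf_le_left)
  · exfalso
    obtain ⟨hp, hc⟩ := unit_residual_cases hres hH hR
    haveI := charP_of_root_prime hF hp
    haveI : Fact q.Prime := ⟨hp⟩
    obtain ⟨hL, hA⟩ := unit_residual_dvd hH (hD.trans hle)
    have hnot : ∀ N, ¬ q ∣ N → ¬ Nat.card D.group ∣ N := fun N hN =>
      pgroup_not_dvd hp (D.group_isPGroup q) (by omega) hN
    rcases hc with ⟨⟨S⟩, -, hmod⟩ | ⟨⟨S⟩, hmod⟩ | h
    · refine hnot _ (fun hd => ?_) (hL S)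
      have hd' : q ∣ 2 ^ 4 * 3 ^ 2 * 7 := hd.trans (by norm_num)
      rcases (Nat.Prime.dvd_mul hp).1 hd' with h | h
      rcases (Nat.Prime.dvd_mul hp).1 h with h | h
      · have := (Nat.prime_dvd_prime_iff_eq hp Nat.prime_two).1 (hp.dvd_of_dvd_pow h); omega
      · have := (Nat.prime_dvd_prime_iff_eq hp Nat.prime_three).1 (hp.dvd_of_dvd_pow h); omega
      · have := (Nat.prime_dvd_prime_iff_eq hp (by norm_num)).1 h; omega
    · refine hnot _ (fun hd => ?_) (hA S)
      have hd' : q ∣ 2 ^ 5 * 3 ^ 3 * 5 := hd.trans (by norm_num)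
      rcases (Nat.Prime.dvd_mul hp).1 hd' with h | h
      rcases (Nat.Prime.dvd_mul hp).1 h with h | h
      · have := (Nat.prime_dvd_prime_iff_eq hp Nat.prime_two).1 (hp.dvd_of_dvd_pow h); omega
      · have := (Nat.prime_dvd_prime_iff_eq hp Nat.prime_three).1 (hp.dvd_of_dvd_pow h); omega
      · have := (Nat.prime_dvd_prime_iff_eq hp (by norm_num)).1 h; omega
    · omega

/-- Maximality of the normaliser of a group of order 27 of similitudes. -/
theorem unit_symplecticType_maximal (hres : UnitResidual F q) (hF : Fintype.card F = q ^ 2) {p : ℕ}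
    {R : Subgroup (GL (Fin 3) F)} (hp : p.Prime) (hqp : q = p) (hp3 : p % 3 = 2) (hp11 : 11 ≤ p)
    (hsym : Cfsg.Geo.IsSymplecticTypeGroup 3 R) (habs : Cfsg.Geo.ActsAbsolutelyIrreducibly (Cfsg.Geo.matrixSet R))
    (hRs : R ≤ Cfsg.Geo.similarityGroup (Cfsg.hermForm 3 F q)) (hcard : Nat.card R = 27)
    (hcen : Nat.card (Subgroup.center R) = 3) :
    Cfsg.Geo.IsMaximalIn (SU₃ q) (Cfsg.Geo.subgroupNormalizer R ⊓ (SU₃ q)) := by
  classical
  subst hqp
  have hE : Extra27 R := ⟨hcard, hcen, habs⟩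
  have hexp : ∀ x ∈ R, x ^ 3 = 1 := by
    intro x hx
    have h1 := Monoid.pow_exponent_eq_one (⟨x, hx⟩ : R)
    rw [hsym.exponent_eq] at h1
    exact congrArg Subtype.val h1
  obtain ⟨u, hu, P, hP, hRP⟩ := hE.unitary_normal_form hF hp3 hexp hRs
  have huq : (u : F) ^ q = (u : F) ^ 2 := by
    conv_lhs => rw [← Nat.mod_add_div q 3, hp3, pow_add, pow_mul, hu.cube, one_pow, mul_one]
  haveI := charP_of_root_prime hF hp
  obtain ⟨hC, hRsu⟩ := unit_c6_witness hF hu huq hP
  rw [← hRP] at hC hRsu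
  refine isMaximalIn_of_forall (lt_of_le_of_ne inf_le_right fun heq => ?_) fun H hH hle => ?_
  · obtain ⟨x, y, -, -, D, -, -⟩ := exists_roots_top hF
    exact D.extra_false hE hp (by omega) (le_trans (le_of_le_of_eq (D.group_le_su hF) heq.symm) inf_le_left)
  have hCH := hC.mono hle
  rcases unit_cases hF (by omega) hH (fun W hW0 hW => hCH.irreducible hW hW0) with
    ⟨-, D, hD, rfl⟩ | ⟨-, -, K, hK, -, rfl⟩ | ⟨F₀, r, Q, hr, ho, hcard₁, -, rfl⟩ |
    ⟨-, -, F₀, Q, hcard₁, -, rfl⟩ | ⟨R₁, -, -, -, hE₁, hexp₁, hRs₁, rfl⟩ | hR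
  · exact absurd le_rfl ((hCH.mono inf_le_left).not_monomial hD.decomp)
  · exact absurd le_rfl ((hCH.mono inf_le_left).not_field hK)
  · exact (not_odd_index_of_prime hp (hF.symm.trans hcard₁) hr ho).elim
  · exfalso
    refine (hCH.mono inf_le_left).not_subfield (F₀ := F₀) (fun hmem => hu.diff ?_) le_rfl
    have := pow_eq_self_of_mem hF hcard₁ _ hmem
    rw [huq] at this
    rw [this, sub_self]
  · obtain ⟨v, hv, P₁, hP₁, hRP₁⟩ := hE₁.unitary_normal_form hF hp3 hexp₁ hRs₁
    refine eq_of_le_of_card hle ?_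
    rw [hRP₁, hRP, normalizer_map, normalizer_map, card_map_inf_su hP₁, card_map_inf_su hP, heis_eq hu hv]
  · exfalso
    obtain ⟨-, hc⟩ := unit_residual_cases hres hH hR
    rcases hc with ⟨⟨S⟩, -⟩ | ⟨⟨S⟩, -⟩ | h
    · have h27 := (unit_residual_dvd hH ((le_inf Subgroup.le_normalizer hRsu).trans hle)).1 S
      rw [hE.card] at h27
      norm_num at h27
    · refine hCH.not_alt_six (hH.1.le.trans inf_le_right) (fun h0 => ?_) S
      have := Nat.le_of_dvd (by norm_num) ((CharP.cast_eq_zero_iff F q 5).1 (by exact_mod_cast h0))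
      omega
    · omega

/-- The clauses of the list for `SU₃`, given the socles of the residual maximal subgroups. -/
theorem unit_list {F : Type*} [Field F] [Fintype F] (q : ℕ) (hF : Fintype.card F = q ^ 2) (hq : 3 ≤ q)
    (hres : UnitResidual F q) :
    (∀ W : Submodule F (Fin 3 → F), W ≠ ⊥ → Cfsg.Geo.IsTotallySingularFor (Cfsg.hermForm 3 F q) W → Cfsg.Geo.IsMaximalIn (Cfsg.GU 3 F q ⊓ Cfsg.Geo.specialLinear (Fin 3) F) (Cfsg.Geo.subspaceStabilizer W ⊓ (Cfsg.GU 3 F q ⊓ Cfsg.Geo.specialLinear (Fin 3) F))) ∧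
    (∀ W : Submodule F (Fin 3 → F), W ≠ ⊥ → Cfsg.Geo.IsNondegenerateOn (Cfsg.hermForm 3 F q) W → 2 * Module.finrank F W < 3 → Cfsg.Geo.IsMaximalIn (Cfsg.GU 3 F q ⊓ Cfsg.Geo.specialLinear (Fin 3) F) (Cfsg.Geo.subspaceStabilizer W ⊓ (Cfsg.GU 3 F q ⊓ Cfsg.Geo.specialLinear (Fin 3) F))) ∧
    (q ≠ 5 → ∀ D : Fin 3 → Submodule F (Fin 3 → F), Cfsg.Geo.IsNondegenerateMDecomposition (Cfsg.hermForm 3 F q) 1 D → Cfsg.Geo.IsMaximalIn (Cfsg.GU 3 F q ⊓ Cfsg.Geo.specialLinear (Fin 3) F) (Cfsg.Geo.decompositionStabilizer D ⊓ (Cfsg.GU 3 F q ⊓ Cfsg.Geo.specialLinear (Fin 3) F))) ∧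
    (q ≠ 3 → q ≠ 5 → ∀ K : Subalgebra F (Matrix (Fin 3) (Fin 3) F), Cfsg.Geo.IsFieldSubalgebra 3 K → Cfsg.Geo.IsAdjointClosedFor (Cfsg.hermForm 3 F q) K → Cfsg.Geo.IsMaximalIn (Cfsg.GU 3 F q ⊓ Cfsg.Geo.specialLinear (Fin 3) F) (Cfsg.Geo.subalgebraNormalizer K ⊓ (Cfsg.GU 3 F q ⊓ Cfsg.Geo.specialLinear (Fin 3) F))) ∧
    (∀ (F₀ : Subfield F) (r : ℕ) (P : Matrix.GeneralLinearGroup (Fin 3) F), r.Prime → Odd r → Fintype.card F = Nat.card F₀ ^ r → Cfsg.Geo.IsFormRationalStructure (Cfsg.hermForm 3 F q) F₀ 1 P → Cfsg.Geo.IsMaximalIn (Cfsg.GU 3 F q ⊓ Cfsg.Geo.specialLinear (Fin 3) F) (Cfsg.Geo.subfieldSubgroup F₀ P ⊓ (Cfsg.GU 3 F q ⊓ Cfsg.Geo.specialLinear (Fin 3) F))) ∧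
    (Odd q → 7 ≤ q → ∀ (F₀ : Subfield F) (P : Matrix.GeneralLinearGroup (Fin 3) F), Fintype.card F = Nat.card F₀ ^ 2 → Cfsg.Geo.IsFormRationalStructure (Cfsg.hermForm 3 F q) F₀ 1 P → Cfsg.Geo.IsMaximalIn (Cfsg.GU 3 F q ⊓ Cfsg.Geo.specialLinear (Fin 3) F) (Cfsg.Geo.subfieldSubgroup F₀ P ⊓ (Cfsg.GU 3 F q ⊓ Cfsg.Geo.specialLinear (Fin 3) F))) ∧
    (∀ (p : ℕ) (R : Subgroup (Matrix.GeneralLinearGroup (Fin 3) F)), p.Prime → q = p → p % 3 = 2 → 11 ≤ p → Cfsg.Geo.IsSymplecticTypeGroup 3 R → Cfsg.Geo.ActsAbsolutelyIrreducibly (Cfsg.Geo.matrixSet R) → R ≤ Cfsg.Geo.similarityGroup (Cfsg.hermForm 3 F q) → Nat.card R = 27 → Nat.card (Subgroup.center R) = 3 → Cfsg.Geo.IsMaximalIn (Cfsg.GU 3 F q ⊓ Cfsg.Geo.specialLinear (Fin 3) F) (Cfsg.Geo.subgroupNormalizer R ⊓ (Cfsg.GU 3 F q ⊓ Cfsg.Geo.specialLinear (Fin 3) F))) := by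
  refine ⟨fun W h0 hW => unit_singular_subspace_maximal q hF hq W h0 hW,
    fun W h0 hW hd => unit_nondegenerate_subspace_maximal q hF hq W h0 hW hd, fun h5 D hD => ?_,
    fun h3 h5 K hK hadj => unit_field_maximal hres hF hq h3 h5 hK hadj, fun F₀ r P hr ho hcard hP => ?_,
    fun hodd h7 F₀ P hcard hP => ?_,
    fun p R hp hqp hp3 hp11 hsym habs hRs hcard hcen =>
      unit_symplecticType_maximal hres hF hp hqp hp3 hp11 hsym habs hRs hcard hcen⟩
  · obtain ⟨P, hP, hDP⟩ := exists_orth_axes_map hF hD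
    exact su_maximal_of_std hP hDP (unit_monomial_maximal hres hF hq h5)
  · obtain ⟨P', hP', hPP⟩ := exists_subfield_map_odd hF hr ho hcard hP
    exact su_maximal_of_std hP' hPP (unit_subfield_maximal hres hF hq hr ho hcard)
  · obtain ⟨P', hP', hPP⟩ := exists_subfield_map_two hF (two_ne_zero_of_odd_root hF hodd) hcard hP
    exact su_maximal_of_std hP' hPP (unit_orthogonal_maximal hres hF hodd h7 hcard)

end CfsgLib.DimThreeMax
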