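import Cfsg.Agent.Lib.DimThreeMax.C6Normal
import Cfsg.Agent.Lib.DimThreeMax.LinearWitness
import Cfsg.Agent.Lib.DimThreeMax.Root
import Cfsg.Agent.Lib.GeomClasses.UnitPow
import Cfsg.Agent.Lib.GeomClasses.RationalField

/-!
Normal forms under the unitary group of the structures of dimension three.
-/

set_option autoImplicit false
set_option linter.style.haveILetI false

namespace CfsgLib.DimThreeMax

open Matrix GeomClasses
open scoped MatrixGroups

variable {F : Type*} [Field F] [Fintype F] {q : ℕ}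

local notation "SU₃" q => (Cfsg.GU 3 F q ⊓ Cfsg.Geo.specialLinear (Fin 3) F)

theorem hermForm_eq (hF : Fintype.card F = q ^ 2) :
    Cfsg.hermForm 3 F q = stdHerm (UnitPow.conj hF) := rfl

theorem mem_GU_iff_isometry (hF : Fintype.card F = q ^ 2) {g : GL (Fin 3) F} :
    g ∈ Cfsg.GU 3 F q ↔
      ∀ u v, stdHerm (UnitPow.conj hF) (g.val *ᵥ u) (g.val *ᵥ v) = stdHerm (UnitPow.conj hF) u v := by
  rw [UnitPow.mem_GU, hermForm_eq hF]

theorem su_map {P : GL (Fin 3) F} (hP : P ∈ Cfsg.GU 3 F q) :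
    (SU₃ q).map (conjMap P) = SU₃ q := by
  ext g
  rw [mem_map_conjMap]
  have hn : (Cfsg.Geo.specialLinear (Fin 3) F).Normal := MonoidHom.normal_ker _
  constructor
  · rintro ⟨h1, h2⟩
    have h1' := Subgroup.mul_mem _ (Subgroup.mul_mem _ hP h1) (Subgroup.inv_mem _ hP)
    have h2' := hn.conj_mem _ h2 P
    rw [show P * (P⁻¹ * g * P) * P⁻¹ = g by group] at h1' h2'
    exact ⟨h1', h2'⟩
  · rintro ⟨h1, h2⟩
    have h2' := hn.conj_mem _ h2 P⁻¹
    rw [inv_inv] at h2'
    exact ⟨Subgroup.mul_mem _ (Subgroup.mul_mem _ (Subgroup.inv_mem _ hP) h1) hP, h2'⟩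

theorem map_inf_su {P : GL (Fin 3) F} (hP : P ∈ Cfsg.GU 3 F q) (X : Subgroup (GL (Fin 3) F)) :
    (X.map (conjMap P)) ⊓ (SU₃ q) = (X ⊓ (SU₃ q)).map (conjMap P) := by
  rw [Subgroup.map_inf X (SU₃ q) _ (MulAut.conj P).injective, su_map hP]

theorem card_map_inf_su {P : GL (Fin 3) F} (hP : P ∈ Cfsg.GU 3 F q) (X : Subgroup (GL (Fin 3) F)) :
    Nat.card ((X.map (conjMap P)) ⊓ (SU₃ q) : Subgroup (GL (Fin 3) F)) =
      Nat.card (X ⊓ (SU₃ q) : Subgroup (GL (Fin 3) F)) := by
  rw [map_inf_su hP, card_map_conjMap]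

theorem su_maximal_of_std {X Y : Subgroup (GL (Fin 3) F)} {P : GL (Fin 3) F} (hP : P ∈ Cfsg.GU 3 F q)
    (h : Y = X.map (conjMap P)) (hX : Cfsg.Geo.IsMaximalIn (SU₃ q) (X ⊓ (SU₃ q))) :
    Cfsg.Geo.IsMaximalIn (SU₃ q) (Y ⊓ (SU₃ q)) := by
  have h1 : Cfsg.Geo.IsMaximalIn ((SU₃ q).map (conjMap P)) ((X ⊓ (SU₃ q)).map (conjMap P)) :=
    isMaximalIn_map (MulAut.conj P) hX
  rw [su_map hP] at h1
  rw [h, map_inf_su hP]
  exact h1

/-- Orthogonal decompositions into lines. -/
theorem exists_orth_axes_map (hF : Fintype.card F = q ^ 2) {D : Fin 3 → Submodule F (Fin 3 → F)}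
    (hD : Cfsg.Geo.IsNondegenerateMDecomposition (Cfsg.hermForm 3 F q) 1 D) :
    ∃ P ∈ Cfsg.GU 3 F q,
      Cfsg.Geo.decompositionStabilizer D = (Cfsg.Geo.decompositionStabilizer (axes F)).map (conjMap P) := by
  have hf := UnitPow.isUnitaryForm_hermForm hF 3
  obtain ⟨v, hv, hDv⟩ := decomposition_vectors hD.decomp
  have hvv : ∀ i, Cfsg.hermForm 3 F q (v i) (v i) ≠ 0 := by
    intro i h0
    obtain ⟨-, x, hx, hne⟩ := hD.nondegenerate i (v i) (by rw [hDv]; exact Submodule.mem_span_singleton_self _)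
      (hv.ne_zero i)
    rw [hDv] at hx
    obtain ⟨c, rfl⟩ := Submodule.mem_span_singleton.1 hx
    exact hne (by rw [Unit.smul_right hf, h0, mul_zero])
  choose c hc0 hc using fun i => exists_normalized hf (hvv i)
  have horth : ∀ i j, Cfsg.hermForm 3 F q (c i • v i) (c j • v j) = if i = j then 1 else 0 := by
    intro i j
    by_cases h : i = j
    · subst h; rw [if_pos rfl]; exact hc i
    · rw [if_neg h, Unit.smul_left hf, Unit.smul_right hf, hD.orthogonal i j h (v i)
        (by rw [hDv]; exact Submodule.mem_span_singleton_self _) (v j)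
        (by rw [hDv]; exact Submodule.mem_span_singleton_self _), mul_zero, mul_zero]
  obtain ⟨P, hP⟩ := exists_columns (orthonormal_independent hf horth)
  refine ⟨P, (mem_GU_iff_isometry hF).2 fun x y => ?_, stabilizer_eq_map fun i => ?_⟩
  · rw [← hermForm_eq hF, hP, hP]
    have key : ∀ w : Fin 3 → Fin 3 → F,
        (∀ i j, Cfsg.hermForm 3 F q (w i) (w j) = if i = j then 1 else 0) →
        Cfsg.hermForm 3 F q (∑ i, x i • w i) (∑ i, y i • w i) = Cfsg.hermForm 3 F q x y := fun w hw => by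
      rw [(Unit.sesq hf).sum_left]
      simp only [(Unit.sesq hf).sum_right, (Unit.sesq hf).smul_left, (Unit.sesq hf).smul_right, hw]
      simp [Cfsg.hermForm, UnitPow.conj_apply]
    exact key (fun i => c i • v i) horth
  · have e : P.val *ᵥ (Pi.single i 1 : Fin 3 → F) = c i • v i := by
      rw [hP]; simp [Pi.single_apply]
    rw [hDv, axes, Submodule.map_span, Set.image_singleton, Matrix.toLin'_apply, e,
      Submodule.span_singleton_smul_eq (hc0 i).isUnit]

/-- Changing the rational basis does not change a subfield group. -/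
theorem subfieldSubgroup_mul {F₀ : Subfield F} (P : GL (Fin 3) F) {b : GL (Fin 3) F}
    (hb : b ∈ Cfsg.Geo.subfieldSubgroup F₀ (1 : GL (Fin 3) F)) :
    Cfsg.Geo.subfieldSubgroup F₀ (P * b) = Cfsg.Geo.subfieldSubgroup F₀ P := by
  rw [subfieldSubgroup_map F₀ (P * b), subfieldSubgroup_map F₀ P]
  ext g
  rw [mem_map_conjMap, mem_map_conjMap,
    show (P * b)⁻¹ * g * (P * b) = b⁻¹ * (P⁻¹ * g * P) * b by group]
  constructor
  · intro h
    have := Subgroup.mul_mem _ (Subgroup.mul_mem _ hb h) (Subgroup.inv_mem _ hb)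
    rwa [show b * (b⁻¹ * (P⁻¹ * g * P) * b) * b⁻¹ = P⁻¹ * g * P by group] at this
  · intro h
    exact Subgroup.mul_mem _ (Subgroup.mul_mem _ (Subgroup.inv_mem _ hb) h) hb

/-- Rational matrices with a scalar factor. -/
theorem smul_rat_mem {F₀ : Subfield F} (M : GL (Fin 3) F₀) (c : Fˣ) :
    ∃ b ∈ Cfsg.Geo.subfieldSubgroup F₀ (1 : GL (Fin 3) F),
      ∀ x : Fin 3 → F, b.val *ᵥ x = (c : F) • (M.val.map (fun a : F₀ => (a : F)) *ᵥ x) := by
  refine ⟨Units.map (Matrix.scalar (Fin 3) : F →+* Matrix (Fin 3) (Fin 3) F).toMonoidHom c *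
      Matrix.GeneralLinearGroup.map (F₀.subtype : F₀ →+* F) M, ?_, fun x => ?_⟩
  · rw [subfieldSubgroup_eq]
    exact Subgroup.mul_mem _ (Subgroup.mem_sup_right ⟨c, rfl⟩) (Subgroup.mem_sup_left ⟨M, rfl⟩)
  · rw [gl_mul_mulVec]
    show Matrix.scalar (Fin 3) (c : F) *ᵥ _ = _
    rw [Matrix.scalar_apply, ← Matrix.smul_one_eq_diagonal, Matrix.smul_mulVec, Matrix.one_mulVec]
    rfl

theorem isometry_of_rational {F₀ : Subfield F} {σ : F ≃+* F} {f g : (Fin 3 → F) → (Fin 3 → F) → F}
    (hf : IsSesq (σ : F →+* F) f) (hg : IsSesq (σ : F →+* F) g)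
    (h : ∀ x y : Fin 3 → F₀, f (fun i => (x i : F)) (fun i => (y i : F)) = g (fun i => (x i : F)) (fun i => (y i : F))) :
    ∀ x y, f x y = g x y := by
  intro x y
  rw [pi_eq_sum_univ' x, pi_eq_sum_univ' y]
  simp only [hf.sum_left, hg.sum_left, hf.sum_right, hg.sum_right, hf.smul_left, hf.smul_right, hg.smul_left,
    hg.smul_right]
  refine Finset.sum_congr rfl fun i _ => Finset.sum_congr rfl fun j _ => ?_
  have e : ∀ i : Fin 3, (fun k => (((Pi.single i 1 : Fin 3 → F₀)) k : F)) = Pi.single i 1 := fun i => by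
    funext k
    by_cases hk : k = i
    · subst hk; simp
    · simp [Pi.single_eq_of_ne hk]
  have := h (Pi.single i 1) (Pi.single j 1)
  rw [e, e] at this
  rw [this]

/-- Subfields of odd prime index are moved by the involution. -/
theorem exists_moved_subfield (hF : Fintype.card F = q ^ 2) {F₀ : Subfield F} {r : ℕ} (hr : r.Prime)
    (hro : Odd r) (hcard : Fintype.card F = Nat.card F₀ ^ r) : ∃ x ∈ F₀, x ^ q ≠ x := by
  classical
  by_contra hall
  push Not at hall
  have h2 := UnitPow.two_le hF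
  let K : Subfield F := (UnitPow.conj hF).toRingHom.eqLocusField (RingHom.id F)
  have hle : F₀ ≤ K := fun x hx => hall x hx
  have hK : F₀ = K := by
    by_contra hne
    have htop := Rational.subfield_eq_top_of_lt hr hcard (lt_of_le_of_ne hle hne)
    exact UnitPow.conj_ne_refl hF (RingEquiv.ext fun x => (htop ▸ Subfield.mem_top x : x ∈ K))
  haveI : Finite F₀ := Subtype.finite
  have h0 : 2 ≤ Nat.card F₀ := Finite.one_lt_card
  -- at most q fixed elements
  have hup : Nat.card F₀ ≤ q := by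
    letI : Fintype F₀ := Fintype.ofFinite _
    have hne : (Polynomial.X ^ q - Polynomial.X : Polynomial F) ≠ 0 :=
      FiniteField.X_pow_card_sub_X_ne_zero F h2
    have hsub : (Finset.univ.image fun a : F₀ => (a : F)) ⊆
        (Polynomial.X ^ q - Polynomial.X : Polynomial F).roots.toFinset := by
      intro x hx
      obtain ⟨a, -, rfl⟩ := Finset.mem_image.1 hx
      rw [Multiset.mem_toFinset, Polynomial.mem_roots hne]
      simp [hall a a.2]
    have h1 := Finset.card_le_card hsub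
    rw [Finset.card_image_of_injective _ Subtype.val_injective, Finset.card_univ] at h1
    rw [Nat.card_eq_fintype_card]
    refine h1.trans ((Multiset.toFinset_card_le _).trans ((Polynomial.card_roots' _).trans ?_))
    rw [FiniteField.X_pow_card_sub_X_natDegree_eq F h2]
  -- the fixed multiplicative group has order at least q - 1
  obtain ⟨g, hg⟩ := IsCyclic.exists_ofOrder_eq_natCard (α := Fˣ)
  rw [Nat.card_units, Nat.card_eq_fintype_card, hF] at hg
  have hqq : q ^ 2 - 1 = (q + 1) * (q - 1) := by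
    rw [pow_two, ← mul_self_tsub_one]
  have hmem : (g : F) ^ (q + 1) ∈ F₀ := by
    rw [hK]
    show ((g : F) ^ (q + 1)) ^ q = (g : F) ^ (q + 1)
    have : (g : F) ^ (q * q) = g := by rw [← pow_two, ← hF, FiniteField.pow_card]
    rw [← pow_mul, show (q + 1) * q = q * q + q by ring, pow_add, this, pow_succ']
  have hlow : q ≤ Nat.card F₀ := by
    let a : F₀ := ⟨(g : F) ^ (q + 1), hmem⟩
    have ha : a ≠ 0 := fun h => pow_ne_zero (q + 1) g.ne_zero (congrArg Subtype.val h)
    have h1 := orderOf_dvd_natCard (Units.mk0 a ha)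
    rw [Nat.card_units] at h1
    have e : g ^ ((q + 1) * (Nat.card F₀ - 1)) = 1 := by
      apply Units.ext
      have h3 : a ^ (Nat.card F₀ - 1) = 1 := by
        have := pow_card_eq_one' (x := Units.mk0 a ha)
        rw [Nat.card_units] at this
        simpa using congrArg Units.val this
      rw [Units.val_pow_eq_pow_val, Units.val_one, pow_mul]
      exact congrArg Subtype.val h3
    have h4 := orderOf_dvd_of_pow_eq_one e
    rw [hg, hqq] at h4
    have := Nat.le_of_dvd (by omega) ((Nat.mul_dvd_mul_iff_left (by omega)).1 h4)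
    omega
  have h5 : Nat.card F₀ = q := le_antisymm hup hlow
  rw [hF, h5] at hcard
  have := Nat.pow_right_injective h2 hcard
  rw [← this] at hro
  exact (Nat.not_odd_iff_even.2 even_two) hro

/-- Subfield groups of odd index carrying the form. -/
theorem exists_subfield_map_odd (hF : Fintype.card F = q ^ 2) {F₀ : Subfield F} {r : ℕ} (hr : r.Prime)
    (hro : Odd r) (hcard : Fintype.card F = Nat.card F₀ ^ r) {P : GL (Fin 3) F}
    (hP : Cfsg.Geo.IsFormRationalStructure (Cfsg.hermForm 3 F q) F₀ 1 P) :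
    ∃ P' ∈ Cfsg.GU 3 F q, Cfsg.Geo.subfieldSubgroup F₀ P =
      (Cfsg.Geo.subfieldSubgroup F₀ (1 : GL (Fin 3) F)).map (conjMap P') := by
  classical
  have hh := UnitPow.isUnitaryForm_hermForm hF 3
  set f := Cfsg.hermForm 3 F q with hfd
  haveI : Finite F₀ := Subtype.finite
  letI : Fintype F₀ := Fintype.ofFinite _
  let σ₀ : F₀ ≃+* F₀ :=
    { toFun := fun a => ⟨(a : F) ^ q, pow_mem a.2 q⟩
      invFun := fun a => ⟨(a : F) ^ q, pow_mem a.2 q⟩
      left_inv := fun a => Subtype.ext ((UnitPow.conj hF).left_inv _)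
      right_inv := fun a => Subtype.ext ((UnitPow.conj hF).right_inv _)
      map_mul' := fun a b => Subtype.ext (mul_pow (a : F) (b : F) q)
      map_add' := fun a b => Subtype.ext (UnitPow.add_pow_q hF (a : F) b) }
  let up : (Fin 3 → F₀) → (Fin 3 → F) := fun x i => (x i : F)
  have hin : ∀ x y, f (P.val *ᵥ up x) (P.val *ᵥ up y) ∈ F₀ := fun x y => by
    have := hP (up x) (up y) (fun i => (x i).2) (fun i => (y i).2)
    rwa [one_mul] at this
  let g₀ : (Fin 3 → F₀) → (Fin 3 → F₀) → F₀ := fun x y => ⟨_, hin x y⟩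
  have hup_add : ∀ x y, up (x + y) = up x + up y := fun x y => funext fun i => by simp [up]
  have hup_smul : ∀ (c : F₀) x, up (c • x) = (c : F) • up x := fun c x => funext fun i => by simp [up]
  have hg₀ : Cfsg.Geo.IsUnitaryForm σ₀ g₀ :=
    { ne_refl := fun h => by
        obtain ⟨x, hx, hxq⟩ := exists_moved_subfield hF hr hro hcard
        exact hxq (congrArg Subtype.val (DFunLike.congr_fun h ⟨x, hx⟩))
      involutive := fun a => σ₀.left_inv a
      add_left := fun x y v => Subtype.ext (by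
        show f (P.val *ᵥ up (x + y)) _ = f _ _ + f _ _
        rw [hup_add, mulVec_add, Unit.add_left hh])
      smul_left := fun c x v => Subtype.ext (by
        show f (P.val *ᵥ up (c • x)) _ = (c : F) * f _ _
        rw [hup_smul, mulVec_smul, Unit.smul_left hh])
      herm := fun v w => Subtype.ext (hh.herm _ _)
      nondegenerate := fun v hv => by
        have hv0 : P.val *ᵥ up v ≠ 0 := gl_mulVec_ne_zero P fun h => hv (funext fun i =>
          Subtype.ext (congrFun h i))
        have key : ∀ i, up (Pi.single i 1) = Pi.single i 1 := fun i => by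
          funext k
          by_cases hk : k = i
          · subst hk; simp [up]
          · simp [up, Pi.single_eq_of_ne hk]
        obtain ⟨⟨x, hx⟩, -⟩ := hh.nondegenerate _ hv0
        obtain ⟨i, hi⟩ : ∃ i, f (P.val *ᵥ Pi.single i 1) (P.val *ᵥ up v) ≠ 0 := by
          by_contra hc
          push Not at hc
          obtain ⟨z, rfl⟩ : ∃ z, x = P.val *ᵥ z := ⟨_, (gl_mulVec_inv_mulVec P x).symm⟩
          rw [pi_eq_sum_univ' z, mulVec_sum, (Unit.sesq hh).sum_left] at hx
          exact hx (Finset.sum_eq_zero fun i _ => by rw [mulVec_smul, Unit.smul_left hh, hc, mul_zero])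
        rw [← key] at hi
        exact ⟨⟨Pi.single i 1, fun h => hi (congrArg Subtype.val h)⟩,
          ⟨Pi.single i 1, fun h => Unit.ne_zero_comm hh hi (congrArg Subtype.val h)⟩⟩ }
  obtain ⟨M, hM⟩ := exists_orthonormal hg₀
  obtain ⟨b, hb, hbv⟩ := smul_rat_mem M (1 : Fˣ)
  refine ⟨P * b, (mem_GU_iff_isometry hF).2 ?_,
    by rw [← subfieldSubgroup_map, subfieldSubgroup_mul P hb]⟩
  refine isometry_of_rational (F₀ := F₀) (σ := UnitPow.conj hF) ?_
    (Unit.sesq (stdHerm_isUnitary (UnitPow.conj_ne_refl hF) hh.involutive)) ?_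
  · exact
      { add_left := fun x y v => by
          rw [← hermForm_eq hF, mulVec_add, Unit.add_left (UnitPow.isUnitaryForm_hermForm hF 3)]
        smul_left := fun c x v => by
          rw [← hermForm_eq hF, mulVec_smul, Unit.smul_left (UnitPow.isUnitaryForm_hermForm hF 3)]
        add_right := fun v x y => by
          rw [← hermForm_eq hF, mulVec_add, Unit.add_right (UnitPow.isUnitaryForm_hermForm hF 3)]
        smul_right := fun c v x => by
          rw [← hermForm_eq hF, mulVec_smul, Unit.smul_right (UnitPow.isUnitaryForm_hermForm hF 3)]; rfl }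
  · intro x y
    have hv : ∀ z : Fin 3 → F₀, (P * b).val *ᵥ up z = P.val *ᵥ up (M.val *ᵥ z) := fun z => by
      rw [gl_mul_mulVec, hbv, Units.val_one, one_smul]
      congr 1
    show stdHerm _ ((P * b).val *ᵥ up x) ((P * b).val *ᵥ up y) = _
    rw [hv, hv, ← hermForm_eq hF]
    have := congrArg Subtype.val (hM x y)
    rw [show Cfsg.hermForm 3 F q (P.val *ᵥ up (M.val *ᵥ x)) (P.val *ᵥ up (M.val *ᵥ y)) = _ from this]
    simp [hermForm_eq hF, stdHerm, σ₀, UnitPow.conj_apply]

/-- The fixed subfield. -/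
theorem pow_eq_self_of_mem (hF : Fintype.card F = q ^ 2) {F₀ : Subfield F}
    (hcard : Fintype.card F = Nat.card F₀ ^ 2) : ∀ x ∈ F₀, x ^ q = x := by
  intro x hx
  haveI : Finite F₀ := Subtype.finite
  letI : Fintype F₀ := Fintype.ofFinite _
  rw [hF] at hcard
  have := congrArg Subtype.val (FiniteField.pow_card (⟨x, hx⟩ : F₀))
  rw [← Nat.card_eq_fintype_card, ← Nat.pow_left_injective two_ne_zero hcard] at this
  exact this

/-- Sum of three squares. -/
theorem squares_nondegenerate {K : Type*} [Field K] (h2 : (2 : K) ≠ 0) :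
    Cfsg.Geo.IsNondegenerateQuadraticForm (fun x : Fin 3 → K => x 0 ^ 2 + x 1 ^ 2 + x 2 ^ 2) := by
  have hp : ∀ x y : Fin 3 → K, QuadraticMap.polar (fun x : Fin 3 → K => x 0 ^ 2 + x 1 ^ 2 + x 2 ^ 2) x y =
      2 * (x 0 * y 0 + x 1 * y 1 + x 2 * y 2) := fun x y => by simp [QuadraticMap.polar]; ring
  refine ⟨fun c v => by simp; ring, ⟨?_, ?_, ?_, ?_⟩, fun v hv => ?_⟩
  · intro x y v; simp [hp]; ring
  · intro c x v; simp [hp]; ring
  · intro v x y; simp [hp]; ring
  · intro c v x; simp [hp]; ring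
  obtain ⟨i, hi⟩ : ∃ i, v i ≠ 0 := by
    by_contra hc
    push Not at hc
    exact hv (funext hc)
  have h : QuadraticMap.polar (fun x : Fin 3 → K => x 0 ^ 2 + x 1 ^ 2 + x 2 ^ 2) (Pi.single i 1) v = 2 * v i := by
    rw [hp]; fin_cases i <;> simp
  refine ⟨⟨Pi.single i 1, ?_⟩, ⟨Pi.single i 1, ?_⟩⟩
  · rw [h]; exact mul_ne_zero h2 hi
  · rw [QuadraticMap.polar_comm, h]; exact mul_ne_zero h2 hi

/-- Subfield groups of index two carrying the form. -/
theorem exists_subfield_map_two (hF : Fintype.card F = q ^ 2) (h2 : (2 : F) ≠ 0) {F₀ : Subfield F}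
    (hcard : Fintype.card F = Nat.card F₀ ^ 2) {P : GL (Fin 3) F}
    (hP : Cfsg.Geo.IsFormRationalStructure (Cfsg.hermForm 3 F q) F₀ 1 P) :
    ∃ P' ∈ Cfsg.GU 3 F q, Cfsg.Geo.subfieldSubgroup F₀ P =
      (Cfsg.Geo.subfieldSubgroup F₀ (1 : GL (Fin 3) F)).map (conjMap P') := by
  classical
  have hh := UnitPow.isUnitaryForm_hermForm hF 3
  set f := Cfsg.hermForm 3 F q with hfd
  haveI : Finite F₀ := Subtype.finite
  letI : Fintype F₀ := Fintype.ofFinite _
  have hfix := pow_eq_self_of_mem hF hcard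
  let up : (Fin 3 → F₀) → (Fin 3 → F) := fun x i => (x i : F)
  have hin : ∀ x y, f (P.val *ᵥ up x) (P.val *ᵥ up y) ∈ F₀ := fun x y => by
    have := hP (up x) (up y) (fun i => (x i).2) (fun i => (y i).2)
    rwa [one_mul] at this
  have hsym : ∀ x y, f (P.val *ᵥ up x) (P.val *ᵥ up y) = f (P.val *ᵥ up y) (P.val *ᵥ up x) := fun x y => by
    conv_lhs => rw [hh.herm]
    exact hfix _ (hin y x)
  have hup_add : ∀ x y, up (x + y) = up x + up y := fun x y => funext fun i => by simp [up]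
  have hup_smul : ∀ (c : F₀) x, up (c • x) = (c : F) • up x := fun c x => funext fun i => by simp [up]
  let Q₀ : (Fin 3 → F₀) → F₀ := fun x => ⟨_, hin x x⟩
  have hQadd : ∀ x y, (Q₀ (x + y) : F) = (Q₀ x : F) + Q₀ y + 2 * f (P.val *ᵥ up x) (P.val *ᵥ up y) := by
    intro x y
    show f (P.val *ᵥ up (x + y)) (P.val *ᵥ up (x + y)) = _
    rw [hup_add, mulVec_add, Unit.add_left hh, Unit.add_right hh, Unit.add_right hh, hsym y x]
    simp [Q₀]; ring
  have hpolar : ∀ x y, ((QuadraticMap.polar Q₀ x y : F₀) : F) = 2 * f (P.val *ᵥ up x) (P.val *ᵥ up y) := by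
    intro x y
    simp only [QuadraticMap.polar, AddSubgroupClass.coe_sub, hQadd]
    ring
  have h20 : (2 : F₀) ≠ 0 := fun h => h2 (by simpa [map_ofNat] using congrArg (F₀.subtype : F₀ →+* F) h)
  have hQ₀ : Cfsg.Geo.IsNondegenerateQuadraticForm Q₀ := by
    refine ⟨fun c v => Subtype.ext ?_, ⟨?_, ?_, ?_, ?_⟩, fun v hv => ?_⟩
    · show f (P.val *ᵥ up (c • v)) (P.val *ᵥ up (c • v)) = _
      rw [hup_smul, mulVec_smul, Unit.smul_left hh, Unit.smul_right hh, UnitPow.conj_apply, hfix _ c.2]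
      simp [Q₀, up]; ring
    · intro x y v; apply Subtype.ext
      rw [AddMemClass.coe_add, hpolar, hpolar, hpolar, hup_add, mulVec_add, Unit.add_left hh]; ring
    · intro c x v; apply Subtype.ext
      rw [MulMemClass.coe_mul, hpolar, hpolar, hup_smul, mulVec_smul, Unit.smul_left hh]; ring
    · intro v x y; apply Subtype.ext
      rw [AddMemClass.coe_add, hpolar, hpolar, hpolar, hup_add, mulVec_add, Unit.add_right hh]; ring
    · intro c v x; apply Subtype.ext
      rw [MulMemClass.coe_mul, hpolar, hpolar, hup_smul, mulVec_smul, Unit.smul_right hh, UnitPow.conj_apply,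
        hfix _ c.2]
      ring
    have hv0 : P.val *ᵥ up v ≠ 0 := gl_mulVec_ne_zero P fun h => hv (funext fun i =>
      Subtype.ext (congrFun h i))
    obtain ⟨⟨x, hx⟩, -⟩ := hh.nondegenerate _ hv0
    have key : ∀ i, up (Pi.single i 1) = Pi.single i 1 := fun i => by
      funext k
      by_cases hk : k = i
      · subst hk; simp [up]
      · simp [up, Pi.single_eq_of_ne hk]
    obtain ⟨i, hi⟩ : ∃ i, f (P.val *ᵥ up (Pi.single i 1)) (P.val *ᵥ up v) ≠ 0 := by
      by_contra hc
      push Not at hc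
      obtain ⟨z, rfl⟩ : ∃ z, x = P.val *ᵥ z := ⟨_, (gl_mulVec_inv_mulVec P x).symm⟩
      rw [pi_eq_sum_univ' z, mulVec_sum, (Unit.sesq hh).sum_left] at hx
      exact hx (Finset.sum_eq_zero fun i _ => by rw [mulVec_smul, Unit.smul_left hh, ← key, hc, mul_zero])
    refine ⟨⟨Pi.single i 1, ?_⟩, ⟨Pi.single i 1, ?_⟩⟩
    · exact fun h => mul_ne_zero h2 hi (by rw [← hpolar, h, ZeroMemClass.coe_zero])
    · exact fun h => mul_ne_zero h2 hi (by rw [← hpolar, QuadraticMap.polar_comm, h, ZeroMemClass.coe_zero])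
  obtain ⟨M, d, hd, hM⟩ := exists_stdQuad h20 hQ₀
  obtain ⟨M₁, d₁, hd₁, hM₁⟩ := exists_stdQuad h20 (squares_nondegenerate (K := F₀) h20)
  set N := M * M₁⁻¹ with hNdef
  have hN : ∀ x, Q₀ (N.val *ᵥ x) = d / d₁ * (x 0 ^ 2 + x 1 ^ 2 + x 2 ^ 2) := by
    intro x
    have h1 := hM₁ ((M₁⁻¹ : GL (Fin 3) F₀).val *ᵥ x)
    simp only [gl_mulVec_inv_mulVec] at h1
    rw [hNdef, gl_mul_mulVec, hM, h1]
    field_simp
  set e := d / d₁
  have he : (e : F) ≠ 0 := fun h => div_ne_zero hd hd₁ (Subtype.ext h)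
  obtain ⟨s, hs⟩ := Unit.exists_norm hh.ne_refl hh.involutive
    (show UnitPow.conj hF (e : F)⁻¹ = (e : F)⁻¹ by rw [UnitPow.conj_apply, inv_pow, hfix _ e.2])
  have hs0 : s ≠ 0 := fun h => by rw [h, zero_mul] at hs; exact inv_ne_zero he hs.symm
  obtain ⟨b, hb, hbv⟩ := smul_rat_mem N (Units.mk0 s hs0)
  refine ⟨P * b, (mem_GU_iff_isometry hF).2 ?_,
    by rw [← subfieldSubgroup_map, subfieldSubgroup_mul P hb]⟩
  refine isometry_of_rational (F₀ := F₀) (σ := UnitPow.conj hF) ?_
    (Unit.sesq (stdHerm_isUnitary (UnitPow.conj_ne_refl hF) hh.involutive)) ?_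
  · exact
      { add_left := fun x y v => by
          rw [← hermForm_eq hF, mulVec_add, Unit.add_left (UnitPow.isUnitaryForm_hermForm hF 3)]
        smul_left := fun c x v => by
          rw [← hermForm_eq hF, mulVec_smul, Unit.smul_left (UnitPow.isUnitaryForm_hermForm hF 3)]
        add_right := fun v x y => by
          rw [← hermForm_eq hF, mulVec_add, Unit.add_right (UnitPow.isUnitaryForm_hermForm hF 3)]
        smul_right := fun c v x => by
          rw [← hermForm_eq hF, mulVec_smul, Unit.smul_right (UnitPow.isUnitaryForm_hermForm hF 3)]; rfl }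
  · intro x y
    have hv : ∀ z : Fin 3 → F₀, (P * b).val *ᵥ up z = s • (P.val *ᵥ up (N.val *ᵥ z)) := fun z => by
      rw [gl_mul_mulVec, hbv, mulVec_smul, Units.val_mk0]
      congr 2
    show stdHerm _ ((P * b).val *ᵥ up x) ((P * b).val *ᵥ up y) = _
    rw [hv, hv, ← hermForm_eq hF, Unit.smul_left (UnitPow.isUnitaryForm_hermForm hF 3),
      Unit.smul_right (UnitPow.isUnitaryForm_hermForm hF 3)]
    have h4 : 2 * f (P.val *ᵥ up (N.val *ᵥ x)) (P.val *ᵥ up (N.val *ᵥ y)) =
        2 * (e : F) * ((x 0 : F) * y 0 + (x 1 : F) * y 1 + (x 2 : F) * y 2) := by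
      rw [← hpolar, QuadraticMap.polar, ← mulVec_add, hN, hN, hN]
      simp
      ring
    have h5 : f (P.val *ᵥ up (N.val *ᵥ x)) (P.val *ᵥ up (N.val *ᵥ y)) =
        (e : F) * ((x 0 : F) * y 0 + (x 1 : F) * y 1 + (x 2 : F) * y 2) :=
      mul_left_cancel₀ h2 (h4.trans (by ring))
    rw [show Cfsg.hermForm 3 F q (P.val *ᵥ up (N.val *ᵥ x)) (P.val *ᵥ up (N.val *ᵥ y)) = _ from h5,
      ← mul_assoc, hs, ← mul_assoc, inv_mul_cancel₀ he, one_mul]
    simp [Cfsg.hermForm, Fin.sum_univ_three, hfix]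

/-- Groups of order 27 of similitudes. -/
theorem Extra27.unitary_normal_form (hF : Fintype.card F = q ^ 2) (hq : q % 3 = 2) {R : Subgroup (GL (Fin 3) F)}
    (h : Extra27 R) (hexp : ∀ x ∈ R, x ^ 3 = 1)
    (hle : R ≤ Cfsg.Geo.similarityGroup (Cfsg.hermForm 3 F q)) :
    ∃ (u : Fˣ) (_ : CubeRoot u) (P : GL (Fin 3) F), P ∈ Cfsg.GU 3 F q ∧ R = (heis u).map (conjMap P) := by
  obtain ⟨u, hu, P, hP⟩ := h.normal_form hexp
  have hf := UnitPow.isUnitaryForm_hermForm hF 3
  set f := Cfsg.hermForm 3 F q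
  set σ := UnitPow.conj hF
  have huq : (u : F) ^ q = (u : F) ^ 2 := by
    conv_lhs => rw [← Nat.mod_add_div q 3, hq, pow_add, pow_mul, hu.cube, one_pow, mul_one]
  -- similitudes of order three are isometries
  have hiso : ∀ g ∈ R, ∀ x y, f (g.val *ᵥ x) (g.val *ᵥ y) = f x y := by
    intro g hg
    obtain ⟨c, hc⟩ := hle hg
    obtain ⟨v, hv⟩ : ∃ v, f v v ≠ 0 := by
      obtain ⟨v, hv, -⟩ := exists_next hf (k := 0) (by norm_num) (u := ![]) (fun i => i.elim0)
      exact ⟨v, by rw [hv]; exact one_ne_zero⟩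
    have hcq : (c : F) ^ q = c := by
      have h2 := hf.herm (g.val *ᵥ v) (g.val *ᵥ v)
      rw [hc, map_mul, ← hf.herm v v, UnitPow.conj_apply] at h2
      exact (mul_right_cancel₀ hv h2).symm
    have hc3 : (c : F) ^ 3 = 1 := by
      have e : (g ^ 3).val *ᵥ v = v := by rw [hexp g hg, Units.val_one, Matrix.one_mulVec]
      have e3 : f ((g ^ 3).val *ᵥ v) ((g ^ 3).val *ᵥ v) = (c : F) ^ 3 * f v v := by
        rw [pow_succ, pow_two, gl_mul_mulVec, gl_mul_mulVec, hc, hc, hc]; ring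
      rw [e] at e3
      exact (mul_eq_right₀ hv).1 e3.symm
    have hc1 : (c : F) = 1 := by
      have e : (c : F) ^ q = (c : F) ^ 2 := by
        conv_lhs => rw [← Nat.mod_add_div q 3, hq, pow_add, pow_mul, hc3, one_pow, mul_one]
      rw [hcq, pow_two] at e
      exact (mul_eq_left₀ c.ne_zero).1 e.symm
    intro x y
    rw [hc, hc1, one_mul]
  obtain ⟨hcl, hsh, -⟩ := heis_mem hu
  have hmem : ∀ g ∈ heis u, P * g * P⁻¹ ∈ R := fun g hg => by rw [hP]; exact ⟨g, hg, rfl⟩
  set G : (Fin 3 → F) → (Fin 3 → F) → F := fun x y => f (P.val *ᵥ x) (P.val *ᵥ y) with hG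
  have hinv : ∀ g ∈ heis u, ∀ x y, G (g.val *ᵥ x) (g.val *ᵥ y) = G x y := by
    intro g hg x y
    have := hiso _ (hmem g hg) (P.val *ᵥ x) (P.val *ᵥ y)
    simpa only [gl_mul_mulVec, gl_inv_mulVec_mulVec] using this
  have hGs : IsSesq (σ : F →+* F) G :=
    { add_left := fun x y v => by simp only [hG, mulVec_add, Unit.add_left hf]
      smul_left := fun c x v => by simp only [hG, mulVec_smul, Unit.smul_left hf]
      add_right := fun v x y => by simp only [hG, mulVec_add, Unit.add_right hf]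
      smul_right := fun c v x => by simp only [hG, mulVec_smul, Unit.smul_right hf]; rfl }
  set a := G (Pi.single 0 1) (Pi.single 0 1) with ha
  have hsv : ∀ i : Fin 3, (shift F).val *ᵥ (Pi.single i 1 : Fin 3 → F) = Pi.single (i + 1) 1 := by
    intro i
    rw [shift_mulVec]
    funext k
    fin_cases i <;> fin_cases k <;> simp
  have hdiag : ∀ i : Fin 3, G (Pi.single i 1) (Pi.single i 1) = a := by
    have h1 : G (Pi.single 1 1) (Pi.single 1 1) = a := by
      have := hinv _ hsh (Pi.single 0 1) (Pi.single 0 1)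
      rwa [hsv] at this
    intro i
    fin_cases i
    · exact ha.symm
    · exact h1
    · have := hinv _ hsh (Pi.single 1 1) (Pi.single 1 1)
      rw [hsv] at this
      exact this.trans h1
  have hoff : ∀ i j : Fin 3, i ≠ j → G (Pi.single i 1) (Pi.single j 1) = 0 := by
    intro i j hij
    have hcv : ∀ i : Fin 3, (clock u).val *ᵥ (Pi.single i 1 : Fin 3 → F) =
        ((![1, u, u ^ 2] : Fin 3 → Fˣ) i : F) • Pi.single i 1 := by
      intro i
      rw [clock, dg_mulVec]
      funext k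
      by_cases hk : k = i
      · subst hk; simp
      · simp [Pi.single_eq_of_ne hk]
    have := hinv _ hcl (Pi.single i 1) (Pi.single j 1)
    rw [hcv, hcv, hGs.smul_left, hGs.smul_right, RingHom.coe_coe, UnitPow.conj_apply, ← mul_assoc] at this
    by_contra h0
    have h1 := (mul_eq_right₀ h0).1 this
    have hs := hu.sq_ne
    have hn := hu.ne
    have h3 := hu.cube
    have h4 : ((u : F) ^ 2) ^ q = u := by
      rw [← pow_mul, mul_comm, pow_mul, huq, ← pow_mul, show 2 * 2 = 3 + 1 from rfl, pow_succ, h3, one_mul]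
    have hc : ((![1, u, u ^ 2] : Fin 3 → Fˣ) i : F) * ((![1, u, u ^ 2] : Fin 3 → Fˣ) j : F) ^ q = u ∨
        ((![1, u, u ^ 2] : Fin 3 → Fˣ) i : F) * ((![1, u, u ^ 2] : Fin 3 → Fˣ) j : F) ^ q = (u : F) ^ 2 := by
      fin_cases i <;> fin_cases j <;> simp [huq, h4] at hij ⊢ <;>
        first
          | exact Or.inr (pow_two _).symm
          | exact Or.inl (by linear_combination (u : F) * h3)
    rcases hc with hc | hc
    · exact hn (hc.symm.trans h1)
    · exact hs (hc.symm.trans h1)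
  have hGx : ∀ x y, G x y = a * stdHerm σ x y := by
    intro x y
    rw [pi_eq_sum_univ' x, pi_eq_sum_univ' y]
    simp only [hGs.sum_left, hGs.sum_right, hGs.smul_left, hGs.smul_right, RingHom.coe_coe]
    rw [← pi_eq_sum_univ' x, ← pi_eq_sum_univ' y]
    simp only [stdHerm, Fin.sum_univ_three, hdiag]
    rw [hoff 0 1 (by decide), hoff 0 2 (by decide), hoff 1 0 (by decide), hoff 1 2 (by decide),
      hoff 2 0 (by decide), hoff 2 1 (by decide)]
    ring
  have ha0 : a ≠ 0 := by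
    intro h0
    obtain ⟨⟨x, hx⟩, -⟩ := hf.nondegenerate (P.val *ᵥ Pi.single 0 1) (gl_mulVec_ne_zero P (by simp))
    apply hx
    have := hGx ((P⁻¹ : GL (Fin 3) F).val *ᵥ x) (Pi.single 0 1)
    simp only [hG, gl_mulVec_inv_mulVec] at this
    rw [this, h0, zero_mul]
  obtain ⟨s, hs⟩ := Unit.exists_norm hf.ne_refl hf.involutive
    (show σ a⁻¹ = a⁻¹ by rw [map_inv₀, ha, hG, Unit.self_fixed hf])
  have hs0 : s ≠ 0 := fun h => by rw [h, zero_mul] at hs; exact inv_ne_zero ha0 hs.symm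
  set z : GL (Fin 3) F := dg fun _ => Units.mk0 s hs0 with hz
  have hzv : ∀ x, z.val *ᵥ x = s • x := fun x => by rw [hz, dg_mulVec]; rfl
  refine ⟨u, hu, P * z, (mem_GU_iff_isometry hF).2 fun x y => ?_, ?_⟩
  · rw [← hermForm_eq hF, gl_mul_mulVec, gl_mul_mulVec]
    show G _ _ = Cfsg.hermForm 3 F q x y
    rw [hzv, hzv, hGs.smul_left, hGs.smul_right, RingHom.coe_coe, hGx, hermForm_eq hF, ← mul_assoc, ← mul_assoc,
      hs, inv_mul_cancel₀ ha0, one_mul]
  · rw [hP]
    ext g
    rw [mem_map_conjMap, mem_map_conjMap]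
    have hzs : z ∈ Cfsg.Geo.scalars (Fin 3) F :=
      (Cfsg.Geo.mem_scalars_iff _).2 ⟨Units.mk0 s hs0, (Matrix.smul_one_eq_diagonal _).symm⟩
    have e : (P * z)⁻¹ * g * (P * z) = P⁻¹ * g * P := by
      rw [show (P * z)⁻¹ * g * (P * z) = z⁻¹ * ((P⁻¹ * g * P) * z) by group,
        ← Geo.Asch.scalars_comm hzs (P⁻¹ * g * P), inv_mul_cancel_left]
    rw [e]

end CfsgLib.DimThreeMax
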