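import Cfsg.Agent.Lib.DimThreeMax.UnitWitness
import Cfsg.Agent.Lib.Mitchell.Final
import Cfsg.Agent.Lib.Mitchell.SevenFive

/-!
Mitchell's list for the residual maximal subgroups of the three-dimensional unitary group, in the form used for
the geometric maximal subgroups.
-/

set_option autoImplicit false

namespace CfsgLib.DimThreeMax

open Matrix
open scoped MatrixGroups

variable {F : Type*} [Field F] [Fintype F] {q : ℕ}

/-- The socles of the residual maximal subgroups of `SU₃(q)`. -/
theorem unitResidual_holds (hF : Fintype.card F = q ^ 2) (hq : 3 ≤ q) : UnitResidual F q := by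
  intro H hH hR
  obtain ⟨P, hP, ⟨hp, h⟩, -⟩ := CfsgLib.Mitchell.residual_unitary hF hq hH hR
  refine ⟨P, hP, hp, ?_⟩
  rcases h with ⟨hT, h'⟩ | h
  · refine Or.inl ⟨hT, ?_, h'⟩
    rintro rfl
    exact CfsgLib.Mitchell.false_of_seven_five (hF.trans (by norm_num)) hH hP hT
  · exact Or.inr h

end CfsgLib.DimThreeMax
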