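import Cfsg.Agent.S5778
import Cfsg.Agent.Lib.DimThreeMax.UnitNormal
import Cfsg.Agent.Lib.DimThreeMax.Arith
import Cfsg.Agent.Lib.DimThreeMax.Singer

/-!
Witnesses inside the geometric subgroups of the three-dimensional unitary group, and what they exclude.
-/

set_option autoImplicit false
set_option linter.style.haveILetI false

namespace CfsgLib.DimThreeMax

open Matrix GeomClasses
open scoped MatrixGroups

variable {F : Type*} [Field F] [Fintype F] {q : ℕ}

local notation "SU₃" q => (Cfsg.GU 3 F q ⊓ Cfsg.Geo.specialLinear (Fin 3) F)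

/-- The socles of the maximal subgroups in the residual class of `SU₃`. -/
def UnitResidual (F : Type*) [Field F] [Fintype F] (q : ℕ) : Prop :=
  ∀ H : Subgroup (GL (Fin 3) F), Cfsg.Geo.IsMaximalIn (Cfsg.GU 3 F q ⊓ Cfsg.Geo.specialLinear (Fin 3) F) H →
    Cfsg.Geo.InUnitaryResidualClass H →
    ∃ P : Subgroup (GL (Fin 3) F), Cfsg.Geo.IsResidualCore H P ∧ q.Prime ∧
    ((Nonempty ((P ⧸ (Cfsg.Geo.scalars (Fin 3) F).subgroupOf P) ≃* Matrix.ProjectiveSpecialLinearGroup (Fin 3) (ZMod 2)) ∧ q ≠ 5 ∧ (q % 7 = 3 ∨ q % 7 = 5 ∨ q % 7 = 6)) ∨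
     (Nonempty ((P ⧸ (Cfsg.Geo.scalars (Fin 3) F).subgroupOf P) ≃* alternatingGroup (Fin 6)) ∧ (q % 15 = 11 ∨ q % 15 = 14 ∨ q = 5)) ∨
     (Nonempty ((P ⧸ (Cfsg.Geo.scalars (Fin 3) F).subgroupOf P) ≃* alternatingGroup (Fin 7)) ∧ q = 5))

/-- The residual maximal subgroups as almost simple groups. -/
theorem unit_residual_cases (hres : UnitResidual F q) {H : Subgroup (GL (Fin 3) F)}
    (hH : Cfsg.Geo.IsMaximalIn (SU₃ q) H) (hR : Cfsg.Geo.InUnitaryResidualClass H) :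
    q.Prime ∧
      ((Nonempty (AlmostSimple H L32) ∧ q ≠ 5 ∧ (q % 7 = 3 ∨ q % 7 = 5 ∨ q % 7 = 6)) ∨
       (Nonempty (AlmostSimple H (alternatingGroup (Fin 6))) ∧ (q % 15 = 11 ∨ q % 15 = 14 ∨ q = 5)) ∨
       q = 5) := by
  obtain ⟨P, hc, hp, h⟩ := hres H hH hR
  refine ⟨hp, ?_⟩
  rcases h with ⟨⟨e⟩, h'⟩ | ⟨⟨e⟩, h'⟩ | ⟨-, h'⟩
  · exact Or.inl ⟨nonempty_almostSimple hc e, h'⟩
  · exact Or.inr (Or.inl ⟨nonempty_almostSimple hc e, h'⟩)
  · exact Or.inr (Or.inr h')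

theorem unit_residual_dvd {H T : Subgroup (GL (Fin 3) F)} (hH : Cfsg.Geo.IsMaximalIn (SU₃ q) H) (hT : T ≤ H) :
    (∀ _ : AlmostSimple H L32, Nat.card T ∣ 1008) ∧
      (∀ _ : AlmostSimple H (alternatingGroup (Fin 6)), Nat.card T ∣ 4320) := by
  refine ⟨fun S => ?_, fun S => ?_⟩
  · haveI : Finite L32 := Nat.finite_of_card_ne_zero (by rw [card_l32]; norm_num)
    have := S.card_dvd (hH.1.le.trans inf_le_right) hT
    rwa [card_mulAut_l32] at this
  · have := S.card_dvd (hH.1.le.trans inf_le_right) hT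
    rwa [card_mulAut_alt_six] at this

/-- Inner action on a subgroup without scalars. -/
theorem AlmostSimple.card_dvd_inner {H : Subgroup (GL (Fin 3) F)} {A : Type} [Group A] [Finite A]
    (S : AlmostSimple H A) {T : Subgroup (GL (Fin 3) F)} (hT : T ≤ H)
    (hz : ∀ x ∈ T, x ∈ Cfsg.Geo.scalars (Fin 3) F → x = 1)
    (hin : ∀ (x : GL (Fin 3) F) (hx : x ∈ T), ∃ a, S.toAut ⟨x, hT hx⟩ = MulAut.conj a) :
    Nat.card T ∣ Nat.card A := by
  let φ : T →* MulAut A := S.toAut.comp (Subgroup.inclusion hT)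
  have hinj : Function.Injective φ := (injective_iff_map_eq_one _).2 fun x hx =>
    Subtype.ext (hz _ x.2 (S.kernel _ hx))
  rw [Nat.card_congr (MonoidHom.ofInjective hinj).toEquiv,
    Nat.card_congr (MonoidHom.ofInjective S.conj_injective).toEquiv]
  refine Subgroup.card_dvd_of_le ?_
  rintro _ ⟨x, rfl⟩
  obtain ⟨a, ha⟩ := hin x.1 x.2
  exact ⟨a, ha.symm⟩

/-- An almost simple group cannot contain the torus of exponent four with the cyclic permutation acting. -/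
theorem four_torus_false {H : Subgroup (GL (Fin 3) F)} {A : Type} [Group A] [Finite A]
    (S : AlmostSimple H A) {k : ℕ} (hk : Nat.card (MulAut A) = k * Nat.card A) (hk4 : k ∣ 4)
    (h16 : ¬ 16 ∣ Nat.card A) {w : Fˣ} (hw : orderOf w = 4) (hs : shift F ∈ H)
    (hd : ∀ v : Fin 3 → Fˣ, (∀ i, v i ^ 4 = 1) → v 0 * v 1 * v 2 = 1 → dg v ∈ H) : False := by
  set Z := Subgroup.zpowers w
  have hZ : ∀ x : Z, (x : Fˣ) ^ 4 = 1 := fun x => by
    obtain ⟨j, hj⟩ := Subgroup.mem_zpowers_iff.1 x.2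
    rw [← hj, ← zpow_natCast, ← _root_.zpow_mul, mul_comm, _root_.zpow_mul, zpow_natCast, ← hw, pow_orderOf_eq_one, _root_.one_zpow]
  let ψ : Z × Z →* GL (Fin 3) F := (torusHom F).comp (Z.subtype.prodMap Z.subtype)
  have hψ : Function.Injective ψ :=
    torusHom_injective.comp (Function.Injective.prodMap Subtype.val_injective Subtype.val_injective)
  have hv : ∀ a b : Z, ∀ i, (![(a : Fˣ), b, ((a : Fˣ) * b)⁻¹] : Fin 3 → Fˣ) i ^ 4 = 1 := by
    intro a b i
    fin_cases i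
    · exact hZ a
    · exact hZ b
    · show (((a : Fˣ) * b)⁻¹) ^ 4 = 1
      rw [inv_pow, mul_pow, hZ, hZ, mul_one, inv_one]
  have hT : ψ.range ≤ H := by
    rintro _ ⟨⟨a, b⟩, rfl⟩
    exact hd _ (hv a b) (by simp)
  apply h16
  have hc : Nat.card ψ.range = 16 := by
    rw [← Nat.card_congr (MonoidHom.ofInjective hψ).toEquiv, Nat.card_prod, Nat.card_zpowers, hw]
  rw [← hc]
  refine S.card_dvd_inner hT ?_ ?_
  · rintro _ ⟨⟨a, b⟩, rfl⟩ hsc
    have e := dg_mem_scalars (F := F) (u := ![(a : Fˣ), b, ((a : Fˣ) * b)⁻¹]) hsc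
    have e1 : (a : Fˣ) = b := by simpa using e.1
    have e2 : (b : Fˣ) = ((a : Fˣ) * b)⁻¹ := by simpa using e.2
    rw [← e1] at e2
    have h3 : (a : Fˣ) ^ 3 = 1 := by
      conv_lhs => rw [pow_succ, pow_two]; arg 2; rw [e2]
      exact mul_inv_cancel _
    have h1 : (a : Fˣ) = 1 := by
      have := hZ a
      rwa [pow_succ, h3, one_mul] at this
    rw [Subtype.ext h1 (a2 := (1 : Z)), Subtype.ext (e1.symm.trans h1) (a2 := (1 : Z))]
    exact map_one ψ
  · rintro x ⟨⟨a, b⟩, rfl⟩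
    set t : Fˣ := ((b : Fˣ) * (a : Fˣ)⁻¹) ^ 3 with ht
    set v : Fin 3 → Fˣ := ![t, t * (b : Fˣ)⁻¹, t * a] with hvd
    have ht4 : t ^ 4 = 1 := by
      rw [ht, ← pow_mul, mul_comm 3 4, pow_mul, mul_pow, inv_pow, hZ, hZ, inv_one, mul_one, one_pow]
    have hv4 : ∀ i, v i ^ 4 = 1 := by
      intro i
      fin_cases i
      · exact ht4
      · show (t * (b : Fˣ)⁻¹) ^ 4 = 1
        rw [mul_pow, ht4, inv_pow, hZ, inv_one, mul_one]
      · show (t * (a : Fˣ)) ^ 4 = 1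
        rw [mul_pow, ht4, hZ, mul_one]
    have ht3 : t ^ 3 = (b : Fˣ) * (a : Fˣ)⁻¹ := by
      rw [ht, ← pow_mul, show 3 * 3 = 4 * 2 + 1 from rfl, pow_succ, pow_mul, mul_pow, inv_pow, hZ, hZ, inv_one,
        mul_one, one_pow, one_mul]
    have hprod : v 0 * v 1 * v 2 = 1 := by
      show t * (t * (b : Fˣ)⁻¹) * (t * a) = 1
      calc _ = t ^ 3 * ((b : Fˣ)⁻¹ * a) := by rw [pow_succ, pow_two]; ac_rfl
        _ = 1 := by rw [ht3]; simp [mul_comm, mul_left_comm]
    obtain ⟨c, hc'⟩ := S.inner_commutator hk hk4 ⟨shift F, hs⟩ ⟨dg v, hd v hv4 hprod⟩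
    refine ⟨c, ?_⟩
    rw [← hc']
    congr 1
    apply Subtype.ext
    show ψ (a, b) = shift F * dg v * (shift F)⁻¹ * (dg v)⁻¹
    rw [eq_mul_inv_iff_mul_eq, eq_mul_inv_iff_mul_eq, shift_mul_dg]
    show dg _ * dg v * shift F = _
    rw [dg_mul]
    congr 2
    funext i
    fin_cases i
    · show (a : Fˣ) * t = t * a
      rw [mul_comm]
    · show (b : Fˣ) * (t * (b : Fˣ)⁻¹) = t
      rw [mul_left_comm, mul_inv_cancel, mul_one]
    · show ((a : Fˣ) * b)⁻¹ * (t * a) = t * (b : Fˣ)⁻¹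
      rw [_root_.mul_inv_rev, mul_comm t, ← mul_assoc, mul_assoc _ _ (a : Fˣ), inv_mul_cancel, mul_one, mul_comm]

/-- Subgroups acting irreducibly are in no subspace stabiliser. -/
theorem unit_subspace_false {H : Subgroup (GL (Fin 3) F)}
    (hirr : ∀ W : Submodule F (Fin 3 → F), W ≠ ⊥ → H ≤ Cfsg.Geo.subspaceStabilizer W → W = ⊤)
    {W : Submodule F (Fin 3 → F)} (hW0 : W ≠ ⊥) (hW : H ≤ Cfsg.Geo.subspaceStabilizer W)
    (h : Cfsg.Geo.IsTotallySingularFor (Cfsg.hermForm 3 F q) W ∨ 2 * Module.finrank F W < 3) (hq : q ≠ 0) :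
    False := by
  have htop := hirr W hW0 hW
  subst htop
  rcases h with h | h
  · have := h (Pi.single 0 1) Submodule.mem_top (Pi.single 0 1) Submodule.mem_top
    simp [Cfsg.hermForm, Pi.single_apply, hq] at this
  · rw [finrank_top, Module.finrank_fin_fun] at h
    omega

/-- The list of maximal subgroups above an irreducible witness. -/
theorem unit_cases (hF : Fintype.card F = q ^ 2) (hq : 3 ≤ q) {H : Subgroup (GL (Fin 3) F)}
    (hH : Cfsg.Geo.IsMaximalIn (SU₃ q) H)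
    (hirr : ∀ W : Submodule F (Fin 3 → F), W ≠ ⊥ → H ≤ Cfsg.Geo.subspaceStabilizer W → W = ⊤) :
    (q ≠ 5 ∧ ∃ D : Fin 3 → Submodule F (Fin 3 → F), Cfsg.Geo.IsNondegenerateMDecomposition (Cfsg.hermForm 3 F q) 1 D ∧ H = Cfsg.Geo.decompositionStabilizer D ⊓ (SU₃ q)) ∨
    (q ≠ 3 ∧ q ≠ 5 ∧ ∃ K : Subalgebra F (Matrix (Fin 3) (Fin 3) F), Cfsg.Geo.IsFieldSubalgebra 3 K ∧ Cfsg.Geo.IsAdjointClosedFor (Cfsg.hermForm 3 F q) K ∧ H = Cfsg.Geo.subalgebraNormalizer K ⊓ (SU₃ q)) ∨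
    (∃ (F₀ : Subfield F) (r : ℕ) (P : GL (Fin 3) F), r.Prime ∧ Odd r ∧ Fintype.card F = Nat.card F₀ ^ r ∧ Cfsg.Geo.IsFormRationalStructure (Cfsg.hermForm 3 F q) F₀ 1 P ∧ H = Cfsg.Geo.subfieldSubgroup F₀ P ⊓ (SU₃ q)) ∨
    (Odd q ∧ 7 ≤ q ∧ ∃ (F₀ : Subfield F) (P : GL (Fin 3) F), Fintype.card F = Nat.card F₀ ^ 2 ∧ Cfsg.Geo.IsFormRationalStructure (Cfsg.hermForm 3 F q) F₀ 1 P ∧ H = Cfsg.Geo.subfieldSubgroup F₀ P ⊓ (SU₃ q)) ∨
    (∃ R : Subgroup (GL (Fin 3) F), q.Prime ∧ q % 3 = 2 ∧ 11 ≤ q ∧ Extra27 R ∧ (∀ x ∈ R, x ^ 3 = 1) ∧ R ≤ Cfsg.Geo.similarityGroup (Cfsg.hermForm 3 F q) ∧ H = Cfsg.Geo.subgroupNormalizer R ⊓ (SU₃ q)) ∨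
    Cfsg.Geo.InUnitaryResidualClass H := by
  rcases Cfsg.Agent.S5778.result q hF hq H hH with ⟨W, h0, hW, rfl⟩ | ⟨W, h0, -, hW, rfl⟩ | h | h | h | h |
    ⟨p, R, hp, rfl, hp3, hp11, hsym, habs, hRs, hcard, hcen, rfl⟩ | h
  · exact (unit_subspace_false hirr h0 inf_le_left (Or.inl hW) (by omega)).elim
  · exact (unit_subspace_false (q := q) hirr h0 inf_le_left (Or.inr hW) (by omega)).elim
  · exact Or.inl h
  · exact Or.inr (Or.inl h)
  · exact Or.inr (Or.inr (Or.inl h))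
  · exact Or.inr (Or.inr (Or.inr (Or.inl h)))
  · refine Or.inr (Or.inr (Or.inr (Or.inr (Or.inl ⟨R, hp, hp3, hp11, ⟨hcard, hcen, habs⟩, ?_, hRs, rfl⟩))))
    intro x hx
    have h1 := Monoid.pow_exponent_eq_one (⟨x, hx⟩ : R)
    rw [hsym.exponent_eq] at h1
    exact congrArg Subtype.val h1
  · exact Or.inr (Or.inr (Or.inr (Or.inr (Or.inr h))))

theorem dg_mem_su (hF : Fintype.card F = q ^ 2) {v : Fin 3 → Fˣ} (hv : ∀ i, (v i : F) * (v i : F) ^ q = 1)
    (h : v 0 * v 1 * v 2 = 1) : dg v ∈ SU₃ q := by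
  refine ⟨(mem_GU_iff_isometry hF).2 fun x y => ?_, mem_specialLinear.2 ?_⟩
  · simp only [stdHerm, dg_mulVec, map_mul, UnitPow.conj_apply]
    refine Finset.sum_congr rfl fun i _ => ?_
    linear_combination (x i * y i ^ q) * hv i
  · rw [dg_det, ← Units.val_mul, ← Units.val_mul, h, Units.val_one]

theorem shift_mem_su (hF : Fintype.card F = q ^ 2) : shift F ∈ SU₃ q := by
  refine ⟨(mem_GU_iff_isometry hF).2 fun x y => ?_, shift_mem_specialLinear⟩
  simp only [stdHerm, shift_mulVec, Fin.sum_univ_three, UnitPow.conj_apply]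
  simp
  ring

/-- A generator of the norm one group. -/
theorem exists_norm_one_gen (hF : Fintype.card F = q ^ 2) :
    ∃ u : Fˣ, orderOf u = q + 1 ∧ ∀ x ∈ Subgroup.zpowers u, (x : F) * (x : F) ^ q = 1 := by
  have h2 := UnitPow.two_le hF
  obtain ⟨g, hg⟩ := IsCyclic.exists_ofOrder_eq_natCard (α := Fˣ)
  rw [Nat.card_units, Nat.card_eq_fintype_card, hF] at hg
  have hqq : q ^ 2 - 1 = (q - 1) * (q + 1) := by rw [mul_comm (q - 1), ← mul_self_tsub_one, pow_two]
  have hord : orderOf (g ^ (q - 1)) = q + 1 := by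
    rw [orderOf_pow' g (by omega), hg, hqq, Nat.gcd_eq_right (Dvd.intro _ rfl), Nat.mul_div_cancel_left _ (by omega)]
  refine ⟨g ^ (q - 1), hord, fun x hx => ?_⟩
  obtain ⟨j, rfl⟩ := Subgroup.mem_zpowers_iff.1 hx
  rw [← pow_succ', ← Units.val_pow_eq_pow_val, ← zpow_natCast, ← _root_.zpow_mul, mul_comm, _root_.zpow_mul, zpow_natCast,
    ← hord, pow_orderOf_eq_one, _root_.one_zpow, Units.val_one]

/-- The torus of norm one elements inside the monomial group. -/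
theorem unit_torus (hF : Fintype.card F = q ^ 2) :
    ∃ u : Fˣ, orderOf u = q + 1 ∧ (u : F) ^ q = (u : F)⁻¹ ∧
      HasTorus (Cfsg.Geo.decompositionStabilizer (axes F) ⊓ (SU₃ q)) u ∧
      (∀ v : Fin 3 → Fˣ, (∀ i, v i ^ (q + 1) = 1) → v 0 * v 1 * v 2 = 1 →
        dg v ∈ Cfsg.Geo.decompositionStabilizer (axes F) ⊓ (SU₃ q)) ∧
      ∃ T : Subgroup (GL (Fin 3) F), T ≤ Cfsg.Geo.decompositionStabilizer (axes F) ⊓ (SU₃ q) ∧
        Nat.card T = (q + 1) ^ 2 := by
  obtain ⟨u, hu, hn⟩ := exists_norm_one_gen hF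
  have hmem : ∀ v : Fin 3 → Fˣ, (∀ i, v i ^ (q + 1) = 1) → v 0 * v 1 * v 2 = 1 →
      dg v ∈ Cfsg.Geo.decompositionStabilizer (axes F) ⊓ (SU₃ q) := fun v hv h =>
    ⟨dg_mem_axes v, dg_mem_su hF (fun i => by
      rw [← pow_succ', ← Units.val_pow_eq_pow_val, hv, Units.val_one]) h⟩
  have hpow : ∀ x ∈ Subgroup.zpowers u, x ^ (q + 1) = 1 := fun x hx => by
    apply Units.ext
    rw [Units.val_pow_eq_pow_val, pow_succ', Units.val_one, hn x hx]
  have hu1 : u ^ (q + 1) = 1 := hpow u (Subgroup.mem_zpowers u)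
  refine ⟨u, hu, eq_inv_of_mul_eq_one_right (hn u (Subgroup.mem_zpowers u)),
    ⟨hmem _ (fun i => by fin_cases i <;> simp [hu1]) (by simp), ⟨shift_mem_axes, shift_mem_su hF⟩⟩, hmem, ?_⟩
  set Z := Subgroup.zpowers u
  let ψ : Z × Z →* GL (Fin 3) F := (torusHom F).comp (Z.subtype.prodMap Z.subtype)
  have hψ : Function.Injective ψ :=
    torusHom_injective.comp (Function.Injective.prodMap Subtype.val_injective Subtype.val_injective)
  refine ⟨ψ.range, ?_, ?_⟩
  · rintro _ ⟨⟨a, b⟩, rfl⟩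
    refine hmem _ (fun i => ?_) (by simp)
    fin_cases i
    · exact hpow a a.2
    · exact hpow b b.2
    · exact hpow _ (Z.inv_mem (Z.mul_mem a.2 b.2))
  · rw [← Nat.card_congr (MonoidHom.ofInjective hψ).toEquiv, Nat.card_prod, Nat.card_zpowers, hu, pow_two]

section roots

variable {σ : F →+* F} {E : Subfield F} {u w : Fin 3 → F}

/-- Root data for the hermitian form. -/
theorem unit_rootData (hF : Fintype.card F = q ^ 2) (htr : ∃ e ∈ E, e + e ^ q ≠ 0) (hu : IsRatVec E u)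
    (hw : IsRatVec E w) (hu0 : u ≠ 0) (hiso : Cfsg.hermForm 3 F q u u = 0) (horth : Cfsg.hermForm 3 F q w u = 0)
    (hw0 : Cfsg.hermForm 3 F q w w ≠ 0) :
    RootData (UnitPow.conj hF : F →+* F) (Cfsg.hermForm 3 F q) E u w :=
  { toHermLike := hermLike_unitary (UnitPow.isUnitaryForm_hermForm hF 3)
    stable := fun x hx => pow_mem hx q
    trace_ne := htr
    rat := fun x y hx hy => E.sum_mem fun i _ => E.mul_mem (hx i) (pow_mem (hy i) q)
    u_rat := hu
    w_rat := hw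
    u_ne := hu0
    iso := hiso
    orth := horth
    aniso := hw0 }

theorem RootData.group_le_su (hF : Fintype.card F = q ^ 2)
    (D : RootData (UnitPow.conj hF : F →+* F) (Cfsg.hermForm 3 F q) E u w) : D.group ≤ SU₃ q :=
  fun g hg => ⟨UnitPow.mem_GU.2 (D.group_isometry g hg), D.group_le_specialLinear hg⟩

/-- A root group is in no normaliser of a group of order 27. -/
theorem RootData.extra_false {f : (Fin 3 → F) → (Fin 3 → F) → F} (D : RootData σ f E u w)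
    {R : Subgroup (GL (Fin 3) F)} (hE : Extra27 R) {p : ℕ} (hp : p.Prime) [CharP F p] (h5 : 5 ≤ p) :
    ¬ D.group ≤ Cfsg.Geo.subgroupNormalizer R := by
  intro hD
  haveI : Fact p.Prime := ⟨hp⟩
  obtain ⟨γ, -, hp', hg⟩ := D.exists_param E.one_mem
  set g := rootEl f u ((1 : F) • w) γ
  have hgp : g ^ p = 1 := by
    apply Units.ext
    rw [Units.val_pow_eq_pow_val, Units.val_one, ← sub_eq_zero]
    have hc : (g.val - 1) ^ p = g.val ^ p - 1 := by
      haveI : CharP (Matrix (Fin 3) (Fin 3) F) p := Matrix.charP p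
      rw [sub_pow_char_of_commute _ (Commute.one_right _), one_pow]
    rw [← hc, ← Nat.sub_add_cancel (show 3 ≤ p by omega), pow_add, D.group_unipotent g hg, mul_zero]
  obtain ⟨c, hc⟩ := (Cfsg.Geo.mem_scalars_iff _).1 (hE.prime_scalar (hD hg) hp h5 hgp)
  have hu := D.group_unipotent g hg
  rw [hc] at hu
  have hc1 : (c : F) = 1 := by
    have := congrFun (congrFun hu 0) 0
    rw [show ((c : F) • (1 : Matrix (Fin 3) (Fin 3) F)) - 1 = ((c : F) - 1) • 1 by rw [sub_smul, one_smul],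
      smul_pow, one_pow] at this
    simpa [sub_eq_zero] using this
  obtain ⟨x, hx⟩ := (D.nondeg u D.u_ne).1
  have e := D.toHermLike.root_sub_one D.iso hp'.orth γ x
  rw [hc, hc1, one_smul, sub_self, Matrix.zero_mulVec] at e
  have e' := congrArg (fun z => f z w) e
  simp only [D.sesq.add_left, D.sesq.smul_left, D.sesq.zero_left, D.toHermLike.eq_zero_comm D.orth, mul_zero,
    add_zero, one_mul] at e'
  exact mul_ne_zero hx D.aniso e'.symm

end roots

/-- A vector of norm minus one in a subfield moved by the involution. -/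
theorem exists_norm_neg_one (hF : Fintype.card F = q ^ 2) {E : Subfield F} (h : ∃ x ∈ E, x ^ q ≠ x) :
    ∃ b ∈ E, b * b ^ q = -1 := by
  haveI : Finite E := Subtype.finite
  letI : Fintype E := Fintype.ofFinite _
  let σ₀ : E ≃+* E :=
    { toFun := fun a => ⟨(a : F) ^ q, pow_mem a.2 q⟩
      invFun := fun a => ⟨(a : F) ^ q, pow_mem a.2 q⟩
      left_inv := fun a => Subtype.ext ((UnitPow.conj hF).left_inv _)
      right_inv := fun a => Subtype.ext ((UnitPow.conj hF).right_inv _)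
      map_mul' := fun a b => Subtype.ext (mul_pow (a : F) (b : F) q)
      map_add' := fun a b => Subtype.ext (UnitPow.add_pow_q hF (a : F) b) }
  obtain ⟨b, hb⟩ := Unit.exists_norm (σ := σ₀) (fun h' => by
      obtain ⟨x, hx, hxq⟩ := h
      exact hxq (congrArg Subtype.val (DFunLike.congr_fun h' ⟨x, hx⟩)))
    (fun a => σ₀.left_inv a) (b := -1) (by rw [map_neg, map_one])
  exact ⟨b, b.2, by simpa [σ₀] using congrArg Subtype.val hb⟩

/-- Two root groups with non-orthogonal centres over a moved subfield. -/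
theorem exists_roots_moved (hF : Fintype.card F = q ^ 2) {E : Subfield F} (h : ∃ x ∈ E, x ^ q ≠ x) :
    ∃ u w u' w' : Fin 3 → F,
      RootData (UnitPow.conj hF : F →+* F) (Cfsg.hermForm 3 F q) E u w ∧
      RootData (UnitPow.conj hF : F →+* F) (Cfsg.hermForm 3 F q) E u' w' ∧
      Cfsg.hermForm 3 F q u u' ≠ 0 := by
  have hq0 : q ≠ 0 := by have := UnitPow.two_le hF; omega
  obtain ⟨b, hb, hbb⟩ := exists_norm_neg_one hF h
  have hb0 : b ≠ 0 := fun h0 => by rw [h0, zero_mul] at hbb; exact neg_ne_zero.2 one_ne_zero hbb.symm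
  have htr : ∃ e ∈ E, e + e ^ q ≠ 0 := by
    by_contra hall
    push Not at hall
    obtain ⟨x, hx, hxq⟩ := h
    have h1 := hall 1 E.one_mem
    rw [one_pow] at h1
    exact hxq (by linear_combination hall x hx - x * h1)
  refine ⟨![1, b, 0], Pi.single 2 1, ![0, 1, b], Pi.single 0 1, unit_rootData hF htr ?_ ?_ ?_ ?_ ?_ ?_,
    unit_rootData hF htr ?_ ?_ ?_ ?_ ?_ ?_, ?_⟩
  · intro i; fin_cases i <;> simp [hb, E.one_mem, E.zero_mem]
  · intro i; fin_cases i <;> simp [E.one_mem, E.zero_mem]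
  · intro h0; simpa using congrFun h0 0
  · simp [Cfsg.hermForm, Fin.sum_univ_three, hq0, hbb]
  · simp [Cfsg.hermForm, Fin.sum_univ_three, hq0]
  · simp [Cfsg.hermForm, Fin.sum_univ_three, hq0]
  · intro i; fin_cases i <;> simp [hb, E.one_mem, E.zero_mem]
  · intro i; fin_cases i <;> simp [E.one_mem, E.zero_mem]
  · intro h0; simpa using congrFun h0 1
  · simp [Cfsg.hermForm, Fin.sum_univ_three, hq0, hbb]
  · simp [Cfsg.hermForm, Fin.sum_univ_three, hq0]
  · simp [Cfsg.hermForm, Fin.sum_univ_three, hq0]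
  · simp [Cfsg.hermForm, Fin.sum_univ_three, hq0, hb0]

/-- Two root groups over the fixed subfield in odd characteristic. -/
theorem exists_roots_fixed (hF : Fintype.card F = q ^ 2) (h2 : (2 : F) ≠ 0) {E : Subfield F}
    (hfix : ∀ x ∈ E, x ^ q = x) :
    ∃ u w u' w' : Fin 3 → F,
      RootData (UnitPow.conj hF : F →+* F) (Cfsg.hermForm 3 F q) E u w ∧
      RootData (UnitPow.conj hF : F →+* F) (Cfsg.hermForm 3 F q) E u' w' ∧
      Cfsg.hermForm 3 F q u u' ≠ 0 := by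
  haveI : Finite E := Subtype.finite
  letI : Fintype E := Fintype.ofFinite _
  have hq0 : q ≠ 0 := by have := UnitPow.two_le hF; omega
  have hodd : Fintype.card E % 2 = 1 := by
    refine FiniteField.odd_card_of_char_ne_two fun h' => h2 ?_
    haveI : CharP E 2 := ringChar.of_eq h'
    simpa [map_ofNat] using congrArg (E.subtype : E →+* F) (CharP.cast_eq_zero E 2)
  obtain ⟨b, c, hbc⟩ := FiniteField.exists_root_sum_quadratic (R := E)
    (f := Polynomial.X ^ 2) (g := Polynomial.X ^ 2 + Polynomial.C 1) (Polynomial.degree_X_pow 2)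
    (Polynomial.degree_X_pow_add_C (by norm_num) _) hodd
  have hbc' : (b : F) * b + ((c : F) * c + 1) = 0 := by
    have := congrArg Subtype.val hbc
    simpa [pow_two] using this
  have hb := hfix _ b.2
  have hc := hfix _ c.2
  have h1 : (1 : F) ^ q = 1 := one_pow q
  have hn : ((-1 : F)) ^ q = -1 := hfix _ (E.neg_mem E.one_mem)
  have hnc : (-(c : F)) ^ q = -(c : F) := hfix _ (E.neg_mem c.2)
  have htr : ∃ e ∈ E, e + e ^ q ≠ 0 := ⟨1, E.one_mem, by rwa [one_pow, one_add_one_eq_two]⟩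
  refine ⟨![1, (b : F), c], ![0, -(c : F), b], ![-1, (b : F), c], ![0, -(c : F), b],
    unit_rootData hF htr ?_ ?_ ?_ ?_ ?_ ?_, unit_rootData hF htr ?_ ?_ ?_ ?_ ?_ ?_, ?_⟩
  · intro i; fin_cases i <;> simp [E.one_mem]
  · intro i; fin_cases i <;> simp [E.zero_mem]
  · intro h0; simpa using congrFun h0 0
  · simp [Cfsg.hermForm, Fin.sum_univ_three, hb, hc]; linear_combination hbc'
  · simp [Cfsg.hermForm, Fin.sum_univ_three, hb, hc, hq0]; ring
  · simp [Cfsg.hermForm, Fin.sum_univ_three, hb, hnc, hq0]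
    intro e; exact one_ne_zero (α := F) (by linear_combination hbc' - e)
  · intro i; fin_cases i <;> simp [E.one_mem]
  · intro i; fin_cases i <;> simp [E.zero_mem]
  · intro h0; simpa using congrFun h0 0
  · simp [Cfsg.hermForm, Fin.sum_univ_three, hb, hc, hn]; linear_combination hbc'
  · simp [Cfsg.hermForm, Fin.sum_univ_three, hb, hc, hq0]; ring
  · simp [Cfsg.hermForm, Fin.sum_univ_three, hb, hnc, hq0]
    intro e; exact one_ne_zero (α := F) (by linear_combination hbc' - e)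
  · simp [Cfsg.hermForm, Fin.sum_univ_three, hb, hc, hn]
    intro e; exact h2 (by linear_combination hbc' - e)

theorem fourier_mem_gu (hF : Fintype.card F = q ^ 2) {u : Fˣ} (hu : CubeRoot u) (huq : (u : F) ^ q = (u : F) ^ 2) :
    fourier hu ∈ Cfsg.GU 3 F q := by
  refine (mem_GU_iff_isometry hF).2 fun x y => ?_
  set σ := UnitPow.conj hF
  have hσu : σ (u : F) = (u : F) ^ 2 := huq
  set d : F := (u : F) - (u : F) ^ 2 with hd
  have hσd : σ d⁻¹ = -d⁻¹ := by
    rw [map_inv₀, hd, map_sub, map_pow, hσu, ← inv_neg]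
    congr 1
    linear_combination -(u : F) * hu.cube
  have hv : ∀ x : Fin 3 → F, (fourier hu).val *ᵥ x = d⁻¹ • ![x 0 + x 1 + x 2, x 0 + (u : F) * x 1 + (u : F) ^ 2 * x 2,
      x 0 + (u : F) ^ 2 * x 1 + (u : F) * x 2] := fun x => by
    show fourierMat u *ᵥ x = _
    rw [fourierMat, Matrix.smul_mulVec]
    congr 1
    funext i
    fin_cases i <;> simp [charTable, Matrix.mulVec, dotProduct, Fin.sum_univ_three]
  have hd2 : d ^ 2 = -3 := hu.diff_sq
  have hd0 : d ≠ 0 := hu.diff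
  rw [hv, hv]
  simp only [stdHerm, Fin.sum_univ_three, Pi.smul_apply, smul_eq_mul, map_mul, hσd]
  simp [map_add, map_mul, map_pow, hσu]
  field_simp
  linear_combination
    (-(x 0 * (σ (y 1) + σ (y 2)))) * (hu.sum + (u : F) * hu.cube) - (x 1 + x 2) * σ (y 0) * hu.sum
      - (x 1 * σ (y 2) + x 2 * σ (y 1)) * (hu.sum + ((u : F) ^ 2 + u) * hu.cube)
      - (x 1 * σ (y 1) + x 2 * σ (y 2)) * ((u : F) ^ 3 + 2) * hu.cube
      - (x 0 * σ (y 0) + x 1 * σ (y 1) + x 2 * σ (y 2)) * hd2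

/-- The witnesses in the normaliser of a group of order 27 of isometries. -/
theorem unit_c6_witness (hF : Fintype.card F = q ^ 2) {u : Fˣ} (hu : CubeRoot u) (huq : (u : F) ^ q = (u : F) ^ 2)
    {P : GL (Fin 3) F} (hP : P ∈ Cfsg.GU 3 F q) :
    HasC6 (Cfsg.Geo.subgroupNormalizer ((heis u).map (conjMap P)) ⊓ (SU₃ q)) P hu ∧
      (heis u).map (conjMap P) ≤ SU₃ q := by
  have hC := c6_witness hu P
  have hun : (u : F) * (u : F) ^ q = 1 := by rw [huq, ← pow_succ', hu.cube]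
  have hu2 : ((u : F) ^ 2) * ((u : F) ^ 2) ^ q = 1 := by
    rw [← pow_mul, mul_comm 2 q, pow_mul, ← mul_pow, hun, one_pow]
  have hclock : clock u ∈ Cfsg.GU 3 F q := (mem_GU_iff_isometry hF).2 fun x y => by
    simp only [stdHerm, clock, dg_mulVec, Fin.sum_univ_three, map_mul, UnitPow.conj_apply]
    simp
    linear_combination (x 1 * y 1 ^ q) * hun + (x 2 * y 2 ^ q) * hu2
  have htwist : twist u ∈ Cfsg.GU 3 F q := (mem_GU_iff_isometry hF).2 fun x y => by
    simp only [stdHerm, twist, dg_mulVec, Fin.sum_univ_three, map_mul, UnitPow.conj_apply]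
    simp
    linear_combination (x 2 * y 2 ^ q) * hun
  have hshift := (shift_mem_su (q := q) hF).1
  have hf := fourier_mem_gu hF hu huq
  have hc : ∀ g ∈ Cfsg.GU 3 F q, P * g * P⁻¹ ∈ Cfsg.GU 3 F q := fun g hg =>
    Subgroup.mul_mem _ (Subgroup.mul_mem _ hP hg) (Subgroup.inv_mem _ hP)
  refine ⟨⟨⟨hC.clock_mem.1, hc _ hclock, hC.clock_mem.2⟩, ⟨hC.shift_mem.1, hc _ hshift, hC.shift_mem.2⟩,
    ⟨hC.four_mem.1, hc _ hf, hC.four_mem.2⟩,
    ⟨hC.four'_mem.1, hc _ (Subgroup.mul_mem _ (Subgroup.mul_mem _ htwist hf) (Subgroup.inv_mem _ htwist)),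
      hC.four'_mem.2⟩⟩, ?_⟩
  rw [Subgroup.map_le_iff_le_comap, heis, Subgroup.closure_le]
  rintro g (rfl | rfl)
  · exact ⟨hc _ hclock, hC.clock_mem.2⟩
  · exact ⟨hc _ hshift, hC.shift_mem.2⟩

/-- A determinant one isometry of order `q² - q + 1` in an adjoint-closed cubic field. -/
theorem exists_unit_singer (hF : Fintype.card F = q ^ 2) (hq : 3 ≤ q) {K : Subalgebra F (Matrix (Fin 3) (Fin 3) F)}
    (hK : Cfsg.Geo.IsFieldSubalgebra 3 K) (hadj : Cfsg.Geo.IsAdjointClosedFor (Cfsg.hermForm 3 F q) K) :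
    ∃ (c : GL (Fin 3) F) (m : ℕ), IsSinger K c m ∧ c ∈ (SU₃ q) ∧ m + q = q ^ 2 + 1 := by
  obtain ⟨c₀, h₀⟩ := exists_singer hK (by rw [hF]; nlinarith)
  obtain ⟨j, hj⟩ : ∃ j, q = j + 1 := ⟨q - 1, by omega⟩
  obtain ⟨m, hm⟩ : ∃ m, m = q * j + 1 := ⟨_, rfl⟩
  have hmq : m + q = q ^ 2 + 1 := by rw [hm, hj]; ring
  have hM : Fintype.card F ^ 2 + Fintype.card F + 1 = (q ^ 2 + q + 1) * m := by rw [hF, hm, hj]; ring
  have hm3 : 3 < m := by rw [hm]; nlinarith
  have hcq : q ^ 3 + 1 = (q + 1) * m := by rw [hm, hj]; ring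
  have hord : orderOf (c₀ ^ (q ^ 2 + q + 1)) = m := by
    rw [orderOf_pow' c₀ (by omega), h₀.order, hM, Nat.gcd_eq_right (Dvd.intro _ rfl), Nat.mul_div_cancel_left _ (by omega)]
  have hS : IsSinger K (c₀ ^ (q ^ 2 + q + 1)) m :=
    { field := hK
      mem := by rw [Units.val_pow_eq_pow_val]; exact pow_mem h₀.mem _
      det := Subgroup.pow_mem _ h₀.det _
      order := hord
      odd := by
        rw [hm, hj, mul_comm]
        exact (Nat.even_mul_succ_self j).add_one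
      nine := fun h9 => by
        have h := Nat.mod_eq_zero_of_dvd h9
        have : j % 9 < 9 := Nat.mod_lt _ (by norm_num)
        rw [hm, hj, Nat.add_mod, Nat.mul_mod, Nat.add_mod j] at h
        interval_cases hr : j % 9 <;> simp at h
      big := hm3 }
  refine ⟨_, m, hS, ⟨UnitPow.mem_GU.2 fun x y => ?_, hS.det⟩, hmq⟩
  have hf := UnitPow.isUnitaryForm_hermForm hF 3
  rcases exists_adjoint hK (Unit.sesq hf) hf.nondegenerate hf.involutive hf.herm hadj with hl | ⟨s, hs, hr⟩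
  · exfalso
    apply hf.ne_refl
    refine RingEquiv.ext fun a => ?_
    have h := hl (algebraMap F _ a) (K.algebraMap_mem a) (Pi.single 0 1) (Pi.single 0 1)
    simp only [Algebra.algebraMap_eq_smul_one, Matrix.smul_mulVec, Matrix.one_mulVec] at h
    rw [Unit.smul_left hf, Unit.smul_right hf] at h
    have h1 : Cfsg.hermForm 3 F q (Pi.single 0 1) (Pi.single 0 1) = 1 := by
      simp [Cfsg.hermForm, Pi.single_apply, show q ≠ 0 by omega]
    rw [h1, mul_one, mul_one] at h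
    exact h.symm
  · have hs3 : s = q ^ 3 := Nat.pow_left_injective two_ne_zero (by
      show s ^ 2 = (q ^ 3) ^ 2
      rw [pow_two s, hs, hF]; ring)
    rw [hr _ hS.mem, Matrix.mulVec_mulVec, ← pow_succ, ← Units.val_pow_eq_pow_val, hs3, hcq, mul_comm (q + 1) m,
      pow_mul, ← hord, pow_orderOf_eq_one, one_pow, Units.val_one, Matrix.one_mulVec]

end CfsgLib.DimThreeMax
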